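import Mathlib

/-! Data: the generators used in the multiplier certificate. -/

set_option autoImplicit false

namespace Cfsg.Agent.JankoTwo.Mult

/-- The codes of the new generators. -/
def newCodes : List ℕ :=
  [0x298aa242691e353975432500e6d9f25b0a42ac424256f2289d305bb3d30a402ce1e432882b0a6d14d288a9370ec4a32a7842a0d60c72318d01308bb9520a0491096e06a2acdcca63b60bb1f1ebcc6b15182540cb46219c768f759916022391e884417bc3612217ea32090307858d882349e5aa5a261cca4370cc08eccc231dd72cb604b184ad2892982fb69bb12d2676af510b80e2796a8b59ac85c2f57b35df353c358542d8d9422c3895a952603929c0e87d4899532236baea3a9430a38e2905f0551b27782f0c4c944a19468480be8ae4f729f810363d86d54fe7e2b940331383536b618b7d023c711a92ee18344e2f3331a1d42c37c978bf072dbfcde5836c7268f488c60c13a0f27e28bf41b15d0da163208ace219fe16401f8f9c6d95d8e87320134b82e344e958b2f674caa1d3615c1452f169342631e9092600200fa00cd237306a44187a921241487840b92997c91cf3205b75b89c038a1f0043a8080200,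
   0x29934467d9a5e9149384cd61516c4024e302bb4203199af09cca5bb3d3057184452ad07811c3ad1602892f346581a3d2e43ab4b2d4723d5ec5a2e1dc54dd6e0504c2e312d12c929bac15c684ec2615354281c511b0783a545601a717a22391e8ff0b962e5467341122090338190d8ba561e5ab0c5faee311c91110da5089c90de532a9d1289e301292717698ddd32669361c4b891aa022fe248344efa54be61cd7539795eb655ce8865d70c58c27535311eeea38ce447218abf63ac560bf120912599d1a7d3e008182587829e6091937cbe4f729f9188b28b99ac36830e140c67039d36db648bd9ad998a7e6cf8470909ada31bfd42c340aa949072dc221a1e903b18e2c640a4f6cc40494ca3447b0966de8d4e08ace529007e42208f86a181087032765f1e07a4c0ba0e511f374025e5415c14a4f158c0510664cba076200f962323a0d06c723c198226102994b56b2977bb9648905a1908167944a560475a280200,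
   0x4d9625835ce876880d879bb0e0689040823696514b7208487ea58045a2e2d878d59a091c435651490c885d1879828f8cf8fcc234f70f9b1a677600a9f2e0131da03230a1a182a22a84e0a4c86320a6d689b7cd2e7458bca8ec3facd021a7802d36644009d5104791aa627e5a3697e7818bd138a184aa82203881ba3a9a4727450f639838b44f4b0d1fb076c8accebc2e2e89a159424c38db7546672a9232515a970cb4960e1028a64833303f1a8564f81d94d572b308e5e5630c72ae5b199223225b2c907a77ca47b3443884be7122cb1d2e375b70fb110ea300cd8844087c3c63989084a2933a570a9bb79e2fe5ea48a0e4011c886a342a60babb18316553828a81f6ed7a9bcae656208972f8479c0928d4cabd06183090a4e37929d512749a8952b1b200123cc252241ae5b7745640235f4194cc97140c752e161390d2d85cc8f6b599ba156440082170ff7d499a2100631a5e0f7344a38164f1e54e366818c2e00,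
   0x3362407304d93f01572d1ccb62ec797e3b8c10a0ee7392b58abd7005dec20324b802a5360385b2b01459800b814e4568d829793c7b3f384defc94c1a1ede1ac4e683e470e89f084a3e9caa65d4848a1858995e21a2d9f59c495e240c470944c5f2955f15e152318c1100c901b5868a065368ee931c2a10c53443b674191635db8061082a4a8b14844d51596b8e48eb0abdc0826204c00b324b9cde69104cce4c162088932d226be2387c001c436d89ac34f29c141e1525f59971c8fb6a1b960ea273fe205a62030accf43b44aa841f9fc7add4142ddca4860793a9a6a960604a5949d44e884a48671b09304542504185e51f283a4cd374c43a5e9677a303a76712250a1c6812c78637ea3d4e24291d1d810178c9ea0d1b4a956b741c010251963f83ed31390e06d936919be75238ba32cb889a5869b1bae0d04c11aa98f201c9e8b25450bc198f4912b176130a1ad844807c68888a8a3195e679c3216ab96dc5e3aa3]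

/-- The new generators as words in the reflections. -/
def newWords : List (List ℕ) :=
  [[2, 0, 3, 0, 2, 1, 3, 0, 2, 0, 3, 0, 1, 0],
   [3, 2, 0, 3, 1, 0, 3, 0, 2, 1, 3, 2, 0, 2, 1],
   [3, 2, 1, 0, 3, 1, 0, 3, 2, 0, 2, 1, 0, 2],
   [3, 2, 1, 3, 1, 2, 3]]

/-- The reflections as words in the new generators. -/
def oldWords : List (List ℕ) :=
  [[2, 0, 2, 0, 2, 0, 2, 0],
   [3, 2, 1, 2, 0, 3, 1, 2, 0, 1, 2],
   [3, 2, 3, 1, 0, 1, 3, 2, 0, 1, 0, 2, 0],
   [3, 0, 1, 0, 2, 1, 3, 1, 0, 1, 2, 1, 2, 0, 0]]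

/-- An even product of reflections equal to `-1`. -/
def negWord : List ℕ := [262, 293, 154, 249, 151, 145]

end Cfsg.Agent.JankoTwo.Mult
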