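import Cfsg.Agent.StemCert.Defs

/-! Data of a multiplier certificate. -/

set_option autoImplicit false
set_option maxRecDepth 100000
set_option maxHeartbeats 0
set_option linter.all false

namespace Cfsg.Agent.JankoTwo.Mult

open Cfsg.Agent.StemCert

/-- Transversal of level 0. -/
def words0 : Arr (List ℕ) :=
  (.node [] (.node [3] (.node [1,3] (.node [2,0,3] (.node [2,0,0,3] (.node [3,2,1,3] (.node [2,3,2,0,3] (.node [0,0,2,1,0,3] (.node [0,2,3,1,2,0,3] .nil .nil) .nil) (.node [3,2,1,3,1,3] .nil .nil)) (.node [0,2,0,2,3] (.node [2,0,3,0,1,3] (.node [3,0,3,2,0,2,3] .nil .nil) .nil) (.node [1,0,3,2,0,0,3] .nil .nil))) (.node [1,3,0,0,3] (.node [0,1,2,1,3] (.node [1,2,1,2,0,3] (.node [2,0,2,1,2,1,3] .nil .nil) .nil) (.node [0,1,2,1,0,0,3] .nil .nil))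 (.node [2,3,1,0,0,3] (.node [1,3,1,2,1,3] (.node [3,1,2,1,2,1,0,3] .nil .nil) .nil) (.node [1,3,1,2,1,0,3] .nil .nil)))) (.node [0,3,0,3] (.node [1,3,2,3] (.node [1,2,0,1,3] (.node [3,2,3,1,0,3] (.node [3,2,3,1,0,1,3] .nil .nil) .nil) (.node [3,2,0,3,2,3] .nil .nil)) (.node [3,2,3,2,3] (.node [2,3,0,2,1,3] (.node [2,3,1,3,1,0,0,3] .nil .nil) .nil) (.node [1,0,3,0,1,0,3] .nil .nil))) (.node [0,0,2,0,3] (.node [2,0,3,1,3] (.node [3,0,0,3,0,3] (.node [2,3,2,3,2,1,3] .nil .nil) .nil) (.node [3,1,3,1,0,0,3] .nil .nil)) (.node [3,0,3,0,0,3] (.node [0,2,0,3,1,3] (.node [1,3,1,2,1,2,1,3] .nil .nil) .nil) (.node [1,3,2,0,2,0,3] .nil .nil))))) (.node [3,1,3] (.node [3,1,0,3] (.node [0,0,2,3] (.node [2,0,0,1,3] (.node [3,1,2,1,0,3] (.node [1,3,2,3,2,0,3] .nil .nil)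 .nil) (.node [1,0,2,0,2,3] .nil .nil)) (.node [2,0,3,2,3] (.node [1,0,0,2,1,3] (.node [1,2,3,2,3,2,3] .nil .nil) .nil) (.node [1,2,0,0,1,0,3] .nil .nil))) (.node [0,2,1,0,3] (.node [1,3,2,1,3] (.node [2,0,3,2,0,3] (.node [2,1,3,1,2,1,3] .nil .nil) .nil) (.node [1,3,2,1,0,0,3] .nil .nil)) (.node [3,0,2,0,0,3] (.node [3,2,3,2,1,3] (.node [0,3,0,3,0,2,0,3] .nil .nil) .nil) (.node [0,0,2,0,2,0,3] .nil .nil)))) (.node [2,0,1,3] (.node [3,1,0,0,3] (.node [0,0,2,1,3] (.node [0,3,0,2,0,3] (.node [0,0,1,0,2,1,3] .nil .nil) .nil) (.node [3,2,0,1,0,0,3] .nil .nil)) (.node [1,2,1,0,0,3] (.node [3,0,1,2,1,3] (.node [2,1,3,0,2,0,0,3] .nil .nil) .nil) (.node [3,1,0,2,1,0,3] .nil .nil))) (.node [2,1,2,0,3] (.node [3,1,3,1,3] (.node [2,3,1,0,1,3] (.node [0,3,0,1,3,1,3]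 .nil .nil) .nil) (.node [1,2,0,2,0,0,3] .nil .nil)) (.node [3,0,0,1,0,3] (.node [2,3,0,3,1,3] .nil .nil) (.node [1,2,3,0,2,0,3] .nil .nil)))))) (.node [0,0,3] (.node [0,1,3] (.node [0,1,0,3] (.node [1,3,1,3] (.node [3,0,3,0,3] (.node [0,1,2,1,0,3] (.node [0,2,0,3,2,0,3] .nil .nil) .nil) (.node [1,0,2,3,1,3] .nil .nil)) (.node [3,2,0,2,3] (.node [2,1,3,0,1,3] (.node [3,0,3,2,3,2,3] .nil .nil) .nil) (.node [1,3,0,3,0,0,3] .nil .nil))) (.node [2,0,1,0,3] (.node [3,1,2,1,3] (.node [2,3,1,2,0,3] (.node [0,3,2,1,2,1,3] .nil .nil) .nil) (.node [3,1,2,1,0,0,3] .nil .nil)) (.node [1,0,2,0,0,3] (.node [0,1,3,2,1,3] (.node [1,3,0,2,0,2,0,3] .nil .nil) .nil) (.node [0,0,2,3,1,0,3] .nil .nil)))) (.node [0,0,1,3] (.node [0,1,0,0,3] (.node [0,3,0,1,3] (.node [1,2,0,2,0,3]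 (.node [0,2,1,3,0,1,3] .nil .nil) .nil) (.node [0,3,2,3,2,3] .nil .nil)) (.node [3,0,1,0,0,3] (.node [1,0,1,2,1,3] (.node [2,3,1,0,2,0,0,3] .nil .nil) .nil) (.node [3,0,0,2,1,0,3] .nil .nil))) (.node [3,0,2,0,3] (.node [0,1,3,1,3] (.node [1,2,0,0,1,3] (.node [2,0,2,0,3,1,3] .nil .nil) .nil) (.node [3,1,0,2,0,0,3] .nil .nil)) (.node [3,1,3,0,0,3] (.node [3,2,0,3,1,3] (.node [1,0,3,0,1,3,1,3] .nil .nil) .nil) (.node [2,0,3,0,2,0,3] .nil .nil))))) (.node [3,2,3] (.node [1,2,0,3] (.node [3,0,2,3] (.node [2,1,0,1,3] (.node [0,2,3,1,0,3] (.node [0,2,3,2,3,0,3] .nil .nil) .nil) (.node [3,1,2,0,2,3] .nil .nil)) (.node [0,2,3,2,3] (.node [2,1,0,2,1,3] (.node [3,1,3,2,1,0,0,3] .nil .nil) .nil) (.node [2,3,0,0,1,0,3] .nil .nil))) (.node [1,3,1,0,3] (.node [0,0,3,1,3]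 (.node [3,1,3,2,0,3] (.node [3,0,1,3,2,1,3] .nil .nil) .nil) (.node [1,0,3,1,0,0,3] .nil .nil)) (.node [2,3,2,0,0,3] (.node [3,0,0,3,1,3] (.node [0,2,3,1,3,2,0,3] .nil .nil) .nil) (.node [3,0,2,0,2,0,3] .nil .nil)))) (.node [0,2,1,3] (.node [3,2,0,0,3] (.node [2,0,2,1,3] (.node [3,0,1,2,0,3] (.node [3,0,0,1,2,1,3] .nil .nil) .nil) (.node [2,3,0,1,0,0,3] .nil .nil)) (.node [0,3,1,0,0,3] (.node [1,2,1,2,1,3] (.node [3,0,2,0,0,1,0,3] .nil .nil) .nil) (.node [1,2,1,2,1,0,3] .nil .nil))) (.node [0,3,2,0,3] (.node [1,2,3,1,3] (.node [0,0,3,0,1,3] (.node [1,3,2,1,3,1,3] .nil .nil) .nil) (.node [1,3,0,2,0,0,3] .nil .nil)) (.node [3,2,0,1,0,3] (.node [3,0,1,3,1,3] .nil .nil) (.node [1,3,0,1,2,0,3] .nil .nil))))))) (.node [0,3] (.node [2,3] (.node [3,0,3] (.node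 [3,0,0,3] (.node [0,3,1,3] (.node [0,0,3,0,3] (.node [1,0,2,1,0,3] (.node [1,2,3,1,2,0,3] .nil .nil) .nil) (.node [2,3,1,3,1,3] .nil .nil)) (.node [1,2,0,2,3] (.node [3,0,3,0,1,3] (.node [3,1,3,1,3,2,3] .nil .nil) .nil) (.node [3,2,0,3,0,0,3] .nil .nil))) (.node [0,0,1,0,3] (.node [2,1,2,1,3] (.node [3,2,1,2,0,3] (.node [3,1,2,1,2,1,3] .nil .nil) .nil) (.node [2,1,2,1,0,0,3] .nil .nil)) (.node [0,0,2,0,0,3] (.node [1,0,3,2,1,3] (.node [0,2,3,1,2,1,0,3] .nil .nil) .nil) (.node [2,3,1,2,1,0,3] .nil .nil)))) (.node [2,3,0,3] (.node [2,3,2,3] (.node [3,2,0,1,3] (.node [0,2,0,2,0,3] (.node [1,2,0,3,0,1,3] .nil .nil) .nil) (.node [1,3,1,3,2,3] .nil .nil)) (.node [2,0,1,0,0,3] (.node [0,0,1,2,1,3] (.node [0,3,1,0,2,0,0,3] .nil .nil) .nil) (.node [3,0,3,0,1,0,3]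 .nil .nil))) (.node [2,0,2,0,3] (.node [3,0,3,1,3] (.node [2,3,2,3,0,3] (.node [2,3,0,0,3,1,3] .nil .nil) .nil) (.node [1,2,3,1,0,0,3] .nil .nil)) (.node [0,1,3,0,0,3] (.node [1,2,0,3,1,3] (.node [1,0,3,2,3,2,1,3] .nil .nil) .nil) (.node [2,3,2,0,2,0,3] .nil .nil))))) (.node [0,2,3] (.node [0,2,0,3] (.node [2,0,2,3] (.node [3,0,0,1,3] (.node [3,1,3,1,0,3] (.node [1,3,0,0,3,0,3] .nil .nil) .nil) (.node [0,1,2,0,2,3] .nil .nil)) (.node [3,1,3,2,3] (.node [0,1,0,2,1,3] (.node [2,0,1,2,1,0,0,3] .nil .nil) .nil) (.node [1,3,0,0,1,0,3] .nil .nil))) (.node [1,2,1,0,3] (.node [2,3,2,1,3] (.node [3,0,3,2,0,3] (.node [2,1,0,3,2,1,3] .nil .nil) .nil) (.node [0,0,3,1,0,0,3] .nil .nil)) (.node [0,3,2,0,0,3] (.node [2,0,0,3,1,3] (.node [3,0,2,0,3,2,0,3] .nil .nil)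 .nil) (.node [1,0,2,0,2,0,3] .nil .nil)))) (.node [3,0,1,3] (.node [0,2,0,0,3] (.node [1,0,2,1,3] (.node [2,3,0,2,0,3] (.node [3,0,1,0,2,1,3] .nil .nil) .nil) (.node [0,3,0,1,0,0,3] .nil .nil)) (.node [3,2,1,0,0,3] (.node [0,2,1,2,1,3] (.node [1,2,3,0,2,0,0,3] .nil .nil) .nil) (.node [1,0,1,2,1,0,3] .nil .nil))) (.node [3,1,2,0,3] (.node [0,2,3,1,3] (.node [3,1,2,0,1,3] (.node [3,0,2,1,3,1,3] .nil .nil) .nil) (.node [0,3,0,2,0,0,3] .nil .nil)) (.node [1,2,0,1,0,3] (.node [2,0,1,3,1,3] .nil .nil) (.node [3,2,3,0,2,0,3] .nil .nil)))))) (.node [1,0,3] (.node [2,1,3] (.node [2,1,0,3] (.node [2,3,1,3] (.node [3,2,3,0,3] (.node [2,1,2,1,0,3] (.node [2,3,1,3,2,0,3] .nil .nil) .nil) (.node [3,1,0,0,2,3] .nil .nil)) (.node [1,0,3,2,3] (.node [3,1,3,0,1,3] (.node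 [0,2,3,2,3,2,3] .nil .nil) .nil) (.node [0,2,0,0,1,0,3] .nil .nil))) (.node [3,0,1,0,3] (.node [0,3,2,1,3] (.node [1,0,3,2,0,3] (.node [0,1,3,1,2,1,3] .nil .nil) .nil) (.node [0,3,2,1,0,0,3] .nil .nil)) (.node [2,0,2,0,0,3] (.node [0,2,3,2,1,3] (.node [3,2,1,2,0,2,0,3] .nil .nil) .nil) (.node [0,3,2,3,1,0,3] .nil .nil)))) (.node [1,0,1,3] (.node [2,1,0,0,3] (.node [1,3,0,1,3] (.node [3,2,0,2,0,3] (.node [2,3,1,3,0,1,3] .nil .nil) .nil) (.node [2,3,2,3,2,3] .nil .nil)) (.node [0,2,1,0,0,3] (.node [2,0,1,2,1,3] (.node [2,1,2,0,2,0,0,3] .nil .nil) .nil) (.node [2,1,0,2,1,0,3] .nil .nil))) (.node [0,1,2,0,3] (.node [2,1,3,1,3] (.node [3,2,1,0,1,3] (.node [3,1,2,0,3,1,3] .nil .nil) .nil) (.node [0,2,0,2,0,0,3] .nil .nil)) (.node [2,0,0,1,0,3] (.node [0,3,0,3,1,3]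 (.node [1,0,3,1,0,2,0,0,3] .nil .nil) .nil) (.node [3,0,3,0,2,0,3] .nil .nil))))) (.node [1,0,0,3] (.node [3,2,0,3] (.node [0,3,2,3] (.node [3,1,0,1,3] (.node [1,2,3,1,0,3] (.node [3,1,2,0,0,1,3] .nil .nil) .nil) (.node [0,3,2,0,2,3] .nil .nil)) (.node [1,2,3,2,3] (.node [3,2,0,2,1,3] (.node [1,2,0,3,1,0,0,3] .nil .nil) .nil) (.node [2,3,2,0,1,0,3] .nil .nil))) (.node [2,3,1,0,3] (.node [1,0,3,1,3] (.node [3,2,3,2,0,3] (.node [0,3,2,3,2,1,3] .nil .nil) .nil) (.node [2,0,3,1,0,0,3] .nil .nil)) (.node [2,0,3,0,0,3] (.node [3,1,0,3,1,3] (.node [2,0,2,3,2,3,0,3] .nil .nil) .nil) (.node [2,1,2,0,2,0,3] .nil .nil)))) (.node [1,2,1,3] (.node [0,3,0,0,3] (.node [3,0,2,1,3] (.node [0,2,1,2,0,3] (.node [0,0,2,1,2,1,3] .nil .nil) .nil) (.node [0,0,2,1,0,0,3] .nil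 .nil)) (.node [1,3,1,0,0,3] (.node [3,2,1,2,1,3] (.node [0,1,3,0,0,1,0,3] .nil .nil) .nil) (.node [0,3,1,2,1,0,3] .nil .nil))) (.node [1,3,2,0,3] (.node [1,0,0,2,3] (.node [1,0,3,0,1,3] (.node [1,2,3,1,3,1,3] .nil .nil) .nil) (.node [2,3,0,2,0,0,3] .nil .nil)) (.node [0,3,0,1,0,3] (.node [0,2,1,3,1,3] .nil .nil) (.node [2,3,0,1,2,0,3] .nil .nil))))))))

/-- Table of generator 0 at level 0. -/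
def ents0_0 : Arr Ent :=
  (.node ⟨0,[0],[],0,0,0,[]⟩ (.node ⟨2,[],[],0,0,0,[]⟩ (.node ⟨9,[],[],0,0,0,[]⟩ (.node ⟨20,[],[],0,0,0,[]⟩ (.node ⟨44,[],[],0,0,0,[]⟩ (.node ⟨82,[],[],0,0,0,[]⟩ (.node ⟨72,[1,0,2,1,0,0,2,0,1],[135,163,-7,-31,59,-157,36,11,-111,187,-21,152,-121,9,-33,-8,7,3],818,2,5,[72,0,0,0]⟩ (.node ⟨18,[],[1],30,2,0,[18,0,0,0]⟩ (.node ⟨209,[2,1,2,1,0,2,0],[-14,633,-78,-89,-100,-674,553,-110,-10,293,77,476,-50,29,-76,91,10,67],1019,2,0,[145,0,0,0]⟩ .nil .nil) .nil) (.node ⟨215,[2,1,0,0],[0,0,0,-1,0,0,1,-1,3,0,0,2],436,2,6,[31,0,0,0]⟩ .nil .nil)) (.node ⟨137,[1,0,1,2,0,2,0,1],[-341,-1229,137,212,-126,1353,-780,75,418,-839,-38,-999,470,75,82,-295,-24,14],940,2,3,[174,0,0,0]⟩ (.node ⟨256,[2,1,0,2,1,0,2,0],[-34,-708,87,97,53,762,-568,93,124,-351,-79,-494,162,-24,68,-118,-4,-50],929,2,10,[59,0,0,0]⟩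 (.node ⟨103,[2,1,0,2,1,0,0],[-7,40,-6,-6,-7,-47,43,-9,-4,2,7,23,-15,0,3,11],549,2,6,[103,0,0,0]⟩ .nil .nil) .nil) (.node ⟨223,[0],[-1,1,0,0,-1,1,0,0,-1],467,2,1,[70,0,0,0]⟩ .nil .nil))) (.node ⟨120,[],[],0,0,0,[]⟩ (.node ⟨168,[],[],0,0,0,[]⟩ (.node ⟨59,[1,0,0,2,0,0,2,0,1,0],[18,-97,22,20,21,135,-114,16,-25,-31,-21,-81,-9,19,-5,-63,2,-7],894,2,6,[144,0,0,0]⟩ (.node ⟨271,[1,0,0,2,0,1,2,0,1],[-256,-894,126,197,-82,997,-632,71,126,-584,-52,-741,206,87,99,-280,-12,-87],1071,2,2,[101,0,0,0]⟩ .nil .nil) .nil) (.node ⟨69,[0,2,1,0,2,0],[15,-671,86,96,98,714,-584,117,6,-318,-75,-512,62,-26,72,-100,-10,-62],1009,2,10,[42,0,0,0]⟩ .nil .nil)) (.node ⟨16,[0,2],[1,0,0,0,1,-1,0,0,0,0,0,0,-1],433,2,4,[47,0,0,0]⟩ (.node ⟨274,[],[],0,0,0,[]⟩ (.node ⟨303,[2,0,2,1,0,0,2,0,1],[-178,-842,93,119,-57,890,-563,93,264,-514,-31,-649,326,23,54,-145,-19,32],962,2,5,[59,0,0,0]⟩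 .nil .nil) .nil) (.node ⟨239,[2,0,0,2,0,2,0,0,1,0],[13,54,-8,-10,-3,-49,32,-12,11,43,-4,84,-19,-5,4,10,1,-9],657,2,5,[91,0,0,0]⟩ .nil .nil)))) (.node ⟨64,[],[],0,0,0,[]⟩ (.node ⟨47,[2,0,0],[-2,0,0,0,0,1,0,0,-1,-1,0,-2],396,2,5,[0,0,0,0]⟩ (.node ⟨27,[1,0,0,2,0,1,2,0,1],[46,-174,38,33,36,178,-177,16,-21,-72,-26,-61,-18,5,18,-41,2,-26],848,2,0,[27,0,0,0]⟩ (.node ⟨242,[],[],0,0,0,[]⟩ (.node ⟨263,[2,0,1,0,2],[-15,672,-86,-96,-97,-717,586,-117,-8,316,76,509,-62,26,-73,100,10,62],987,2,6,[263,0,0,0]⟩ .nil .nil) .nil) (.node ⟨199,[1,2,0,2,0,0],[69,128,-24,-25,95,-174,76,8,-154,55,12,-8,-137,-24,-2,63,0,-24],819,2,6,[199,0,0,0]⟩ .nil .nil)) (.node ⟨201,[],[],0,0,0,[]⟩ (.node ⟨167,[1,2,1,0,2,0,0,1],[-292,-4655,670,752,191,5193,-3780,453,958,-2289,-469,-3161,1302,295,146,-1400,-14,-54,2],1216,2,2,[14,0,0,0]⟩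 (.node ⟨295,[1,0,2,1,0,2],[12,-53,5,4,14,54,-45,10,2,-27,-2,-47,3,0,-1,-11],690,2,4,[5,0,0,0]⟩ .nil .nil) .nil) (.node ⟨231,[1,2,0,2,1],[-1,6,2,0,-2,-6,4,-2,-4,1,0,6,-1,0,0,1],531,2,1,[60,0,0,0]⟩ .nil .nil))) (.node ⟨7,[],[1],25,2,0,[7,0,0,0]⟩ (.node ⟨183,[],[],0,0,0,[]⟩ (.node ⟨192,[2,0],[2,0,0,0,-1,1,-1,0,0,0,0,3],502,2,0,[119,0,0,0]⟩ (.node ⟨311,[0,0,1,0,2,1,2,0,0,1,0,0],[121,1861,-263,-296,-88,-2037,1480,-152,-433,973,177,1207,-557,-118,-56,555,-4,-3,-1],1123,2,5,[311,0,0,0]⟩ .nil .nil) .nil) (.node ⟨225,[2,1,2],[-2,-1,0,2,0,1,-1,1,-5,-3,0,-6],487,2,3,[13,0,0,0]⟩ .nil .nil)) (.node ⟨151,[0],[-2,0,0,0,-1,0,1,0,1,0,0,-1,2],492,2,6,[151,0,0,0]⟩ (.node ⟨81,[1,0,2,0,1,2,1],[-18,-541,61,97,63,635,-467,61,108,-166,-101,-393,162,39,4,-174,-8,-10],813,2,10,[189,0,0,0]⟩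 (.node ⟨288,[0,0,2,0,0,1,0,2,1,0,0],[-3,-37,-3,19,112,17,-28,-41,-20,3,-54,-30,-74,-8,42,-34,5,-109],994,2,2,[16,0,0,0]⟩ .nil .nil) .nil) (.node ⟨174,[1,0,2,0,1,2],[177,356,-20,-68,67,-357,144,5,-184,296,-5,314,-202,-22,-32,44,10,-14],904,2,4,[174,0,0,0]⟩ .nil .nil))))) (.node ⟨32,[],[],0,0,0,[]⟩ (.node ⟨19,[1,2,1,0,2,0,0,1],[9,7,0,0,4,-6,-2,1,-9,11,-3,10,-11,-2,1,1,0,-4],556,2,7,[19,0,0,0]⟩ (.node ⟨4,[],[1],23,2,0,[4,0,0,0]⟩ (.node ⟨52,[0,2,1,0,2,0],[-52,352,-49,-60,11,-406,306,-54,-72,91,46,206,-44,-27,-10,95,6,19],910,2,5,[261,0,0,0]⟩ (.node ⟨238,[],[],0,0,0,[]⟩ (.node ⟨128,[1,2,1,2,1,0,1,2,0,0],[-41,-46,-11,23,-11,78,-17,-25,95,11,-33,2,98,47,-27,-71,2,41],824,2,5,[7,0,0,0]⟩ .nil .nil) .nil) (.node ⟨180,[2,0,2,1,0,0,2,0,1,0],[933,3661,-395,-637,599,-4079,2537,-394,-1611,1554,362,2233,-2141,-365,-35,841,105,-495,1],1239,2,3,[180,0,0,0]⟩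 .nil .nil)) (.node ⟨118,[2,0,2,0,0,2,1,0,0],[60,221,-23,-36,38,-263,145,-9,-123,118,19,141,-114,-19,-9,69,4,-10],774,2,4,[239,0,0,0]⟩ (.node ⟨203,[2,0,0,1,0,2,1,2,0,0,1,0,0],[348,2553,-323,-424,-19,-2856,1902,-191,-747,1286,257,1853,-907,-203,-60,768,26,-28,-1],1135,2,0,[163,0,0,0]⟩ (.node ⟨202,[2,0,1,2],[51,180,-3,-14,83,-150,68,-42,-104,166,-55,145,-167,-7,24,-10,-2,-84],1023,2,10,[202,0,0,0]⟩ .nil .nil) .nil) (.node ⟨140,[1,2,1,0,0,2,0],[216,941,-141,-198,-43,-1161,801,-49,-286,203,253,576,-527,-212,51,514,-10,-47,-1],1143,2,1,[122,0,0,0]⟩ .nil .nil))) (.node ⟨127,[],[],0,0,0,[]⟩ (.node ⟨177,[],[],0,0,0,[]⟩ (.node ⟨257,[],[],0,0,0,[]⟩ (.node ⟨275,[1,2,0,1,2,1],[-3,22,-2,-6,-4,-22,18,-3,7,13,0,23,3,-3,0,4,0,2],694,2,6,[191,0,0,0]⟩ .nil .nil) .nil)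 (.node ⟨211,[2,1,0,2,0,0],[-41,843,-111,-108,-125,-874,712,-154,24,474,34,728,-6,37,-89,132,12,111],916,2,5,[43,0,0,0]⟩ .nil .nil)) (.node ⟨220,[],[],0,0,0,[]⟩ (.node ⟨278,[],[],0,0,0,[]⟩ (.node ⟨260,[0,1,0,2,0,0,1],[13,-85,14,12,13,91,-77,18,-2,-31,-8,-75,13,0,-2,-22,0,-2],648,2,0,[250,0,0,0]⟩ .nil .nil) .nil) (.node ⟨56,[],[1],36,2,0,[56,0,0,0]⟩ .nil .nil)))) (.node ⟨49,[1,0,1,2,0,2,0,1],[30,456,-70,-82,-11,-497,360,-37,-86,231,47,304,-122,-26,-21,120,2,11],823,2,4,[189,0,0,0]⟩ (.node ⟨109,[],[],0,0,0,[]⟩ (.node ⟨10,[],[1],27,2,0,[10,0,0,0]⟩ (.node ⟨146,[0,1,2,1,2,0,2,0,0,1],[3,-24,7,5,0,32,-30,8,-3,3,-5,-17,9,-1,-2,-9,-1,-2],667,2,1,[85,0,0,0]⟩ (.node ⟨76,[],[1],37,2,0,[76,0,0,0]⟩ .nil .nil) .nil) (.node ⟨169,[2,1,2,0,0,1,0,2,1,0,0],[-360,-2493,319,419,9,2798,-1873,196,708,-1234,-256,-1802,910,205,54,-769,-20,16,1],1066,2,6,[128,0,0,0]⟩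 .nil .nil)) (.node ⟨207,[],[],0,0,0,[]⟩ (.node ⟨40,[0,1,2,0,0,2,1,2,1,0],[-84,-121,0,16,-27,107,-26,3,55,-156,26,-149,54,-21,31,24,-6,-15],837,2,0,[40,0,0,0]⟩ (.node ⟨299,[2,0,0,2,0,2,0,1],[402,202,-1,-33,380,-159,-161,57,-491,452,-172,110,-487,-85,24,74,5,-196],1034,2,2,[290,0,0,0]⟩ .nil .nil) .nil) (.node ⟨235,[1,2,1,0,2,0,0,1,0,0],[17,800,-119,-138,-31,-859,649,-82,-134,366,91,502,-222,-21,-37,164,2,18],869,2,7,[235,0,0,0]⟩ .nil .nil))) (.node ⟨142,[],[],0,0,0,[]⟩ (.node ⟨91,[0],[-1,0,0,0,0,0,0,1,-2,0,0,-3],399,2,7,[91,0,0,0]⟩ (.node ⟨216,[2,1,0,2],[-15,671,-86,-96,-98,-714,584,-117,-7,316,76,511,-61,26,-73,100,10,62],984,2,0,[98,0,0,0]⟩ (.node ⟨162,[2,0,0,2,1],[-7,0,0,0,-3,1,0,2,0,-1,0,-2,7,0,0,-1,0,2],534,2,0,[162,0,0,0]⟩ .nil .nil) .nil) (.node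 ⟨114,[1,0,1,2,0,2,0,1],[1170,4407,-415,-706,318,-4941,2954,-357,-1862,2255,362,3335,-2346,-463,7,1334,74,-389],1161,2,2,[114,0,0,0]⟩ .nil .nil)) (.node ⟨217,[0,0,1,2],[10,-64,12,13,7,65,-52,7,-3,-33,-6,-53,-1,4,2,-17,0,-5],602,2,5,[100,0,0,0]⟩ (.node ⟨187,[2,0,2],[2,0,0,0,1,0,-1,0,-1,0,0,1,-2,0,0,0,0,-1],484,2,5,[187,0,0,0]⟩ .nil .nil) (.node ⟨262,[2,0,1,2,0,0,1,0,2,1,0],[-187,-622,58,129,-34,693,-396,25,208,-347,-65,-514,259,50,38,-153,-16,-10],941,2,0,[194,0,0,0]⟩ .nil .nil)))))) (.node ⟨1,[],[1],21,2,0,[1,0,0,0]⟩ (.node ⟨25,[],[],0,0,0,[]⟩ (.node ⟨48,[],[],0,0,0,[]⟩ (.node ⟨89,[],[],0,0,0,[]⟩ (.node ⟨65,[0],[1,-3,0,0,1,3,-2,0,2,-2,0,-2,0,0,0,-1],490,2,4,[46,0,0,0]⟩ (.node ⟨67,[2,1,0,2],[53,-352,49,60,-11,406,-306,54,72,-91,-46,-206,45,27,9,-95,-6,-19],947,2,0,[52,0,0,0]⟩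 (.node ⟨301,[2,0,1,0,2,1,2,0,0],[270,940,-138,-149,142,-954,561,-62,-318,746,-45,746,-394,12,-79,141,12,9],1032,2,0,[147,0,0,0]⟩ .nil .nil) .nil) (.node ⟨193,[1,0,2,1,0,0,2,0,0,1],[-19,-331,47,45,19,343,-258,55,9,-218,-1,-298,13,-17,44,-48,-8,-45],852,2,4,[193,0,0,0]⟩ .nil .nil)) (.node ⟨198,[],[],0,0,0,[]⟩ (.node ⟨265,[],[],0,0,0,[]⟩ (.node ⟨228,[1,0,2,1,0,0,2,0,0,1,0,0],[174,441,-32,-80,88,-500,239,1,-296,268,31,298,-283,-49,-14,114,18,-62],896,2,1,[217,0,0,0]⟩ .nil .nil) .nil) (.node ⟨191,[0,2],[2,1,0,-1,0,-1,0,0,1,1,0,4],497,2,0,[191,0,0,0]⟩ .nil .nil))) (.node ⟨71,[2,1,0,2],[1,-8,3,3,-1,8,-7,1,-9,-15,3,-11,-5,0,1,-1],546,2,10,[64,0,0,0]⟩ (.node ⟨87,[1,2,1,0,0,2,0,0,1],[52,34,-6,-26,18,-53,18,14,-16,-3,19,19,-50,-26,2,15,8,-11],835,2,10,[175,0,0,0]⟩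 (.node ⟨255,[],[],0,0,0,[]⟩ (.node ⟨247,[2,1,0,0,2,0,0,1],[-176,-356,20,68,-67,357,-144,-5,183,-297,5,-314,200,22,32,-45,-10,13],939,2,0,[174,0,0,0]⟩ .nil .nil) .nil) (.node ⟨145,[2,1,0,2,0,1,2],[15,-633,78,89,100,674,-553,110,10,-293,-77,-476,51,-29,75,-92,-10,-68],1011,2,4,[20,0,0,0]⟩ .nil .nil)) (.node ⟨21,[2,1,0,2],[-5,37,-8,-7,-3,-40,34,-7,0,7,6,29,-10,-1,2,9],596,2,1,[20,0,0,0]⟩ (.node ⟨181,[1,0,2,0,2,0,2,1,2,0,0,1,0,0],[-1387,-4816,536,800,-443,5338,-3189,317,1993,-2721,-344,-3503,2393,449,147,-1407,-90,295,-1],1166,2,2,[181,0,0,0]⟩ (.node ⟨305,[0,2,0,2,0,0],[-9,-724,101,99,82,739,-587,125,-32,-478,-2,-654,-7,-21,87,-119,-14,-92],1022,2,2,[305,0,0,0]⟩ .nil .nil) .nil) (.node ⟨54,[],[1],35,2,0,[54,0,0,0]⟩ .nil .nil)))) (.node ⟨3,[],[1],22,2,0,[3,0,0,0]⟩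 (.node ⟨26,[],[2,-1,0,0,0,0,0,0,1],430,2,0,[14,0,0,0]⟩ (.node ⟨157,[],[],0,0,0,[]⟩ (.node ⟨36,[1,0,0,2,0,0,2,0,1,0],[-114,-20,11,48,-47,45,21,-61,20,-65,-19,25,92,45,-1,-24,2,21],942,2,10,[56,0,0,0]⟩ (.node ⟨154,[1,0,2,0,0,2,0,0,1,0,0],[6,-36,7,7,1,39,-35,8,1,-5,-6,-21,5,0,1,-10,0,-5],670,2,0,[154,0,0,0]⟩ .nil .nil) .nil) (.node ⟨287,[1,0,2,1,0,2,0,1,0,0],[3,-13,2,2,3,15,-15,3,1,2,-3,-5,6,0,-2,-4],570,2,0,[103,0,0,0]⟩ .nil .nil)) (.node ⟨204,[],[],0,0,0,[]⟩ (.node ⟨163,[],[-1,1,0,0,0,0,0,0,-1],395,2,1,[10,0,0,0]⟩ (.node ⟨152,[2,1,2,0,0,1,0,2,0,0],[0,0,0,0,0,0,0,0,0,0,0,0,0,0,0,0,0,0,1],1044,1,0,[]⟩ .nil .nil) .nil) (.node ⟨233,[1,0,2,1,0,2],[7,-9,-3,-2,1,5,-3,6,1,-3,5,-16,3,-1,-4,5,0,2],655,2,6,[233,0,0,0]⟩ .nil .nil))) (.node ⟨139,[],[],0,0,0,[]⟩ (.node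 ⟨62,[0,2],[1,0,0,0,-1,0,0,0,2,0,0,2],443,2,0,[33,0,0,0]⟩ (.node ⟨259,[1,0,0,2,1,0,0,2,1],[-95,624,-102,-97,-61,-685,597,-119,-1,252,61,394,-34,-15,-32,159,5,24],913,2,0,[128,0,0,0]⟩ (.node ⟨258,[1,0,1,2,1,2],[1159,4976,-474,-815,213,-5429,3327,-446,-1816,2536,379,3987,-2481,-393,-7,1266,87,-322,-1],1180,2,4,[258,0,0,0]⟩ .nil .nil) .nil) (.node ⟨296,[],[],0,0,0,[]⟩ .nil .nil)) (.node ⟨213,[1,0,0,2,0,2,1,2,0,0,1,0],[-112,1080,-155,-221,-127,-1167,885,-76,-145,337,209,704,-165,-51,-44,228,10,90,-1],1174,2,7,[43,0,0,0]⟩ (.node ⟨264,[0,2,0,2,0,1,0],[595,1652,-183,-321,368,-1846,994,-72,-804,1111,61,1137,-844,-126,-120,409,45,-120,-1],1189,2,3,[81,0,0,0]⟩ (.node ⟨313,[1,2,0,2,1],[3,1,1,0,2,-2,1,-2,-2,-2,0,1,-4,0,0,0,0,-1],537,2,1,[162,0,0,0]⟩ .nil .nil) .nil)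 (.node ⟨197,[0,2,1,0,0,2,1,0],[-13,-53,3,15,-41,66,-26,0,63,1,-9,1,66,15,-10,-16,0,19],784,2,10,[284,0,0,0]⟩ .nil .nil))))) (.node ⟨38,[],[],0,0,0,[]⟩ (.node ⟨58,[],[],0,0,0,[]⟩ (.node ⟨37,[0,1],[0,0,0,0,1,-1,0,0,-1],462,2,4,[3,0,0,0]⟩ (.node ⟨107,[2,1,0,2],[-15,670,-86,-96,-98,-714,584,-117,-11,306,80,507,-65,27,-73,100,10,64],988,2,10,[111,0,0,0]⟩ (.node ⟨241,[],[],0,0,0,[]⟩ (.node ⟨297,[2,1,2,0,0,1,0,2,0,1,0,0],[21,-96,6,9,19,101,-65,5,40,-55,-9,-81,2,-5,4,-8,-6,7,-1],1045,2,0,[152,0,0,0]⟩ .nil .nil) .nil) (.node ⟨253,[0,2,0,2,0,1,2,0,0],[-79,-70,8,13,-95,70,-11,10,78,-94,31,-20,86,12,10,-7,-4,36],783,2,10,[249,0,0,0]⟩ .nil .nil)) (.node ⟨171,[0,0,1,2,1,2,0,2,1,0,0],[84,121,0,-16,27,-107,26,-3,-56,155,-26,149,-56,21,-31,-26,6,13],816,2,1,[28,0,0,0]⟩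 (.node ⟨234,[0,2,1,0,2,0],[8,-21,0,5,12,18,-15,3,-10,-15,-2,-32,-15,-1,3,-3,0,-8],605,2,2,[94,0,0,0]⟩ (.node ⟨122,[0,2,1,2,1,0,1,2,0,1,0,0],[207,1195,-150,-195,148,-1237,764,-99,-352,887,-34,908,-374,9,-101,163,15,14],995,2,2,[137,0,0,0]⟩ .nil .nil) .nil) (.node ⟨131,[2,0,2,0,1,0,0,2,0,0],[-45,507,-74,-69,-74,-550,490,-96,-32,151,85,267,-85,22,-48,97,-1,53],919,2,5,[131,0,0,0]⟩ .nil .nil))) (.node ⟨97,[1,0,2,1,0,2,0,1],[2,9,-1,-3,0,-8,4,1,0,9,0,9,2,-2,-2,3,0,1],543,2,5,[97,0,0,0]⟩ (.node ⟨11,[],[1],28,2,0,[11,0,0,0]⟩ (.node ⟨224,[0,0],[-1,-1,0,0,1,1,1,0,-1,-3,0,-7,-2],495,2,5,[111,0,0,0]⟩ (.node ⟨108,[1,0,0,2,0,2,1,2,0,1,0,0],[-32,2090,-286,-296,-162,-2262,1751,-303,-297,967,167,1501,-468,-50,-65,488,18,36,-1],1152,2,2,[207,0,0,0]⟩ .nil .nil) .nil) (.node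 ⟨176,[1,2],[1,1,0,-1,0,0,0,0,0,0,0,2],446,2,1,[109,0,0,0]⟩ .nil .nil)) (.node ⟨117,[0,0,2,0,1,2,0],[-2,1,-1,0,1,-1,-1,1,-1,1,0,2,1,0,0,-1],622,2,4,[89,0,0,0]⟩ (.node ⟨83,[1,0,2,0,2,0,2,1,2,0,0,1,0,0],[147,161,10,-46,125,-131,-27,18,-117,260,-58,170,-43,2,-68,-45,14,25,1],1092,2,2,[83,0,0,0]⟩ (.node ⟨281,[2,1,2,0,1,0],[-224,1380,-193,-168,-325,-1505,1375,-267,15,367,242,817,-183,48,-77,286,-19,167,1],1238,2,2,[215,0,0,0]⟩ .nil .nil) .nil) (.node ⟨300,[2,0,1,2],[240,-2211,122,226,465,2358,-1833,403,615,-471,-322,-1730,785,-9,-96,-429,-32,48],1266,2,10,[114,0,0,0]⟩ .nil .nil)))) (.node ⟨75,[],[],0,0,0,[]⟩ (.node ⟨116,[],[],0,0,0,[]⟩ (.node ⟨63,[0,1,2,0,2,0,1,0],[92,2205,-328,-405,-94,-2512,1856,-173,-483,912,311,1317,-669,-210,-32,750,-1,13,-1],1117,2,5,[63,0,0,0]⟩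 (.node ⟨141,[1,0,2,0,0,2],[109,273,-30,-44,92,-294,154,-31,-142,191,-11,194,-162,-24,-14,62,8,-40],806,2,1,[141,0,0,0]⟩ (.node ⟨179,[1,0,2,0,2,0,2,1,2,0,0,1,0,0],[-185,-2193,319,335,84,2433,-1756,210,498,-1119,-212,-1492,685,130,64,-660,-2,4,1],1064,2,5,[179,0,0,0]⟩ .nil .nil) .nil) (.node ⟨205,[1,0,2,1,0,2],[-25,1325,-189,-192,-125,-1408,1048,-128,-132,844,80,988,-59,60,-166,209,8,173],1278,2,4,[228,0,0,0]⟩ .nil .nil)) (.node ⟨212,[],[],0,0,0,[]⟩ (.node ⟨173,[2,0,1,2,0,2,1,0,0],[-9,-531,76,98,52,592,-454,60,20,-253,-64,-390,49,32,42,-149,-5,-56],977,2,1,[80,0,0,0]⟩ (.node ⟨147,[0,2,1,2,1,0,1,2],[-270,-940,138,149,-142,954,-561,62,318,-747,45,-746,394,-13,79,-142,-12,-11],1027,2,1,[81,0,0,0]⟩ .nil .nil) .nil) (.node ⟨237,[1,0,0,2,0,1,2,0,1],[3,1,0,0,0,1,-1,0,-2,2,0,1,-6,1,0,-3,0,-3],656,2,1,[130,0,0,0]⟩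 .nil .nil))) (.node ⟨86,[2,0,0],[1,-1,0,0,1,0,0,0,-1,-1,0,-2,-1],476,2,0,[22,0,0,0]⟩ (.node ⟨34,[1,0,2,1,0,0,2,0,0,1],[42,22,-7,-22,6,-46,31,7,11,-12,17,7,-34,-29,5,22,8,-15],876,2,10,[34,0,0,0]⟩ (.node ⟨28,[],[1],31,2,0,[28,0,0,0]⟩ (.node ⟨286,[2,0,0,2,0,0],[-3,0,0,1,-2,2,0,0,-1,-2,0,-2,1],506,2,1,[119,0,0,0]⟩ .nil .nil) .nil) (.node ⟨115,[1,0,0],[1399,5656,-576,-928,497,-6232,3755,-464,-2246,3094,354,4251,-2808,-462,-82,1493,94,-389],1039,2,10,[291,0,0,0]⟩ .nil .nil)) (.node ⟨188,[2,0,2,0,1,2,0,2,0,1],[2,-428,61,67,36,464,-347,44,54,-226,-37,-310,73,20,19,-109,-2,-16],797,2,2,[118,0,0,0]⟩ (.node ⟨283,[],[],0,0,0,[]⟩ .nil .nil) (.node ⟨249,[1,0,1,2,0,0],[-13,73,-11,-10,-8,-83,70,-17,-7,13,10,55,-20,1,3,19,0,2],673,2,2,[249,0,0,0]⟩ .nil .nil))))))) (.node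 ⟨5,[],[],0,0,0,[]⟩ (.node ⟨12,[],[],0,0,0,[]⟩ (.node ⟨23,[],[],0,0,0,[]⟩ (.node ⟨46,[],[],0,0,0,[]⟩ (.node ⟨85,[],[],0,0,0,[]⟩ (.node ⟨8,[],[1],26,2,0,[8,0,0,0]⟩ (.node ⟨153,[2,1,0,2],[78,-697,117,96,103,755,-647,129,-34,-322,-58,-530,-6,4,54,-173,-8,-75],885,2,6,[194,0,0,0]⟩ (.node ⟨294,[0,0,2,1,2,1,0,2,0,1,0,0],[-343,3423,-439,-557,-282,-3738,2870,-403,-686,1142,506,2124,-656,-72,-134,714,38,161,-2],1280,2,2,[294,0,0,0]⟩ .nil .nil) .nil) (.node ⟨119,[0,2],[0,0,0,0,2,-1,0,0,-1,-1,0,-2,-2],483,2,4,[1,0,0,0]⟩ .nil .nil)) (.node ⟨196,[],[],0,0,0,[]⟩ (.node ⟨96,[1,2,1,0,1,2,1,0],[-99,-1446,182,212,153,1542,-1119,144,183,-855,-121,-1131,233,-38,153,-259,-8,-161],959,2,4,[52,0,0,0]⟩ (.node ⟨279,[0,2,0,2,0,0,1,0],[245,2083,-338,-409,-1,-2313,1700,-191,-194,1163,197,1399,-442,-156,-161,611,-1,128,1],1209,2,2,[274,0,0,0]⟩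 .nil .nil) .nil) (.node ⟨130,[1,0,0,2,0,0,1],[9,6,2,0,1,-8,1,-2,-10,-6,3,11,-17,0,2,0,0,-1],607,2,2,[66,0,0,0]⟩ .nil .nil))) (.node ⟨6,[],[1],24,2,0,[6,0,0,0]⟩ (.node ⟨172,[],[],0,0,0,[]⟩ (.node ⟨144,[1,0,2,1,0,0,2,0,0,1],[-28,-326,51,51,14,360,-264,35,46,-171,-38,-227,67,9,29,-86,0,-24],855,2,2,[62,0,0,0]⟩ (.node ⟨272,[1,2,0,1,0,2,1],[-30,-168,38,54,5,205,-154,4,-18,-62,-42,-112,18,44,11,-94,0,-25],906,2,7,[272,0,0,0]⟩ .nil .nil) .nil) (.node ⟨175,[2,0,2,0,2,0,2,1,0],[1134,1280,-131,-317,662,-1391,299,133,-1002,1293,-127,1184,-1206,-232,-45,364,46,-189,-1],1105,2,3,[247,0,0,0]⟩ .nil .nil)) (.node ⟨15,[],[1],29,2,0,[15,0,0,0]⟩ (.node ⟨121,[0,2,0,2,0,2,1,2,0,0,1,0,0],[-136,-12,-16,8,-113,-31,113,-31,67,-222,80,-23,0,-12,63,62,-6,-13,-1],1192,2,1,[82,0,0,0]⟩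 (.node ⟨310,[2,0,1,2,0,0,1,0,2,0,1],[125,861,-98,-209,157,-1109,653,-14,-478,174,190,411,-472,-150,28,310,29,-77,1],1060,2,10,[217,0,0,0]⟩ .nil .nil) .nil) (.node ⟨304,[],[],0,0,0,[]⟩ .nil .nil)))) (.node ⟨13,[0,1,0],[0,-1,0,0,0,1,0,0,0,-1,0,-2],440,2,5,[13,0,0,0]⟩ (.node ⟨101,[],[],0,0,0,[]⟩ (.node ⟨77,[0,0,1,0,2,1,2,0,0,1,0],[-137,-2230,289,351,103,2481,-1779,198,627,-971,-280,-1424,747,144,48,-659,-12,20,1],1069,2,7,[171,0,0,0]⟩ (.node ⟨243,[],[],0,0,0,[]⟩ (.node ⟨280,[1,0,0,2,1,0,0,2,1],[273,1485,-222,-312,68,-1746,1144,-59,-522,566,232,936,-713,-273,52,644,13,-101,-1],1134,2,10,[159,0,0,0]⟩ .nil .nil) .nil) (.node ⟨132,[0,2,1,0,0],[0,-2,1,1,-1,1,1,-1,1,-1,-1,-3,-1,1,0,-1],530,2,0,[132,0,0,0]⟩ .nil .nil)) (.node ⟨104,[1,0,0,2,0,0,2,0,1,0],[97,3421,-481,-500,-228,-3700,2745,-351,-649,1780,296,2340,-864,-152,-122,894,4,25],1196,2,5,[104,0,0,0]⟩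 (.node ⟨30,[],[1],32,2,0,[30,0,0,0]⟩ (.node ⟨123,[2,1,0],[-9,64,-12,-13,-7,-65,52,-7,3,32,6,53,0,-4,-2,16,0,5],628,2,0,[123,0,0,0]⟩ .nil .nil) .nil) (.node ⟨232,[1,2,1,0,2,0,0,1],[-59,861,-142,-140,-126,-943,845,-160,51,305,136,511,-96,31,-89,136,8,86],936,2,3,[232,0,0,0]⟩ .nil .nil))) (.node ⟨136,[],[],0,0,0,[]⟩ (.node ⟨186,[],[],0,0,0,[]⟩ (.node ⟨261,[],[],0,0,0,[]⟩ (.node ⟨185,[1,2,1,0,2,0,0,1],[5,18,-2,-2,0,-15,10,-3,-1,20,-4,21,-4,-1,-1,3,0,-2],580,2,5,[185,0,0,0]⟩ .nil .nil) .nil) (.node ⟨98,[0,2,0,2],[2,2,0,0,1,-2,0,0,-2,1,0,2,-3,0,0,0,0,-1],499,2,1,[24,0,0,0]⟩ .nil .nil)) (.node ⟨39,[0,2],[2,0,0,0,0,-1,0,0,1,0,0,2],432,2,0,[39,0,0,0]⟩ (.node ⟨246,[2,0,1,2,1,0,1,2,0,1],[-626,-2161,264,554,-451,2611,-1502,46,824,-1026,-281,-1307,895,374,118,-769,-50,-3,-1],1114,2,5,[289,0,0,0]⟩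 (.node ⟨312,[1,0],[-9,-1752,257,277,142,1974,-1505,192,413,-561,-287,-1073,602,108,1,-552,2,-14,2],1224,2,1,[269,0,0,0]⟩ .nil .nil) .nil) (.node ⟨165,[2,0,2,1,0,0,2,0,0,1,0,0],[77,1861,-211,-223,63,-1976,1358,-254,-632,979,71,1311,-504,-10,-109,387,33,1,-1],1186,2,0,[165,0,0,0]⟩ .nil .nil))))) (.node ⟨35,[],[],0,0,0,[]⟩ (.node ⟨55,[],[],0,0,0,[]⟩ (.node ⟨95,[],[],0,0,0,[]⟩ (.node ⟨102,[1,2,1,0,0,2,0,0,1],[-35,-235,23,38,-6,281,-173,10,105,-105,-33,-150,81,23,11,-84,-4,-6],796,2,1,[101,0,0,0]⟩ (.node ⟨182,[0,2,1,0,2],[1,4,-1,-1,0,-4,2,1,-2,3,1,2,0,-1,-1,2],517,2,7,[182,0,0,0]⟩ (.node ⟨250,[1,0,2,0,0,1,0,0],[-12,85,-14,-12,-13,-91,77,-18,1,30,8,75,-16,0,2,21,0,2],624,2,1,[151,0,0,0]⟩ .nil .nil) .nil) (.node ⟨160,[1,0,2,0,1,2,0,0,1,0,0],[19,-34,8,-6,54,21,-47,20,-60,-46,5,-79,-53,-26,16,10,-2,-21],954,2,4,[24,0,0,0]⟩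 .nil .nil)) (.node ⟨100,[1,0,2,1,0,2,0,1],[1,-12,0,1,3,15,-13,5,-1,-1,-1,-13,6,-1,-2,-3],542,2,1,[100,0,0,0]⟩ (.node ⟨267,[],[],0,0,0,[]⟩ (.node ⟨292,[2,0,2,0,1,2,0,0],[377,465,-47,-93,247,-513,72,56,-345,580,-79,507,-317,-120,-21,149,21,-100],1268,2,4,[131,0,0,0]⟩ .nil .nil) .nil) (.node ⟨302,[],[],0,0,0,[]⟩ .nil .nil))) (.node ⟨129,[],[],0,0,0,[]⟩ (.node ⟨178,[],[],0,0,0,[]⟩ (.node ⟨84,[1,2,0,0,2,0,2,0,0,1,0,0],[-89,-2217,320,372,118,2492,-1839,201,468,-1006,-267,-1422,631,191,37,-738,1,0,1],1063,2,4,[79,0,0,0]⟩ (.node ⟨88,[0,0,2,0,2,1,2,0,0,1,0,0],[-78,-1183,142,207,85,1255,-854,84,139,-725,-88,-980,157,-20,125,-173,-8,-163,1],1241,2,1,[65,0,0,0]⟩ .nil .nil) .nil) (.node ⟨43,[],[1],34,2,0,[43,0,0,0]⟩ .nil .nil)) (.node ⟨70,[2],[2,0,0,0,0,-1,0,0,0,1,0,2],435,2,0,[45,0,0,0]⟩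 (.node ⟨244,[0,1,2,1,0,1,2,1],[289,882,-119,-184,421,-1234,540,-1,-817,176,129,485,-861,-406,232,734,-22,-273,-3],1177,2,2,[168,0,0,0]⟩ (.node ⟨308,[1,0,2,1,0,0,2,0,0,1],[-313,1547,-260,-144,-9,-1542,1402,-325,-22,1039,-37,716,327,181,-355,98,14,262],1281,2,6,[308,0,0,0]⟩ .nil .nil) .nil) (.node ⟨195,[1,0,0,2,0,0,2,0,1,0],[341,1229,-137,-212,126,-1353,780,-75,-420,838,38,999,-472,-75,-82,294,24,-15],968,2,1,[136,0,0,0]⟩ .nil .nil)))) (.node ⟨73,[],[],0,0,0,[]⟩ (.node ⟨112,[],[],0,0,0,[]⟩ (.node ⟨164,[],[],0,0,0,[]⟩ (.node ⟨138,[1,2,0,1,2,0,1,2,0,1],[44,79,-9,-17,32,-93,42,-8,-50,43,3,69,-70,-6,1,19,3,-15],742,2,5,[55,0,0,0]⟩ (.node ⟨105,[0,2],[47,30,-1,-23,-2,-54,23,11,-18,-34,32,26,-56,-26,8,24,8,-9],875,2,2,[6,0,0,0]⟩ .nil .nil) .nil) (.node ⟨268,[2,0,0],[-47,-30,1,23,2,54,-23,-11,18,33,-32,-26,56,26,-8,-24,-8,9],899,2,0,[105,0,0,0]⟩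 .nil .nil)) (.node ⟨210,[],[],0,0,0,[]⟩ (.node ⟨270,[],[],0,0,0,[]⟩ (.node ⟨222,[0,1,2,1,0,0,2,1,0,0],[79,-296,18,28,131,299,-266,61,-39,-82,-51,-286,-16,-35,20,-16,2,-72],1020,2,4,[21,0,0,0]⟩ .nil .nil) .nil) (.node ⟨230,[1,0,0,2,1,2,1,0,2,0,0],[-64,1370,-212,-175,-231,-1432,1202,-219,20,751,107,1044,-159,48,-101,214,9,62,1],1197,2,10,[259,0,0,0]⟩ .nil .nil))) (.node ⟨50,[1,2],[0,-1,1,0,0,0,0,0,-1,-1,0,-2],426,2,2,[3,0,0,0]⟩ (.node ⟨93,[1,0,2,0,1,2,0,0,1],[94,17,13,-3,41,3,-56,8,-42,94,-30,66,-46,26,-29,-53,6,10],861,2,10,[10,0,0,0]⟩ (.node ⟨156,[0,1,2,0,2,0],[5,-259,51,50,7,273,-217,16,27,-135,-27,-132,49,14,16,-63,2,-13],850,2,2,[49,0,0,0]⟩ (.node ⟨284,[0,1],[-5,-41,8,3,9,40,-34,9,3,-28,-1,-44,15,-3,0,-13,0,4],654,2,4,[11,0,0,0]⟩ .nil .nil) .nil)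 (.node ⟨221,[0,1],[1427,5115,-559,-895,423,-5704,3393,-311,-2071,2766,436,3788,-2517,-495,-134,1511,92,-258],1038,2,10,[221,0,0,0]⟩ .nil .nil)) (.node ⟨124,[2,0,2,0,1,2,0,0],[1,-365,55,61,26,389,-303,38,53,-168,-42,-225,84,6,21,-76,-1,-17],849,2,1,[49,0,0,0]⟩ (.node ⟨254,[2,0,1,2,0,2,0],[65,612,-83,-107,-37,-668,466,-53,-82,354,49,502,-125,-43,-33,179,4,31],822,2,0,[125,0,0,0]⟩ .nil .nil) (.node ⟨285,[0,2,0,0],[2,-1,0,-1,1,0,-1,0,0,0,0,3,0,0,0,1,0,1],715,2,0,[252,0,0,0]⟩ .nil .nil)))))) (.node ⟨17,[],[],0,0,0,[]⟩ (.node ⟨29,[],[],0,0,0,[]⟩ (.node ⟨51,[],[],0,0,0,[]⟩ (.node ⟨92,[],[],0,0,0,[]⟩ (.node ⟨66,[1,0],[0,0,0,0,0,-1,1,0,0,0,0,-1],474,2,6,[13,0,0,0]⟩ (.node ⟨149,[0,1,0,2,0,1],[-7,-5,-2,0,-2,7,-2,2,10,8,-3,-4,16,0,-2,-1,0,1],630,2,0,[130,0,0,0]⟩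 (.node ⟨309,[],[],0,0,0,[]⟩ .nil .nil) .nil) (.node ⟨251,[2,0,1,0,2,1,2,0],[170,640,-57,-130,21,-723,425,-31,-212,324,79,517,-262,-44,-38,151,16,16],905,2,5,[81,0,0,0]⟩ .nil .nil)) (.node ⟨155,[2,1,0,1,2,0,0],[13,-673,86,96,97,716,-584,117,9,-318,-76,-513,64,-27,73,-100,-10,-63],955,2,4,[25,0,0,0]⟩ (.node ⟨189,[1,2,0,2],[8,0,0,0,3,-1,0,-2,0,0,0,2,-8,0,0,0,0,-3],528,2,2,[189,0,0,0]⟩ (.node ⟨291,[2,1,0,0,2],[-3,-153,-9,2,-62,148,-71,41,107,-121,47,-115,131,6,-33,1,4,74],1016,2,10,[13,0,0,0]⟩ .nil .nil) .nil) (.node ⟨293,[0,2,0,1,2,1,0,1,2,0,1,0,0],[-268,-1342,162,219,-164,1409,-850,100,430,-984,25,-1028,455,22,99,-234,-17,1],1013,2,0,[122,0,0,0]⟩ .nil .nil))) (.node ⟨126,[],[],0,0,0,[]⟩ (.node ⟨110,[2,1],[-1,0,0,1,0,0,0,0,-2,-1,0,-2,0,0,0,-1],407,2,3,[1,0,0,0]⟩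 (.node ⟨57,[1,2,0,1,2,0,1,2,0,1],[40,100,-14,-20,24,-121,63,-7,-52,46,9,85,-75,-9,4,29,3,-13],701,2,7,[14,0,0,0]⟩ (.node ⟨208,[2,0,2,0,2,0,2,1,0],[351,1909,-188,-314,7,-2142,1347,-161,-668,901,227,1489,-745,-90,-87,458,50,-20,-1],1195,2,3,[289,0,0,0]⟩ .nil .nil) .nil) (.node ⟨277,[0,0,2,0,2,1,2,0,0,1,0],[58,-2065,279,281,187,2226,-1736,310,268,-967,-157,-1511,423,42,65,-476,-18,-41,1],1225,2,0,[108,0,0,0]⟩ .nil .nil)) (.node ⟨218,[],[],0,0,0,[]⟩ (.node ⟨148,[2,1,2,0,2,1,2,0,0,1,0,0],[153,2525,-338,-409,-92,-2830,2022,-239,-642,1132,293,1695,-808,-186,-40,788,8,-14,-1],1122,2,0,[84,0,0,0]⟩ (.node ⟨314,[0,0,2,0,1,2,1,0,1,2,0,1,0,0],[-94,137,9,-6,-159,-139,207,-65,175,78,24,140,241,1,-68,45,5,85],1040,2,1,[123,0,0,0]⟩ .nil .nil) .nil) (.node ⟨214,[0,2,1,2,0,0,1,0,2,1],[1279,4544,-470,-899,435,-5066,2946,-170,-2051,2064,536,3137,-2699,-467,13,1109,118,-403,1],1277,2,4,[176,0,0,0]⟩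 .nil .nil)))) (.node ⟨14,[],[-1,1,0,0,0,0,0,0,-1],393,2,1,[1,0,0,0]⟩ (.node ⟨106,[],[],0,0,0,[]⟩ (.node ⟨99,[2,0,2,0,1,2,0,2,0,1],[-28,-153,14,18,-39,198,-106,-1,145,-54,-25,-36,87,20,6,-65,-4,14],795,2,0,[74,0,0,0]⟩ (.node ⟨227,[2,0,1,2,1,0,1,2,1],[441,1667,-203,-272,134,-1741,1064,-115,-561,1119,29,1288,-738,-27,-103,322,15,7,-1],1104,2,1,[226,0,0,0]⟩ (.node ⟨266,[2,0,1,0,2],[81,-3,11,-11,56,-5,-51,3,-32,44,-25,67,-82,-49,32,48,-2,-54],958,2,2,[266,0,0,0]⟩ .nil .nil) .nil) (.node ⟨290,[],[],0,0,0,[]⟩ .nil .nil)) (.node ⟨206,[],[],0,0,0,[]⟩ (.node ⟨170,[1,0,0,2,1,0,0,2,0,1],[-33,-143,20,31,-13,169,-105,3,68,-34,-33,-75,78,34,-4,-69,-2,10],866,2,4,[28,0,0,0]⟩ (.node ⟨184,[2,1,2,0,0,1,0,2,0,1,0],[627,4764,-486,-711,-42,-5177,3419,-435,-1746,2131,491,3389,-2195,-262,3,1147,58,-266,1],1255,2,4,[256,0,0,0]⟩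 .nil .nil) .nil) (.node ⟨248,[1,2,1,2,1,0,1,2,0,0,1],[-25,-1536,194,185,-51,1628,-1161,210,468,-837,-49,-1010,337,23,105,-347,-23,-13,1],1089,2,4,[36,0,0,0]⟩ .nil .nil))) (.node ⟨113,[0,2,1,0,2,0],[8,-76,12,14,10,81,-65,12,0,-28,-9,-66,10,2,0,-20,0,-7],604,2,10,[7,0,0,0]⟩ (.node ⟨190,[],[],0,0,0,[]⟩ (.node ⟨161,[0,2,0,0,2,1,0],[-6,35,-7,-7,-1,-39,35,-8,-1,3,6,21,-9,0,0,9,0,3],647,2,2,[74,0,0,0]⟩ (.node ⟨306,[2,0,2,0,2,1,2,0,1,0],[138,485,-77,-87,20,-554,360,-64,-93,232,42,466,-225,-68,12,225,-5,6,-1],1106,2,3,[306,0,0,0]⟩ .nil .nil) .nil) (.node ⟨219,[1,0,0,2,0,0,2,0,1,0],[-1169,-4408,415,706,-318,4941,-2954,357,1862,-2256,-362,-3335,2344,463,-7,-1335,-74,388],1236,2,0,[114,0,0,0]⟩ .nil .nil)) (.node ⟨226,[],[],0,0,0,[]⟩ (.node ⟨276,[0,1,0,2,0,2,0,2,1,0,0],[-18,1872,-230,-312,-197,-2045,1443,-140,-368,849,237,1422,-408,-120,-36,475,18,41,-1],1169,2,4,[54,0,0,0]⟩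 (.node ⟨282,[0,2,0,1,2,1,2],[274,1524,-96,-244,-1,-1778,987,-71,-732,693,169,1321,-702,-105,19,373,60,-87,1],1198,2,1,[240,0,0,0]⟩ .nil .nil) .nil) (.node ⟨307,[],[],0,0,0,[]⟩ .nil .nil))))) (.node ⟨41,[],[],0,0,0,[]⟩ (.node ⟨61,[],[],0,0,0,[]⟩ (.node ⟨24,[0,0,1,0,0],[0,1,0,0,0,-1,0,0,-1,1,0,2,-1],471,2,0,[13,0,0,0]⟩ (.node ⟨45,[2],[-1,0,0,0,0,1,0,0,0,-2,0,-2],398,2,5,[1,0,0,0]⟩ (.node ⟨134,[2,0,0,2],[-77,1079,-169,-178,-109,-1186,958,-127,-125,393,169,622,-193,-32,-58,257,2,63],976,2,1,[54,0,0,0]⟩ (.node ⟨194,[0,1],[9,24,-4,-5,3,-20,12,-4,5,28,-5,33,-7,-3,0,4,0,-4],552,2,2,[4,0,0,0]⟩ .nil .nil) .nil) (.node ⟨53,[1,2,1,0,2,1],[0,-9,1,3,0,8,-4,-1,-1,-9,0,-9,-2,2,1,-4,0,-1],559,2,0,[53,0,0,0]⟩ .nil .nil)) (.node ⟨158,[2,1,0,0,2,1,2,0,0,1,0],[18,108,-5,-15,2,-134,77,3,-76,44,22,42,-30,-6,-18,36,3,15],820,2,0,[68,0,0,0]⟩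 (.node ⟨166,[2,0,0,2],[-147,-456,53,84,-25,514,-296,28,114,-328,-14,-434,163,21,32,-123,-6,-24],842,2,5,[75,0,0,0]⟩ (.node ⟨159,[0,0,2,1,0,0,2,0],[568,2832,-208,-450,-232,-3105,1911,-179,-1027,1325,400,2395,-1157,-193,-80,781,56,-19,2],1274,2,2,[159,0,0,0]⟩ .nil .nil) .nil) (.node ⟨150,[1,0,1,2,0],[-318,-742,114,158,-202,838,-436,-9,344,-562,-22,-460,368,150,43,-316,-2,51,-1],1183,2,5,[150,0,0,0]⟩ .nil .nil))) (.node ⟨133,[],[],0,0,0,[]⟩ (.node ⟨22,[0,2],[-1,1,0,0,-1,0,0,0,1,0,0,2,1],444,2,1,[22,0,0,0]⟩ (.node ⟨236,[1,2,1,2,1,0,1,2,0,0],[34,-285,57,43,69,301,-300,64,-72,-165,-21,-210,-3,-9,21,-73,0,-6],979,2,1,[67,0,0,0]⟩ (.node ⟨269,[1,0,2,0,2,0,2,1,2,0,0,1,0,0],[196,2341,-325,-373,-72,-2595,1842,-222,-549,1157,234,1636,-728,-140,-69,677,10,8,-1],1127,2,0,[179,0,0,0]⟩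 .nil .nil) .nil) (.node ⟨135,[0,2,1,2,0,0,1,0,2,1],[2141,8319,-884,-1402,679,-9222,5469,-601,-3117,4740,499,6554,-3657,-635,-303,2271,146,-140,-1],1272,2,2,[96,0,0,0]⟩ .nil .nil)) (.node ⟨74,[2,1,2,1,0,2,0,0,1,0,0],[10,-25,8,5,-1,31,-31,9,-2,7,-5,-15,15,2,-8,-11,0,6],623,2,7,[74,0,0,0]⟩ (.node ⟨200,[0,0,2],[0,-2,0,0,1,3,-3,0,1,-2,0,1,1,0,0,-1],522,2,4,[200,0,0,0]⟩ (.node ⟨240,[0,2,0,1,2,1,0,1,2,0,0,1,0],[-304,-1690,116,242,53,1978,-1125,92,845,-719,-210,-1469,887,120,-69,-457,-61,163,-1],1100,2,4,[51,0,0,0]⟩ .nil .nil) .nil) (.node ⟨298,[1,0,1,2,0,2,0,1],[-372,-1518,227,283,-275,1726,-1029,57,800,-619,-162,-843,984,203,-53,-536,-4,129,2],1257,2,2,[208,0,0,0]⟩ .nil .nil)))) (.node ⟨79,[],[],0,0,0,[]⟩ (.node ⟨111,[2,0,0],[-1,0,0,0,-1,1,0,0,0,-1,0,0,1],464,2,0,[16,0,0,0]⟩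 (.node ⟨90,[0,1,0],[-9,-1,2,0,-1,-2,2,-1,3,-5,0,-1,10,0,0,-2,0,4],519,2,4,[91,0,0,0]⟩ (.node ⟨143,[1,0,1,2,0,2,0,1],[-17,97,-22,-20,-21,-135,114,-16,24,30,21,81,7,-20,5,63,-2,6],926,2,0,[59,0,0,0]⟩ (.node ⟨80,[],[1],38,2,0,[80,0,0,0]⟩ .nil .nil) .nil) (.node ⟨42,[],[1],33,2,0,[42,0,0,0]⟩ .nil .nil)) (.node ⟨31,[1,2],[0,0,0,1,0,0,0,0,-2,-2,0,-2],397,2,3,[31,0,0,0]⟩ (.node ⟨273,[],[],0,0,0,[]⟩ (.node ⟨289,[1,2,0,1,0,2,1,0],[-171,-439,29,79,-88,500,-237,-2,307,-255,-36,-288,286,49,13,-116,-18,61],931,2,0,[228,0,0,0]⟩ .nil .nil) .nil) (.node ⟨229,[0,0,2,1,2,0,2,0,0,1,0],[-256,-1070,129,170,-79,1174,-717,79,400,-586,-89,-785,473,58,54,-273,-11,5],928,2,6,[59,0,0,0]⟩ .nil .nil))) (.node ⟨33,[2,0,0],[0,0,0,0,1,0,0,0,-2,-1,0,-2,-1],406,2,4,[33,0,0,0]⟩ (.node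 ⟨94,[2,1,0,2],[-1,1,0,0,0,0,0,0,-3,-3,1,-1,-1],478,2,1,[4,0,0,0]⟩ (.node ⟨68,[0,2,0,0,2,1,0],[-11,21,-9,-4,1,-25,27,-9,9,4,-1,21,-4,-1,6,10,0,-5],646,2,1,[68,0,0,0]⟩ (.node ⟨252,[0,0,2],[0,1,0,0,1,-2,1,0,1,0,0,-1,-2,0,0,-1,0,-1],695,2,1,[192,0,0,0]⟩ .nil .nil) .nil) (.node ⟨245,[1,2,0,0,2,0,2,0,1,0,0],[-313,-506,137,94,-401,438,-200,-20,304,-681,157,-32,407,146,26,-233,51,121,2],1234,2,4,[240,0,0,0]⟩ .nil .nil)) (.node ⟨60,[2,1],[1,1,-1,0,0,0,0,0,0,0,0,2],461,2,0,[50,0,0,0]⟩ (.node ⟨78,[0,0,1,0,0],[9,1,-2,0,1,2,-2,1,-4,5,0,1,-11,0,0,2,0,-4],527,2,0,[78,0,0,0]⟩ .nil .nil) (.node ⟨125,[1,2,0],[-2,-7,-3,0,8,5,0,0,2,-9,0,-20,-1,0,0,-3,0,-1],526,2,5,[125,0,0,0]⟩ .nil .nil))))))))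

/-- Table of generator 1 at level 0. -/
def ents0_1 : Arr Ent :=
  (.node ⟨0,[1],[],0,0,0,[]⟩ (.node ⟨3,[],[],0,0,0,[]⟩ (.node ⟨1,[],[0,0,0,0,0,0,0,0,1],41,2,8,[1,0,0,0]⟩ (.node ⟨21,[],[],0,0,0,[]⟩ (.node ⟨20,[2,1,0,2],[-14,68,-11,-10,-12,-76,67,-15,1,17,9,53,-12,1,2,17,0,2],572,2,10,[15,0,0,0]⟩ (.node ⟨83,[],[],0,0,0,[]⟩ (.node ⟨112,[0,2,0,1,2,0,2,0,1,0],[-7,-454,78,67,29,498,-395,56,-18,-390,10,-337,1,39,32,-146,-1,29,-1],1149,2,8,[63,0,0,0]⟩ (.node ⟨230,[1,0,0,2,1,2,1,0,2,0,0],[548,3463,-446,-589,130,-3849,2527,-247,-1093,1845,302,2365,-1308,-218,-135,949,25,-18,-1],1141,2,3,[201,0,0,0]⟩ (.node ⟨185,[2,1,2,1,0,1,2,0,0,1,0],[304,2897,-399,-475,-69,-3229,2268,-290,-658,1410,295,2114,-870,-177,-110,860,23,64,-1],1132,2,2,[196,0,0,0]⟩ .nil .nil) .nil)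 (.node ⟨285,[],[],0,0,0,[]⟩ .nil .nil)) (.node ⟨195,[],[],0,0,0,[]⟩ (.node ⟨264,[],[],0,0,0,[]⟩ (.node ⟨201,[0,0,2,0,1,2,1,0,1,2,1,0],[-42,-162,27,31,-4,201,-134,2,48,-94,-27,-87,16,16,32,-71,-5,-26],844,2,4,[97,0,0,0]⟩ .nil .nil) .nil) (.node ⟨116,[],[0,0,0,0,0,0,0,0,1],88,2,8,[116,0,0,0]⟩ .nil .nil))) (.node ⟨16,[],[0,0,0,0,0,0,0,0,1],49,2,8,[16,0,0,0]⟩ (.node ⟨169,[],[],0,0,0,[]⟩ (.node ⟨59,[],[0,0,0,0,0,0,0,0,1],70,2,8,[59,0,0,0]⟩ (.node ⟨281,[2,0,1,0,2,1,2,0,1],[175,1422,-228,-277,104,-1567,1060,-56,-423,748,157,767,-569,-175,-20,421,-1,-111,1],1072,2,2,[129,0,0,0]⟩ .nil .nil) .nil) (.node ⟨254,[0,2,0,2,0,2,1,2,0,1,0],[-95,-2742,365,438,120,3054,-2242,314,569,-1179,-327,-1843,749,125,103,-706,-24,-49,1],1077,2,4,[207,0,0,0]⟩ .nil .nil)) (.node ⟨216,[],[],0,0,0,[]⟩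 (.node ⟨81,[],[0,0,0,0,0,0,0,0,1],77,2,8,[81,0,0,0]⟩ (.node ⟨303,[2,0,2,1,0,0,2,0,1,0],[-62,-87,-7,-12,-43,41,1,27,52,-157,63,-105,69,-15,10,57,-9,52],961,2,4,[130,0,0,0]⟩ .nil .nil) .nil) (.node ⟨131,[],[0,0,0,0,0,0,0,0,1],95,2,8,[131,0,0,0]⟩ .nil .nil)))) (.node ⟨8,[1,0,2,1,0,2],[1,7,-1,-2,0,-8,5,0,0,4,1,6,0,-1,-1,2,0,1],515,2,8,[8,0,0,0]⟩ (.node ⟨13,[],[0,0,0,0,0,0,0,0,1],48,2,8,[13,0,0,0]⟩ (.node ⟨27,[],[0,0,0,0,0,0,0,0,1],53,2,8,[27,0,0,0]⟩ (.node ⟨209,[2,1,0,0,2,1,2,0,0,1,0],[308,-1457,267,266,341,1644,-1468,202,-183,-434,-314,-924,-177,54,142,-434,0,-275,-1],1156,2,3,[145,0,0,0]⟩ (.node ⟨290,[1,2,1,2,0,0,1,0,2,1,0,0],[220,699,-66,-75,206,-719,364,-60,-382,647,-105,501,-363,-35,-29,142,3,-99],1001,2,6,[26,0,0,0]⟩ .nil .nil) .nil) (.node ⟨199,[0,2,0,0,2,0,0,1,0,0],[30,-9,5,-11,-23,21,-16,-5,74,10,-3,82,18,-14,2,10,-2,20],799,2,6,[18,60,2,2]⟩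 .nil .nil)) (.node ⟨156,[1,0,0,2],[390,2956,-377,-501,17,-3243,2194,-244,-792,1544,260,2098,-1041,-191,-95,810,13,2,-1],1139,2,1,[103,0,0,0]⟩ (.node ⟨165,[0,2,0,2,1,2,0,0,1,0,0],[-44,1683,-203,-209,35,-1805,1314,-250,-489,820,87,1085,-302,-31,-119,386,30,34,-1],1188,2,10,[167,0,0,0]⟩ (.node ⟨220,[0,0,2,0,2,1,2,0,0,1,0],[-1423,-5413,597,902,-404,6023,-3661,391,2113,-2964,-422,-4004,2546,478,164,-1574,-98,265,-1],1050,2,4,[221,0,0,0]⟩ .nil .nil) .nil) (.node ⟨126,[],[0,0,0,0,0,0,0,0,1],92,2,8,[126,0,0,0]⟩ .nil .nil))) (.node ⟨77,[1,0,0,2,1,0,0,2,0,1],[155,320,-30,-62,47,-361,165,-1,-124,274,-3,323,-158,-24,-21,84,5,1],817,2,2,[99,0,0,0]⟩ (.node ⟨184,[],[],0,0,0,[]⟩ (.node ⟨260,[],[],0,0,0,[]⟩ (.node ⟨288,[2,0,1,2,0,1,2,0,1],[213,2059,-302,-338,-49,-2323,1651,-161,-528,997,234,1319,-702,-167,-50,657,8,-26,-1],1128,2,2,[19,0,0,0]⟩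 .nil .nil) .nil) (.node ⟨250,[2,1,0,2,0,0,2],[-15,91,-15,-12,-15,-97,82,-17,1,33,9,74,-15,-2,2,22],626,2,8,[215,0,0,0]⟩ .nil .nil)) (.node ⟨225,[],[],0,0,0,[]⟩ (.node ⟨147,[2,1,0],[-64,28,1,11,-56,-32,59,-21,38,4,4,34,54,18,-1,0,-2,11],1017,2,8,[147,0,0,0]⟩ (.node ⟨272,[],[0,0,0,0,0,0,0,0,1],110,2,8,[272,0,0,0]⟩ .nil .nil) .nil) (.node ⟨138,[],[0,0,0,0,0,0,0,0,1],97,2,8,[138,0,0,0]⟩ .nil .nil))))) (.node ⟨33,[],[],0,0,0,[]⟩ (.node ⟨53,[],[],0,0,0,[]⟩ (.node ⟨94,[],[],0,0,0,[]⟩ (.node ⟨153,[],[],0,0,0,[]⟩ (.node ⟨239,[],[],0,0,0,[]⟩ (.node ⟨150,[],[0,0,0,0,0,0,0,0,1],101,2,8,[150,0,0,0]⟩ .nil .nil) .nil) (.node ⟨95,[],[0,0,0,0,0,0,0,0,1],81,2,8,[95,0,0,0]⟩ .nil .nil)) (.node ⟨101,[1,2,1,0,2,0,0,1,0,0],[4,14,0,-2,-1,-13,8,-3,-1,10,-1,18,-9,-1,1,1,0,-3],588,2,2,[33,0,0,0]⟩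 (.node ⟨75,[],[0,0,0,0,0,0,0,0,1],74,2,8,[75,0,0,0]⟩ (.node ⟨202,[],[0,0,0,0,0,0,0,0,1],106,2,8,[202,0,0,0]⟩ .nil .nil) .nil) (.node ⟨122,[],[0,0,0,0,0,0,0,0,1],90,2,8,[122,0,0,0]⟩ .nil .nil))) (.node ⟨128,[],[],0,0,0,[]⟩ (.node ⟨31,[],[0,0,0,0,0,0,0,0,1],56,2,8,[31,0,0,0]⟩ (.node ⟨183,[0,0,1,2],[64,-28,-1,-11,56,32,-59,21,-37,-5,-4,-34,-55,-18,1,-1,2,-11],1004,2,2,[53,0,0,0]⟩ (.node ⟨275,[1,2,1,2,1],[2,23,-3,-6,-3,-21,17,-4,7,15,0,27,-2,-3,0,5],693,2,6,[89,0,0,0]⟩ .nil .nil) .nil) (.node ⟨108,[],[0,0,0,0,0,0,0,0,1],83,2,8,[108,0,0,0]⟩ .nil .nil)) (.node ⟨221,[],[],0,0,0,[]⟩ (.node ⟨269,[1,0,2,0,2,0,2,1,2,1,0,0],[7,-1933,315,347,174,2159,-1702,213,128,-871,-261,-1262,336,111,99,-559,2,-106,-1],1116,2,6,[10,0,0,0]⟩ (.node ⟨252,[0,1,0,2,0,0,1],[14,-85,14,12,13,90,-77,18,0,-31,-8,-73,13,0,-2,-22,0,-2],696,2,8,[252,0,0,0]⟩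 .nil .nil) .nil) (.node ⟨196,[1,0,0,2,0,0,2,0,1,0],[-113,-21,11,48,-47,45,21,-61,21,-65,-19,25,92,45,-1,-24,2,21],1003,2,8,[196,0,0,0]⟩ .nil .nil)))) (.node ⟨71,[],[],0,0,0,[]⟩ (.node ⟨110,[],[],0,0,0,[]⟩ (.node ⟨163,[],[],0,0,0,[]⟩ (.node ⟨85,[0,2,1,2,1,0,2,0,0,1,0],[5,-26,7,5,1,32,-30,8,-1,2,-5,-19,11,0,-4,-11],621,2,1,[11,0,0,0]⟩ (.node ⟨203,[2,0,0,1,0,2,1,2,0,0,1,0,0],[345,2556,-323,-424,-19,-2856,1902,-191,-751,1286,257,1853,-907,-203,-60,768,26,-28,-1],1136,2,1,[168,0,0,0]⟩ .nil .nil) .nil) (.node ⟨267,[2,1,2,0,0,1,0,2,1,0,0],[-100,-1181,210,212,12,1404,-1061,73,306,-507,-173,-538,488,164,-21,-524,22,63,1],1212,2,4,[76,0,0,0]⟩ .nil .nil)) (.node ⟨42,[],[0,0,0,0,0,0,0,0,1],63,2,8,[42,0,0,0]⟩ (.node ⟨157,[0,1,2,1],[10,-57,8,7,13,58,-49,10,-4,-30,-3,-52,1,1,0,-12,0,-1],714,2,2,[28,0,0,0]⟩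 (.node ⟨268,[1,2,0,2,0,2,0,0,1,0],[516,3399,-356,-477,-148,-3636,2307,-227,-1045,2208,131,2863,-1106,-80,-139,883,6,102],1029,2,2,[105,0,0,0]⟩ .nil .nil) .nil) (.node ⟨297,[1,0,1,2,0,2,0,0,1,0],[166,-1064,168,155,138,1145,-964,148,82,-436,-126,-638,105,8,51,-253,7,-75],882,2,10,[100,0,0,0]⟩ .nil .nil))) (.node ⟨143,[],[],0,0,0,[]⟩ (.node ⟨91,[1],[5,0,-1,0,1,1,-1,0,-1,2,0,1,-5,0,0,1,0,-2],511,2,7,[3,0,0,0]⟩ (.node ⟨120,[0,1,0,2],[-16,674,-86,-96,-97,-715,584,-117,-11,317,76,511,-64,26,-73,100,10,62],985,2,1,[38,0,0,0]⟩ (.node ⟨313,[],[],0,0,0,[]⟩ .nil .nil) .nil) (.node ⟨114,[],[0,0,0,0,0,0,0,0,1],86,2,8,[114,0,0,0]⟩ .nil .nil)) (.node ⟨228,[],[],0,0,0,[]⟩ (.node ⟨154,[0,2,1,2,0,0,1,0,2,1],[-353,1408,-243,-176,-307,-1536,1420,-203,16,581,210,664,-88,-65,-29,368,-20,-51,1],1203,2,7,[107,0,0,0]⟩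 .nil .nil) (.node ⟨140,[],[0,0,0,0,0,0,0,0,1],98,2,8,[140,0,0,0]⟩ .nil .nil)))))) (.node ⟨14,[],[],0,0,0,[]⟩ (.node ⟨26,[],[],0,0,0,[]⟩ (.node ⟨25,[],[-1,1,0,0,0,0,0,0,-1],391,2,1,[2,0,0,0]⟩ (.node ⟨11,[],[0,0,0,0,0,0,0,0,1],47,2,8,[11,0,0,0]⟩ (.node ⟨88,[0,2,1,0,2],[2,4,-1,-1,0,-4,2,0,0,3,1,5,0,-1,-1,2],501,2,10,[43,0,0,0]⟩ (.node ⟨236,[],[],0,0,0,[]⟩ (.node ⟨298,[1,0,0,2,1,2,0,0,1,0],[906,-1029,155,90,549,1210,-1338,197,66,342,-411,-173,-114,22,-102,-352,24,-42,1],1258,2,10,[265,0,0,0]⟩ .nil .nil) .nil) (.node ⟨92,[],[0,0,0,0,0,0,0,0,1],80,2,8,[92,0,0,0]⟩ .nil .nil)) (.node ⟨198,[1,0,2,1,0,2,0,0,1],[3,-14,2,2,2,16,-14,3,3,1,-3,-8,6,0,-2,-4],571,2,6,[37,0,0,0]⟩ (.node ⟨265,[0,1,2,0,2,0],[71,487,-56,-80,-4,-544,354,-47,-153,210,62,385,-168,-11,-28,114,12,21],990,2,10,[161,0,0,0]⟩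 (.node ⟨304,[2,0,1,2,0,0,1,0,2,0,1,0,0],[123,356,-39,-84,54,-433,246,-4,-159,158,60,219,-173,-55,-23,144,3,15],865,2,8,[289,0,0,0]⟩ .nil .nil) .nil) (.node ⟨119,[],[0,0,0,0,0,0,0,0,1],89,2,8,[119,0,0,0]⟩ .nil .nil))) (.node ⟨124,[],[],0,0,0,[]⟩ (.node ⟨175,[],[],0,0,0,[]⟩ (.node ⟨256,[],[],0,0,0,[]⟩ (.node ⟨226,[1,0,2,0,2,0,2,1,2,0],[312,1670,-223,-290,74,-1814,1193,-150,-445,955,90,1287,-621,-62,-78,418,14,43,-1],1107,2,8,[226,0,0,0]⟩ .nil .nil) .nil) (.node ⟨135,[0,2,1,2,0,1,2,0,0,1,0,0],[437,-1745,280,196,451,1873,-1793,326,-75,-605,-287,-913,116,-43,80,-324,12,-21,-1],1108,2,5,[247,0,0,0]⟩ .nil .nil)) (.node ⟨44,[],[0,0,0,0,0,0,0,0,1],65,2,8,[44,0,0,0]⟩ (.node ⟨212,[2,1],[-1,1,0,-1,0,0,0,0,1,1,0,2],434,2,1,[31,0,0,0]⟩ (.node ⟨245,[],[0,0,0,0,0,0,0,0,1],109,2,8,[245,0,0,0]⟩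 .nil .nil) .nil) (.node ⟨133,[2,0,0,2],[-76,1078,-169,-178,-109,-1186,958,-127,-123,393,169,622,-193,-32,-58,257,2,63],907,2,10,[241,0,0,0]⟩ .nil .nil)))) (.node ⟨17,[],[1,-1,0,0,0,0,0,0,2],428,2,8,[17,0,0,0]⟩ (.node ⟨48,[],[-1,1,0,0,0,0,0,0,-1],392,2,1,[5,0,0,0]⟩ (.node ⟨158,[],[],0,0,0,[]⟩ (.node ⟨56,[],[0,0,0,0,0,0,0,0,1],69,2,8,[56,0,0,0]⟩ (.node ⟨161,[0,0,2,0,0,2,1,0,0],[-113,-251,17,50,-36,293,-158,35,68,-165,-1,-278,145,71,-23,-143,2,41],991,2,10,[266,0,0,0]⟩ .nil .nil) .nil) (.node ⟨287,[0,2,1,2,1,0,1,2,1,0],[65,256,-41,-49,20,-311,190,4,-108,140,40,140,-84,-26,-28,95,5,13],863,2,8,[201,0,0,0]⟩ .nil .nil)) (.node ⟨204,[2,1,0,1,2],[259,-598,66,25,364,567,-576,124,-189,-377,-40,-648,-297,-135,103,-80,20,-246],980,2,3,[268,0,0,0]⟩ (.node ⟨79,[],[0,0,0,0,0,0,0,0,1],75,2,8,[79,0,0,0]⟩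 (.node ⟨235,[0,1,2,0,2,0,1,0,0],[-85,-1273,184,222,16,1355,-973,88,307,-640,-135,-764,453,65,35,-274,-1,38],883,2,10,[297,0,0,0]⟩ .nil .nil) .nil) (.node ⟨233,[2,1,2,0,1,0,2,0],[-196,-419,55,72,-164,504,-237,2,323,-256,-20,-209,322,38,18,-130,-7,46],843,2,6,[118,0,0,0]⟩ .nil .nil))) (.node ⟨89,[0,2,1,2,1,0,2,0,0,1,0],[21,-33,6,2,13,34,-38,11,-5,-1,-4,-25,0,-4,-4,-6,0,-1],601,2,7,[45,0,0,0]⟩ (.node ⟨57,[2,1,0,2,0,0,2,1],[-5,35,-8,-7,-2,-39,35,-8,2,3,6,25,-12,-1,2,10],597,2,2,[89,0,0,0]⟩ (.node ⟨67,[],[0,0,0,0,0,0,0,0,1],72,2,8,[67,0,0,0]⟩ (.node ⟨271,[2,1,2,1,0,1,2,0,0],[555,-600,169,69,485,745,-1024,179,-356,212,-318,-83,-204,8,-28,-304,39,-65,-1],1111,2,2,[191,0,0,0]⟩ .nil .nil) .nil) (.node ⟨240,[2,0,0,2,1,2,0,2,1],[-106,-76,-16,3,-55,75,29,-10,127,-136,34,-105,111,27,-7,-15,-11,71],874,2,5,[39,0,0,0]⟩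 .nil .nil)) (.node ⟨181,[1],[-1,0,0,0,0,0,0,1,-2,0,0,-3],402,2,7,[11,0,0,0]⟩ (.node ⟨255,[0,0,2,0,1,2,1,0,1,2],[289,46,-44,-23,301,26,-155,47,-186,433,-156,-40,-110,-4,-94,-31,17,-84,-1],1191,2,2,[174,0,0,0]⟩ (.node ⟨283,[],[0,0,0,0,0,0,0,0,1],112,2,8,[283,0,0,0]⟩ .nil .nil) .nil) (.node ⟨197,[0,1,0],[13,-77,11,10,11,85,-70,17,7,-19,-10,-65,18,-1,-3,-20,0,-2],649,2,3,[250,0,0,0]⟩ .nil .nil))))) (.node ⟨39,[],[],0,0,0,[]⟩ (.node ⟨7,[],[0,0,0,0,0,0,0,0,1],44,2,8,[7,0,0,0]⟩ (.node ⟨64,[0,1,0,2,0,0,1,0,0],[-2,-9,3,3,0,8,-7,1,-8,-13,2,-12,-5,1,1,-2],535,2,3,[17,0,0,0]⟩ (.node ⟨90,[2,1,2,0,0,1,0,2,0,1,0],[-95,-1159,144,194,-52,1334,-852,72,487,-471,-130,-770,486,174,-50,-430,-20,113,1],1231,2,10,[192,0,0,0]⟩ (.node ⟨241,[2,0,2],[76,-1078,169,178,109,1186,-958,127,124,-394,-169,-622,192,32,58,-257,-2,-64],944,2,8,[133,0,0,0]⟩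 (.node ⟨152,[1,0,2,1,0,2],[0,7,-1,-2,0,-8,5,0,-1,2,2,5,0,-1,-1,2,0,1],516,2,10,[8,0,0,0]⟩ .nil .nil) .nil) (.node ⟨249,[0,0,1,0,0],[-15,76,-11,-8,-14,-82,70,-17,-8,17,10,61,-19,1,3,20,0,2],671,2,3,[37,0,0,0]⟩ .nil .nil)) (.node ⟨99,[0,2,1,0,2,0,0],[3,7,-3,-2,3,-3,1,-1,4,13,-3,13,0,-1,-1,1,0,-2],575,2,10,[6,0,0,0]⟩ (.node ⟨167,[0,1,0,2,0,2,0,2,1],[59,-387,51,124,62,412,-291,-22,72,-13,-138,-221,133,57,-26,-53,-10,8,1],1245,2,6,[242,0,0,0]⟩ (.node ⟨262,[1,0,2,0,2,0,2,0,0,1,0,0],[-25,-1571,256,269,-100,1766,-1334,222,352,-576,-172,-873,493,143,22,-518,6,4,1],1076,2,3,[141,0,0,0]⟩ .nil .nil) .nil) (.node ⟨238,[0,2,1,0,2,0,0],[26,320,-46,-44,-24,-353,258,-37,-65,142,43,228,-94,-1,-21,78,0,22],923,2,8,[229,0,0,0]⟩ .nil .nil))) (.node ⟨19,[],[0,0,0,0,0,0,0,0,1],51,2,8,[19,0,0,0]⟩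 (.node ⟨139,[2,1,0,2,0,0,2,1],[-4,34,-8,-7,-2,-39,35,-8,3,3,6,25,-12,-1,2,10],643,2,8,[85,0,0,0]⟩ (.node ⟨224,[0],[-5,-1,0,0,1,0,2,0,0,-5,0,-8,2,0,0,0,0,2],494,2,4,[22,0,0,0]⟩ (.node ⟨210,[0,2,1,0,0,2,1,2,0,0,1],[82,2623,-277,-336,-161,-2839,1955,-244,-887,1231,240,1854,-989,-9,-20,453,44,-123,1],1199,2,2,[157,0,0,0]⟩ .nil .nil) .nil) (.node ⟨109,[],[0,0,0,0,0,0,0,0,1],84,2,8,[109,0,0,0]⟩ .nil .nil)) (.node ⟨84,[0,0,2,1,0,0,2,0],[1,-1,1,0,-1,1,1,-1,0,-4,1,-3,-3,0,0,0,0,-1],644,2,10,[3,0,0,0]⟩ (.node ⟨121,[1],[-1,0,0,0,0,0,0,1,-2,0,0,-3],401,2,7,[1,0,0,0]⟩ (.node ⟨258,[2,1,0,2,0,0],[-90,250,-10,-19,-143,-248,230,-50,47,62,50,250,51,39,-26,1,0,79],960,2,10,[144,0,0,0]⟩ .nil .nil) .nil) (.node ⟨305,[],[],0,0,0,[]⟩ .nil .nil)))) (.node ⟨76,[],[],0,0,0,[]⟩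 (.node ⟨70,[2,0],[0,0,0,0,-1,0,0,0,1,1,0,2,1],442,2,8,[45,0,0,0]⟩ (.node ⟨55,[1,0,0,2,0,1,2,0,1],[-75,-93,0,13,-14,70,-20,8,10,-143,26,-128,6,-35,48,44,-7,-37],838,2,2,[163,0,0,0]⟩ (.node ⟨253,[],[],0,0,0,[]⟩ (.node ⟨179,[2,0,2,0,2,1,2,0,0,1,0,0],[-177,-440,62,58,-58,459,-251,18,84,-558,75,-419,83,22,63,-108,-4,18,-1],1148,2,3,[128,0,0,0]⟩ .nil .nil) .nil) (.node ⟨205,[2,1,0,2,0,0,1],[2,1133,-200,-176,-55,-1235,964,-113,-65,724,76,703,-65,-45,-123,318,-10,96],1246,2,2,[54,0,0,0]⟩ .nil .nil)) (.node ⟨213,[],[],0,0,0,[]⟩ (.node ⟨80,[],[0,0,0,0,0,0,0,0,1],76,2,8,[80,0,0,0]⟩ (.node ⟨274,[2,1,2,0,2,0,0,1,0],[-285,-1807,218,315,-43,1914,-1278,167,335,-1215,-64,-1411,465,-6,173,-274,-25,-68],1026,2,7,[209,0,0,0]⟩ .nil .nil) .nil) (.node ⟨130,[],[0,0,0,0,0,0,0,0,1],94,2,8,[130,0,0,0]⟩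 .nil .nil))) (.node ⟨146,[],[],0,0,0,[]⟩ (.node ⟨34,[],[0,0,0,0,0,0,0,0,1],58,2,8,[34,0,0,0]⟩ (.node ⟨171,[1,2,1,0,0],[-11,57,-8,-7,-13,-58,49,-10,4,29,3,52,-1,-1,0,11,0,1],736,2,8,[157,0,0,0]⟩ (.node ⟨191,[],[0,0,0,0,0,0,0,0,1],104,2,8,[191,0,0,0]⟩ .nil .nil) .nil) (.node ⟨115,[],[0,0,0,0,0,0,0,0,1],87,2,8,[115,0,0,0]⟩ .nil .nil)) (.node ⟨206,[0,0,2,1,0,0,2,1,2,0,0,1],[49,2462,-326,-369,-133,-2701,2012,-291,-518,1084,275,1620,-674,-74,-100,576,20,30,-1],1151,2,1,[42,0,0,0]⟩ (.node ⟨162,[1],[-6,0,1,0,-1,-1,1,1,-1,-2,0,-4,5,0,0,-1,0,2],520,2,7,[89,0,0,0]⟩ .nil .nil) (.node ⟨141,[],[0,0,0,0,0,0,0,0,1],99,2,8,[141,0,0,0]⟩ .nil .nil))))))) (.node ⟨6,[],[],0,0,0,[]⟩ (.node ⟨12,[0,2,1,0,2,0],[0,0,0,0,0,0,0,0,2,3,-1,1,2,0,-1],449,2,8,[4,0,0,0]⟩ (.node ⟨23,[0,2,1,0,2,1],[0,-7,1,2,0,8,-5,0,0,-4,-1,-6,0,1,0,-2,0,-1],508,2,3,[66,0,0,0]⟩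 (.node ⟨47,[],[],0,0,0,[]⟩ (.node ⟨86,[],[],0,0,0,[]⟩ (.node ⟨37,[0,1,0,2,0,0,1,0,0],[1,9,-3,-3,0,-8,7,-1,8,12,-2,12,2,-1,-1,1],539,2,8,[37,0,0,0]⟩ (.node ⟨51,[],[0,0,0,0,0,0,0,0,1],67,2,8,[51,0,0,0]⟩ (.node ⟨145,[],[0,0,0,0,0,0,0,0,1],100,2,8,[145,0,0,0]⟩ .nil .nil) .nil) (.node ⟨286,[],[],0,0,0,[]⟩ .nil .nil)) (.node ⟨36,[],[0,0,0,0,0,0,0,0,1],60,2,8,[36,0,0,0]⟩ (.node ⟨180,[1,0,2,0,2,0,2,1,2,0,0,1],[-241,-1301,163,225,-90,1561,-986,99,344,-818,-93,-964,278,112,116,-457,-14,-70,-1],1193,2,2,[158,0,0,0]⟩ (.node ⟨279,[0,1,2,1,2,0,2,0,0],[-90,-1578,221,210,-47,1721,-1230,188,425,-919,-54,-1029,575,74,4,-407,6,128,1],1214,2,1,[272,0,0,0]⟩ .nil .nil) .nil) (.node ⟨149,[0,0],[4,1,0,0,-1,0,-2,0,1,5,0,8,-2,0,0,0,0,-2],503,2,8,[149,0,0,0]⟩ .nil .nil))) (.node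 ⟨41,[],[1,-1,0,0,0,0,0,0,2],429,2,8,[41,0,0,0]⟩ (.node ⟨173,[],[],0,0,0,[]⟩ (.node ⟨144,[2,0,1,0,0,2,0,0,1],[127,366,-84,-74,90,-442,286,-18,-106,268,24,192,-147,-69,-26,188,-4,-31],927,2,3,[59,0,0,0]⟩ (.node ⟨311,[],[],0,0,0,[]⟩ .nil .nil) .nil) (.node ⟨246,[2,1,0,2],[96,-857,85,121,242,913,-826,177,-135,-401,-116,-659,-157,-19,146,-172,-15,-158],1037,2,8,[208,0,0,0]⟩ .nil .nil)) (.node ⟨63,[0,1,2,1,0,1,2,0,1],[10,528,-87,-80,-41,-581,462,-67,15,414,4,389,-6,-41,-43,167,2,-14,1],1073,2,5,[270,0,0,0]⟩ (.node ⟨82,[],[0,0,0,0,0,0,0,0,1],78,2,8,[82,0,0,0]⟩ (.node ⟨289,[0,0,2,0,1,2,1,0,1,2,0,0,1,0],[-131,-426,54,89,-61,515,-305,12,205,-177,-68,-248,237,54,12,-165,-3,3],846,2,10,[224,0,0,0]⟩ .nil .nil) .nil) (.node ⟨217,[2,0,0,2,1,2,0,2,1],[130,98,10,-7,80,-99,-20,2,-131,158,-42,128,-151,-33,13,19,9,-88],898,2,8,[217,0,0,0]⟩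 .nil .nil)))) (.node ⟨46,[2,1,0],[-2,-2,0,0,0,2,0,0,1,-2,0,-4,1],489,2,8,[24,0,0,0]⟩ (.node ⟨102,[],[],0,0,0,[]⟩ (.node ⟨58,[0,0,2,1,0,0,2,1,2,0,0,1],[-24,-1188,139,180,-12,1291,-886,73,512,-509,-128,-628,500,65,-5,-294,-6,78,1],1075,2,2,[71,0,0,0]⟩ (.node ⟨244,[],[],0,0,0,[]⟩ (.node ⟨159,[],[0,0,0,0,0,0,0,0,1],103,2,8,[159,0,0,0]⟩ .nil .nil) .nil) (.node ⟨100,[],[0,0,0,0,0,0,0,0,1],82,2,8,[100,0,0,0]⟩ .nil .nil)) (.node ⟨104,[0,1,0,0,2,1,2,0,1,0,0],[54,13,-19,-10,4,3,12,-10,114,137,-32,70,82,27,-54,-51,10,19],1137,2,2,[236,0,0,0]⟩ (.node ⟨164,[],[1,-1,0,0,0,0,0,0,2],431,2,8,[164,0,0,0]⟩ (.node ⟨314,[],[],0,0,0,[]⟩ .nil .nil) .nil) (.node ⟨232,[0,2,1,0,2],[15,-676,99,101,78,748,-598,101,39,-304,-85,-476,84,-10,61,-144,-4,-67],890,2,7,[126,0,0,0]⟩ .nil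 .nil))) (.node ⟨137,[],[],0,0,0,[]⟩ (.node ⟨65,[0,2,1,0,2],[-2,-4,1,1,0,4,-2,0,1,-3,-1,-5,1,1,0,-2],509,2,8,[65,0,0,0]⟩ (.node ⟨261,[0,2,1,0,2,1],[1,-7,1,2,0,8,-5,0,1,-2,-2,-5,0,1,0,-2,0,-1],524,2,8,[152,0,0,0]⟩ (.node ⟨242,[1,0,2,0,0,1,0,2,1,0],[32,-285,55,72,25,320,-285,11,57,1,-99,-23,146,25,-8,-47,-2,30],981,2,3,[85,0,0,0]⟩ .nil .nil) .nil) (.node ⟨111,[],[0,0,0,0,0,0,0,0,1],85,2,8,[111,0,0,0]⟩ .nil .nil)) (.node ⟨155,[2,0,0,1,0,0],[13,-670,86,96,97,715,-584,117,5,-318,-76,-511,61,-26,73,-100,-10,-62],1007,2,1,[16,0,0,0]⟩ (.node ⟨87,[],[0,0,0,0,0,0,0,0,1],79,2,8,[87,0,0,0]⟩ (.node ⟨278,[],[0,0,0,0,0,0,0,0,1],111,2,8,[278,0,0,0]⟩ .nil .nil) .nil) (.node ⟨234,[2,0,2,1,0,0,2,0,0,1,0,0],[-40,2657,-368,-354,-37,-2847,2143,-374,-568,1334,163,1742,-478,8,-204,545,35,121,-1],1187,2,3,[157,0,0,0]⟩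 .nil .nil))))) (.node ⟨4,[2,1,0,2],[0,0,0,0,0,0,0,0,-1,-3,1,-1,-1],404,2,10,[0,0,0,0]⟩ (.node ⟨15,[0,2,1,0,2,0],[5,-36,8,7,3,40,-34,7,-1,-7,-6,-29,11,1,-3,-9],569,2,10,[39,0,0,0]⟩ (.node ⟨96,[],[],0,0,0,[]⟩ (.node ⟨118,[0,0,2,1],[2,-1,-1,0,1,1,1,-1,2,-3,0,-2,-3,0,0,1],513,2,8,[68,0,0,0]⟩ (.node ⟨182,[1],[0,5,1,0,-1,-6,4,-1,-4,2,0,3,-2,0,0,2],514,2,6,[65,0,0,0]⟩ (.node ⟨151,[],[0,0,0,0,0,0,0,0,1],102,2,8,[151,0,0,0]⟩ .nil .nil) .nil) (.node ⟨243,[1,0,1,2,0,2,0,1],[113,21,-11,-48,47,-45,-21,61,-21,64,19,-25,-94,-46,1,24,-2,-22],971,2,1,[36,0,0,0]⟩ .nil .nil)) (.node ⟨200,[],[],0,0,0,[]⟩ (.node ⟨168,[],[-1,1,0,0,0,0,0,0,-1],394,2,1,[29,0,0,0]⟩ (.node ⟨218,[0,2,1,0,2,0],[599,1642,-100,-209,144,-1818,959,-70,-1062,818,183,1117,-1251,-261,78,562,20,-364,2],1271,2,2,[219,0,0,0]⟩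 .nil .nil) .nil) (.node ⟨123,[],[0,0,0,0,0,0,0,0,1],91,2,8,[123,0,0,0]⟩ .nil .nil))) (.node ⟨18,[],[0,0,0,0,0,0,0,0,1],50,2,8,[18,0,0,0]⟩ (.node ⟨117,[0,0,2,0,1,2,0],[2,-2,2,0,-2,2,2,-2,2,-5,1,-5,-4,-1,0,2,0,-2],645,2,10,[84,0,0,0]⟩ (.node ⟨178,[2,0,2,1,2,0,1,2,0,0,1],[7,1390,-252,-247,-140,-1509,1226,-155,60,792,125,959,-121,-84,-103,407,-14,120,1],1208,2,8,[148,0,0,0]⟩ (.node ⟨186,[0,2,1,2,0,0,1,0,2,1,0],[-152,-1328,167,246,39,1414,-941,87,212,-819,-98,-1072,264,2,128,-230,-10,-140,1],1243,2,8,[186,0,0,0]⟩ .nil .nil) .nil) (.node ⟨177,[1,2],[1,-1,0,1,0,0,0,0,-1,-2,0,-2],466,2,8,[177,0,0,0]⟩ .nil .nil)) (.node ⟨223,[],[],0,0,0,[]⟩ (.node ⟨160,[1,0,2,0,2,0,2,1,2,0,0,1],[-1408,-5992,661,1000,-611,6589,-4018,450,2472,-3214,-396,-4179,3002,520,86,-1591,-100,460,-1],1176,2,2,[115,0,0,0]⟩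 (.node ⟨308,[0,0,1,2,1,2,1,0],[-443,-4041,544,699,118,4539,-3223,379,927,-1868,-508,-2760,1248,330,153,-1235,-48,20],1285,2,2,[247,0,0,0]⟩ .nil .nil) .nil) (.node ⟨136,[],[0,0,0,0,0,0,0,0,1],96,2,8,[136,0,0,0]⟩ .nil .nil)))) (.node ⟨74,[],[],0,0,0,[]⟩ (.node ⟨113,[],[],0,0,0,[]⟩ (.node ⟨29,[],[0,0,0,0,0,0,0,0,1],55,2,8,[29,0,0,0]⟩ (.node ⟨251,[],[],0,0,0,[]⟩ (.node ⟨299,[0,1,2,0,2,1,2,1],[-153,1286,-146,-150,-294,-1280,1132,-245,25,619,114,965,-87,165,-147,68,0,183],1033,2,2,[268,0,0,0]⟩ .nil .nil) .nil) (.node ⟨105,[2,0,1,0,2],[83,146,-48,-9,76,-150,97,-23,5,286,-69,109,4,-7,-43,61,-6,-14],964,2,7,[26,0,0,0]⟩ .nil .nil)) (.node ⟨211,[],[],0,0,0,[]⟩ (.node ⟨270,[2,0,2,0,1,2,0,0],[44,691,-100,-130,-50,-775,573,-70,-54,340,81,520,-87,-55,-53,218,7,67],946,2,2,[172,0,0,0]⟩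 (.node ⟨222,[],[0,0,0,0,0,0,0,0,1],108,2,8,[222,0,0,0]⟩ .nil .nil) .nil) (.node ⟨129,[],[0,0,0,0,0,0,0,0,1],93,2,8,[129,0,0,0]⟩ .nil .nil))) (.node ⟨50,[1,2,0,0],[-1,-6,-1,0,2,6,-4,2,3,-3,0,-8,1,0,0,-3],523,2,7,[22,0,0,0]⟩ (.node ⟨193,[],[],0,0,0,[]⟩ (.node ⟨103,[2,0,1],[-414,-2956,365,493,-7,3279,-2188,232,848,-1548,-272,-2120,1032,187,107,-825,-23,-6,1],1067,2,7,[72,0,0,0]⟩ (.node ⟨284,[1,2,0,2,0,0,1,0,0],[22,22,-2,3,14,-15,0,-6,-23,39,-12,30,-24,1,-2,6,0,-12],754,2,3,[139,0,0,0]⟩ .nil .nil) .nil) (.node ⟨295,[1,0,0,2,0,2,1,2,0,1,0,0],[29,336,-52,-26,13,-376,302,-66,-87,204,3,171,-100,4,-29,85,4,-23,1],1081,2,1,[220,0,0,0]⟩ .nil .nil)) (.node ⟨49,[],[0,0,0,0,0,0,0,0,1],66,2,8,[49,0,0,0]⟩ (.node ⟨190,[2,0,0,2,1,0],[-2,-2,0,1,-2,3,0,0,1,-4,1,-5,4,-4,0,5,0,-1],533,2,10,[188,0,0,0]⟩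 .nil .nil) (.node ⟨307,[1,0,2,0,0,1,0,0],[-15,85,-14,-12,-13,-90,77,-18,0,30,8,73,-15,0,2,21,0,2],672,2,5,[20,0,0,0]⟩ .nil .nil)))))) (.node ⟨2,[],[0,0,0,0,0,0,0,0,1],42,2,8,[2,0,0,0]⟩ (.node ⟨30,[],[],0,0,0,[]⟩ (.node ⟨52,[],[],0,0,0,[]⟩ (.node ⟨93,[],[],0,0,0,[]⟩ (.node ⟨66,[0,0,1,0],[-1,1,0,0,0,-1,1,0,-1,0,0,-1,-1],473,2,6,[2,0,0,0]⟩ (.node ⟨237,[],[],0,0,0,[]⟩ (.node ⟨309,[1,2,1,0,2,0,0,1],[95,-236,8,17,144,235,-222,47,-47,-52,-51,-232,-59,-40,26,1,0,-81],993,2,8,[258,0,0,0]⟩ .nil .nil) .nil) (.node ⟨174,[0,1,2,0,0,1,0,2,0],[99,122,3,-21,36,-102,5,10,-60,188,-33,156,-43,14,-39,-24,5,21],859,2,4,[35,0,0,0]⟩ .nil .nil)) (.node ⟨38,[],[0,0,0,0,0,0,0,0,1],61,2,8,[38,0,0,0]⟩ (.node ⟨189,[1],[4,0,-1,0,1,1,-1,0,0,2,0,1,-4,0,0,0,0,-2],512,2,7,[62,0,0,0]⟩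 (.node ⟨263,[2,0,0,1,0,2,1,2,1,0],[-49,251,-60,-54,-28,-293,307,-55,34,-3,70,44,-73,13,-13,28,1,14],1010,2,10,[98,0,0,0]⟩ .nil .nil) .nil) (.node ⟨273,[2,0,2,1,2,0,1,2,0,0,1,0,0],[-274,-1514,211,253,-54,1629,-1099,146,376,-893,-69,-1150,554,37,77,-363,-10,-39,1],1056,2,4,[274,0,0,0]⟩ .nil .nil))) (.node ⟨60,[0,2,1],[1,4,1,0,-4,-2,0,0,-1,4,0,10,0,0,0,1],518,2,7,[17,0,0,0]⟩ (.node ⟨176,[],[],0,0,0,[]⟩ (.node ⟨61,[],[0,0,0,0,0,0,0,0,1],71,2,8,[61,0,0,0]⟩ (.node ⟨301,[2,0,2,0,1,0,0,2,0],[251,1589,-203,-248,33,-1710,1130,-144,-449,954,71,1227,-557,-21,-83,348,19,19],1021,2,5,[174,0,0,0]⟩ .nil .nil) .nil) (.node ⟨277,[2,0,0,2,0,1,2,0,0,1,0,0],[-419,986,-152,-51,-412,-1080,1114,-228,148,355,164,568,61,-5,9,290,-32,-40,1],1202,2,3,[242,0,0,0]⟩ .nil .nil)) (.node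 ⟨219,[],[],0,0,0,[]⟩ (.node ⟨148,[1,0,2,0,2,0,2,1,2,0,1,0],[40,-1159,237,191,166,1243,-1089,145,-151,-702,-96,-747,32,54,100,-340,20,-107,-1],1115,2,4,[178,0,0,0]⟩ (.node ⟨302,[0,1,0,2,1,2,1,0],[-81,225,-10,-34,-141,-240,274,-65,152,111,40,183,203,-14,-68,78,5,84],1041,2,8,[302,0,0,0]⟩ .nil .nil) .nil) (.node ⟨280,[1,2,1,2,0,1,0,2,0,0],[-48,298,-60,-69,-32,-338,314,-24,-60,-29,106,22,-169,-19,17,45,3,-41],1006,2,8,[242,0,0,0]⟩ .nil .nil)))) (.node ⟨9,[],[0,0,0,0,0,0,0,0,1],45,2,8,[9,0,0,0]⟩ (.node ⟨107,[],[],0,0,0,[]⟩ (.node ⟨28,[],[0,0,0,0,0,0,0,0,1],54,2,8,[28,0,0,0]⟩ (.node ⟨247,[],[],0,0,0,[]⟩ (.node ⟨266,[0,1,0,2,0,0,1,0,0],[-53,184,-30,-15,-64,-200,193,-30,-2,51,38,91,20,25,-30,27,1,46],921,2,3,[74,0,0,0]⟩ .nil .nil) .nil) (.node ⟨291,[],[],0,0,0,[]⟩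 .nil .nil)) (.node ⟨78,[2,0,2,1,2,0,0,1,0],[-1480,-5735,658,949,-423,6335,-3909,440,2128,-3196,-417,-4215,2563,453,242,-1601,-108,203,-1],1167,2,6,[220,0,0,0]⟩ (.node ⟨142,[2,1,0,2],[72,678,-103,-110,-32,-735,528,-63,-73,431,45,520,-107,-15,-68,168,2,61],925,2,8,[142,0,0,0]⟩ (.node ⟨257,[0,0,1,0,2,1,2,0,1],[-1627,-10322,1160,1665,-611,11427,-7412,995,3393,-5414,-663,-7368,4357,741,124,-2712,-86,479,1],1284,2,10,[298,0,0,0]⟩ .nil .nil) .nil) (.node ⟨248,[2,1,2,0,2,1,2,0,0,1],[-15,-2372,338,361,131,2698,-2040,304,583,-784,-379,-1470,710,78,79,-663,-24,-48,-1],1184,2,3,[147,0,0,0]⟩ .nil .nil))) (.node ⟨72,[2,0,0,2,0,1,2,0,0,1,0],[304,164,-24,-50,236,-171,-58,64,-268,308,-59,59,-251,-100,-24,116,2,-80,1],1087,2,4,[253,0,0,0]⟩ (.node ⟨69,[0,2,1,2,0,0,1,0,2,0,0],[-478,-922,91,184,-286,942,-418,37,418,-777,54,-772,531,44,94,-97,-32,48,1],1201,2,2,[107,0,0,0]⟩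 (.node ⟨187,[0,2,1,2,0,0,1,0,2,1],[1363,4916,-440,-918,547,-5308,2991,-269,-2124,2648,346,3725,-2660,-430,-60,1089,106,-360,-1],1179,2,2,[154,0,0,0]⟩ (.node ⟨310,[2,0,1,2,1],[-65,75,-22,-1,-115,-108,132,-14,9,-101,79,59,-34,7,28,65,-6,14],967,2,7,[185,0,0,0]⟩ .nil .nil) .nil) (.node ⟨292,[2,1,0,2],[-2650,-10520,1013,1725,-1020,11545,-6910,890,4133,-5929,-507,-7959,5470,908,24,-2719,-132,871],1283,2,5,[265,0,0,0]⟩ .nil .nil)) (.node ⟨227,[],[],0,0,0,[]⟩ (.node ⟨276,[2,1,2,0,0,1,0,2,1],[159,1294,-165,-242,-30,-1371,905,-77,-212,817,90,1042,-256,-5,-130,223,10,137,-1],1168,2,2,[197,0,0,0]⟩ (.node ⟨296,[],[0,0,0,0,0,0,0,0,1],113,2,8,[296,0,0,0]⟩ .nil .nil) .nil) (.node ⟨215,[2,1,2,1,0,2,0,0,1],[15,-83,14,10,14,90,-77,17,1,-29,-8,-68,12,0,-2,-23,0,-3],599,2,2,[225,0,0,0]⟩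 .nil .nil))))) (.node ⟨5,[],[0,0,0,0,0,0,0,0,1],43,2,8,[5,0,0,0]⟩ (.node ⟨62,[],[],0,0,0,[]⟩ (.node ⟨98,[],[],0,0,0,[]⟩ (.node ⟨45,[0,0,2],[-1,0,0,0,1,0,0,0,0,-2,0,-2,-1],405,2,4,[9,0,0,0]⟩ (.node ⟨54,[],[0,0,0,0,0,0,0,0,1],68,2,8,[54,0,0,0]⟩ (.node ⟨293,[1,2,0,2,1,2,0,0,1],[-262,-1794,252,308,-56,2031,-1363,141,533,-884,-186,-1218,719,156,23,-576,-2,43,1],1068,2,7,[106,0,0,0]⟩ .nil .nil) .nil) (.node ⟨97,[2,1,0,2,1,0],[-5,27,-4,-4,-4,-32,28,-6,-3,1,5,17,-10,0,2,7],598,2,8,[97,0,0,0]⟩ .nil .nil)) (.node ⟨40,[],[0,0,0,0,0,0,0,0,1],62,2,8,[40,0,0,0]⟩ (.node ⟨166,[2,0,2,1,0],[-180,-463,54,87,-91,523,-265,18,178,-364,5,-410,223,37,22,-123,-6,16],841,2,4,[55,0,0,0]⟩ (.node ⟨214,[],[0,0,0,0,0,0,0,0,1],107,2,8,[214,0,0,0]⟩ .nil .nil) .nil) (.node ⟨127,[1,2,1,0,2,0,0,2,0,1],[-50,-1244,151,168,128,1329,-966,125,238,-674,-107,-922,341,34,38,-264,-7,17,-1],1099,2,10,[230,0,0,0]⟩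 .nil .nil))) (.node ⟨134,[],[],0,0,0,[]⟩ (.node ⟨32,[],[0,0,0,0,0,0,0,0,1],57,2,8,[32,0,0,0]⟩ (.node ⟨259,[],[],0,0,0,[]⟩ (.node ⟨312,[],[],0,0,0,[]⟩ .nil .nil) .nil) (.node ⟨294,[],[],0,0,0,[]⟩ .nil .nil)) (.node ⟨68,[1,2,0],[-2,1,1,0,-1,-1,-1,1,-2,2,0,2,2,0,0,-1],504,2,7,[224,0,0,0]⟩ (.node ⟨132,[1],[-2,-3,-1,0,3,2,0,1,-1,-4,0,-11,0,0,0,-1],510,2,4,[32,0,0,0]⟩ (.node ⟨282,[1,2,1,0,0,2],[65,-75,22,1,115,108,-132,14,-9,100,-79,-59,33,-7,-28,-66,6,-15],998,2,8,[282,0,0,0]⟩ .nil .nil) .nil) (.node ⟨208,[0,2,1,0,2,0],[-96,857,-85,-121,-242,-913,826,-177,136,401,116,659,158,19,-147,172,15,158],1030,2,2,[173,0,0,0]⟩ .nil .nil)))) (.node ⟨10,[],[0,0,0,0,0,0,0,0,1],46,2,8,[10,0,0,0]⟩ (.node ⟨24,[0,0,1,2],[1,2,0,0,0,-2,0,0,-1,1,0,4,-1],472,2,1,[13,0,0,0]⟩ (.node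 ⟨106,[1,0,0,2,0,2,1,2,0,1,0],[83,2270,-336,-382,-107,-2547,1905,-223,-416,1073,246,1452,-580,-143,-81,681,6,46,-1],1119,2,10,[146,0,0,0]⟩ (.node ⟨170,[0,2,1,0,2,0],[-72,-678,103,110,32,735,-528,63,74,-431,-45,-520,108,15,67,-168,-2,-61],893,2,5,[48,0,0,0]⟩ (.node ⟨172,[2,0,1,2,0,2,1,0,0],[-5,-573,91,108,66,647,-508,69,-19,-293,-64,-443,2,33,57,-180,-5,-86],978,2,8,[172,0,0,0]⟩ .nil .nil) .nil) (.node ⟨125,[2,0,0,2,0,1,2,0,0,1,0],[587,638,13,-109,387,-631,-30,-2,-614,713,-175,950,-560,-29,-39,35,56,-58,-1],1110,2,2,[188,0,0,0]⟩ .nil .nil)) (.node ⟨43,[],[0,0,0,0,0,0,0,0,1],64,2,8,[43,0,0,0]⟩ (.node ⟨194,[0,0,2,0,0,1,0,2,1,0,0],[-100,-122,-3,21,-36,102,-5,-10,60,-189,33,-156,40,-14,39,23,-5,-22],879,2,8,[174,0,0,0]⟩ (.node ⟨306,[0,0,1,2,1,2,0,0,1,0,0],[80,-225,10,34,141,240,-274,65,-152,-112,-40,-183,-205,14,68,-80,-5,-85],1036,2,2,[302,0,0,0]⟩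 .nil .nil) .nil) (.node ⟨229,[1,2,1,0,2,0,0,1,0,0],[-16,-305,44,42,28,340,-253,34,65,-124,-47,-204,83,-1,21,-76,0,-26],892,2,2,[238,0,0,0]⟩ .nil .nil))) (.node ⟨22,[],[0,0,0,0,0,0,0,0,1],52,2,8,[22,0,0,0]⟩ (.node ⟨35,[],[0,0,0,0,0,0,0,0,1],59,2,8,[35,0,0,0]⟩ (.node ⟨73,[],[0,0,0,0,0,0,0,0,1],73,2,8,[73,0,0,0]⟩ (.node ⟨192,[],[0,0,0,0,0,0,0,0,1],105,2,8,[192,0,0,0]⟩ .nil .nil) .nil) (.node ⟨300,[],[],0,0,0,[]⟩ .nil .nil)) (.node ⟨231,[],[],0,0,0,[]⟩ (.node ⟨188,[1,0,2,0,0,2,0,0,1],[1,1,0,-1,2,-3,0,0,0,2,-1,5,-7,4,1,-6,0,-1],536,2,8,[188,0,0,0]⟩ .nil .nil) (.node ⟨207,[2,0,2,1,2,0,1,2,0,0],[117,2768,-372,-453,-95,-3090,2257,-307,-598,1178,337,1833,-791,-133,-103,718,24,44,-1],1155,2,8,[207,0,0,0]⟩ .nil .nil))))))))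

/-- Table of generator 2 at level 0. -/
def ents0_2 : Arr Ent :=
  (.node ⟨0,[2],[],0,0,0,[]⟩ (.node ⟨4,[],[],0,0,0,[]⟩ (.node ⟨10,[],[],0,0,0,[]⟩ (.node ⟨2,[],[0,0,0,0,0,0,0,0,0,1],116,2,9,[2,0,0,0]⟩ (.node ⟨5,[],[0,0,0,0,0,0,0,0,0,1],118,2,9,[5,0,0,0]⟩ (.node ⟨84,[],[],0,0,0,[]⟩ (.node ⟨22,[],[0,0,0,0,0,0,0,0,0,1],130,2,9,[22,0,0,0]⟩ (.node ⟨224,[2,1,0,2,1,2,0,1,0],[-6,22,4,-5,-8,-20,13,-4,10,18,-3,33,14,-1,-3,-1,0,9],629,2,2,[91,0,0,0]⟩ (.node ⟨223,[0,0,1,2,1,2,0,2,0,0,1,0],[-127,-265,29,39,15,348,-207,13,129,-106,-79,-201,213,35,-7,-136,3,46],1232,2,2,[25,0,0,0]⟩ .nil .nil) .nil) (.node ⟨268,[1,0,2,0,2,0,2,1,2,0,1,0],[274,2034,-279,-421,166,-2360,1569,-133,-607,859,257,1223,-779,-317,-6,751,8,-59,-1],1121,2,10,[250,0,0,0]⟩ .nil .nil)) (.node ⟨95,[2,0,2,0,0,2,0],[-143,-712,80,122,-27,801,-505,63,233,-363,-69,-557,266,62,26,-223,-12,7],831,2,4,[86,0,0,0]⟩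 (.node ⟨73,[],[0,0,0,0,0,0,0,0,0,1],151,2,9,[73,0,0,0]⟩ (.node ⟨290,[1,2,1,0,0,2,1,0],[169,417,-26,-65,142,-439,221,-62,-216,297,-36,335,-312,-47,16,81,8,-111],1000,2,2,[304,0,0,0]⟩ .nil .nil) .nil) (.node ⟨255,[2,0,2,0,1,0,0,2,0,1,0],[-210,-2482,305,381,-143,2819,-1868,222,1088,-995,-288,-1497,1248,214,-85,-772,-11,276,2],1233,2,2,[223,0,0,0]⟩ .nil .nil))) (.node ⟨82,[0,0,1,0,0],[0,1,-1,0,0,0,0,0,0,1,0,2,-1],468,2,9,[47,0,0,0]⟩ (.node ⟨170,[],[],0,0,0,[]⟩ (.node ⟨237,[],[-104,-387,42,67,-36,417,-249,15,134,-297,-8,-270,126,12,45,-68,-11,10],933,2,10,[237,0,0,0]⟩ (.node ⟨172,[],[0,0,0,0,0,0,0,0,0,1],175,2,9,[172,0,0,0]⟩ .nil .nil) .nil) (.node ⟨292,[],[],0,0,0,[]⟩ .nil .nil)) (.node ⟨43,[],[0,0,0,0,0,0,0,0,0,1],140,2,9,[43,0,0,0]⟩ (.node ⟨275,[],[],0,0,0,[]⟩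 (.node ⟨238,[1,2,1,0,2,1,0,0],[22,-686,102,99,87,740,-613,112,23,-315,-78,-475,79,-10,62,-144,-4,-58],922,2,3,[237,0,0,0]⟩ .nil .nil) .nil) (.node ⟨288,[0,0,2,1,2,1,0,2,0,0],[-3,8,-1,-1,-5,-6,7,-5,9,1,2,17,4,1,-1,0,0,2],579,2,3,[19,0,0,0]⟩ .nil .nil)))) (.node ⟨53,[1,2,0],[-1,-3,-1,0,1,3,-1,1,1,-2,0,-6,1,0,0,-2],507,2,9,[23,0,0,0]⟩ (.node ⟨16,[0,2,1,0,2,1,0,0],[6,-27,5,4,6,27,-25,6,-4,-11,-2,-25,-1,-1,0,-6,0,-2],553,2,2,[12,0,0,0]⟩ (.node ⟨93,[2,1,2,0,0,1,0,2,0,1,0],[-51,-654,52,76,107,737,-512,92,111,-289,-81,-604,221,18,-3,-119,-15,32,-1],1095,2,5,[34,0,0,0]⟩ (.node ⟨177,[0,0,2,0,2,0,1,0],[-911,-2631,332,518,-398,3017,-1700,165,916,-1597,-132,-2200,1109,322,132,-918,-54,-36,1],1226,2,2,[42,0,0,0]⟩ (.node ⟨232,[2,0,1,0,2],[119,-91,51,14,38,87,-195,50,-102,54,-38,93,-39,-58,26,36,10,-50],986,2,5,[155,0,0,0]⟩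 .nil .nil) .nil) (.node ⟨236,[1,0,1,2,1,2,0,0,1,0,0],[164,356,-46,-70,107,-423,189,9,-161,340,-11,282,-122,-71,-36,144,6,-18],956,2,3,[99,0,0,0]⟩ .nil .nil)) (.node ⟨202,[],[],0,0,0,[]⟩ (.node ⟨78,[],[0,0,0,0,0,0,0,0,0,1],154,2,9,[78,0,0,0]⟩ (.node ⟨215,[],[0,0,0,0,0,0,0,0,0,1],182,2,9,[215,0,0,0]⟩ .nil .nil) .nil) (.node ⟨216,[1,0,2,0,0,1,0,2],[-43,593,-94,-83,-67,-639,557,-115,-36,204,83,357,-112,45,-54,84,4,53],918,2,2,[98,0,0,0]⟩ .nil .nil))) (.node ⟨35,[2,0,2,0,0,2,0],[1,286,-39,-35,-27,-297,227,-45,-4,189,3,247,-5,14,-36,39,4,37],825,2,9,[35,0,0,0]⟩ (.node ⟨32,[],[0,0,0,0,0,0,0,0,0,1],136,2,9,[32,0,0,0]⟩ (.node ⟨260,[1,2],[0,0,2,0,0,-1,-2,1,-4,1,0,1,0,0,0,-1],521,2,2,[17,0,0,0]⟩ (.node ⟨179,[],[0,0,0,0,0,0,0,0,0,1],178,2,9,[179,0,0,0]⟩ .nil .nil)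 .nil) (.node ⟨295,[],[],0,0,0,[]⟩ .nil .nil)) (.node ⟨119,[2],[-1,-2,0,0,0,3,0,0,0,-3,0,-6],491,2,6,[46,0,0,0]⟩ (.node ⟨281,[],[],0,0,0,[]⟩ (.node ⟨311,[1,2,1],[60,-149,25,37,-2,214,-208,50,-30,25,-55,-19,-8,15,9,-45,-4,11],1018,2,4,[92,0,0,0]⟩ .nil .nil) .nil) (.node ⟨211,[1,0,1,2,0,1,0,0],[103,298,-30,-50,-70,-321,216,-13,-88,119,62,271,-173,7,-13,66,7,21],966,2,2,[40,0,0,0]⟩ .nil .nil))))) (.node ⟨34,[],[],0,0,0,[]⟩ (.node ⟨54,[],[],0,0,0,[]⟩ (.node ⟨55,[2,0,2,0,0,2,0],[4,-363,47,51,38,392,-301,54,22,-196,-26,-289,29,-6,34,-69,-4,-38],798,2,4,[118,0,0,0]⟩ (.node ⟨25,[],[0,0,0,0,0,0,0,0,0,1],131,2,9,[25,0,0,0]⟩ (.node ⟨240,[],[],0,0,0,[]⟩ (.node ⟨203,[0,0,2,0,1,0],[-125,-1915,266,323,5,2153,-1525,183,556,-821,-222,-1245,690,161,2,-642,-2,46,1],1138,2,4,[157,0,0,0]⟩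 .nil .nil) .nil) (.node ⟨129,[0,2,1,0,2,0],[-71,-1,-32,-13,-8,5,72,-20,64,-92,33,-93,27,21,-6,4,-10,39],934,2,9,[129,0,0,0]⟩ .nil .nil)) (.node ⟨38,[],[0,0,0,0,0,0,0,0,0,1],138,2,9,[38,0,0,0]⟩ (.node ⟨163,[2,0,2,0,0,2,0],[-141,-995,-80,-43,374,840,-459,247,207,-977,191,-1737,249,-280,41,74,-8,-100],1205,2,4,[202,0,0,0]⟩ (.node ⟨291,[2,1,0,2,0,1,0,0],[-567,-2216,216,381,-110,2488,-1472,143,879,-1138,-213,-1750,1070,211,29,-648,-43,110],1035,2,4,[105,0,0,0]⟩ .nil .nil) .nil) (.node ⟨227,[0,1,0,0,2,1,2,0,1,0,0],[132,-3647,728,650,338,4075,-3479,441,227,-1126,-715,-1752,900,364,91,-1367,83,-143,2],1220,2,5,[227,0,0,0]⟩ .nil .nil))) (.node ⟨72,[1,0,0,2,1,2,1,0,2,0,0],[48,1253,-152,-170,-129,-1336,971,-125,-240,677,109,927,-345,-36,-38,263,7,-20,1],1054,2,2,[297,0,0,0]⟩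 (.node ⟨97,[2,1,2,0,1,2,0,1],[166,806,-105,-135,59,-908,582,-85,-207,489,41,646,-248,-41,-57,211,17,6],829,2,10,[12,142,0,1]⟩ (.node ⟨61,[],[0,0,0,0,0,0,0,0,0,1],148,2,9,[61,0,0,0]⟩ (.node ⟨175,[],[0,0,0,0,0,0,0,0,0,1],176,2,9,[175,0,0,0]⟩ .nil .nil) .nil) (.node ⟨247,[0,1,0,0,2,0,1,0],[-103,-299,30,50,70,321,-216,13,88,-119,-62,-271,171,-7,13,-67,-7,-21],996,2,9,[211,0,0,0]⟩ .nil .nil)) (.node ⟨222,[],[],0,0,0,[]⟩ (.node ⟨279,[],[],0,0,0,[]⟩ (.node ⟨307,[0,1,2,0,2,0,0,1,0],[46,-328,40,23,37,392,-309,96,52,-82,-34,-311,18,1,7,-134,-5,-35],972,2,2,[36,0,0,0]⟩ .nil .nil) .nil) (.node ⟨184,[2,0,1,0,2,1,2,0,1],[538,1941,-225,-320,358,-2110,1152,-50,-964,1310,13,1274,-1012,-225,-26,557,12,-171,-1],1159,2,6,[255,0,0,0]⟩ .nil .nil)))) (.node ⟨9,[],[0,0,0,0,0,0,0,0,0,1],121,2,9,[9,0,0,0]⟩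 (.node ⟨111,[],[],0,0,0,[]⟩ (.node ⟨81,[1,0,2,0,2,0,2,1,2,0,1,0,0],[-139,-2369,272,324,191,2679,-1886,237,701,-989,-278,-1708,907,95,-15,-613,-30,67,-1],1102,2,10,[30,0,0,0]⟩ (.node ⟨249,[],[],0,0,0,[]⟩ (.node ⟨251,[1,0,2,1],[-661,-2143,224,434,-565,2349,-1133,-27,1242,-1340,-48,-1356,1279,399,-46,-649,-32,300,1],1213,2,2,[271,0,0,0]⟩ .nil .nil) .nil) (.node ⟨259,[1,0,1,2,0],[-11,-1267,170,158,150,1328,-1010,158,143,-715,-87,-970,247,-14,76,-207,-10,-36,-1],1098,2,10,[9,0,0,0]⟩ .nil .nil)) (.node ⟨208,[],[],0,0,0,[]⟩ (.node ⟨185,[2,0,2,1,0,0,2,1],[-532,-559,79,117,-377,580,-142,-25,451,-715,118,-415,486,75,77,-148,-23,126,1],1091,2,10,[102,0,0,0]⟩ (.node ⟨221,[],[0,0,0,0,0,0,0,0,0,1],185,2,9,[221,0,0,0]⟩ .nil .nil) .nil) (.node ⟨269,[1,0,1,2,1,2,1,0],[95,-233,52,30,62,271,-275,52,-34,-33,-47,-114,-27,17,1,-95,1,-18],862,2,9,[235,0,0,0]⟩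 .nil .nil))) (.node ⟨21,[],[0,0,0,0,0,0,0,0,0,1],129,2,9,[21,0,0,0]⟩ (.node ⟨192,[],[],0,0,0,[]⟩ (.node ⟨70,[],[0,0,0,0,0,0,0,0,0,1],150,2,9,[70,0,0,0]⟩ (.node ⟨285,[0,0,2,0,2,0,0,1,0],[-18,236,-23,-38,-41,-268,201,-29,-59,38,52,172,-72,-6,2,53,6,7],788,2,2,[284,0,0,0]⟩ .nil .nil) .nil) (.node ⟨298,[],[],0,0,0,[]⟩ .nil .nil)) (.node ⟨229,[],[],0,0,0,[]⟩ (.node ⟨88,[],[0,0,0,0,0,0,0,0,0,1],157,2,9,[88,0,0,0]⟩ .nil .nil) (.node ⟨267,[1,2,0,0,1],[123,2536,-350,-417,-145,-2864,2040,-238,-500,1179,297,1849,-659,-117,-89,723,4,130,-1],1142,2,10,[156,0,0,0]⟩ .nil .nil)))))) (.node ⟨15,[],[],0,0,0,[]⟩ (.node ⟨27,[],[],0,0,0,[]⟩ (.node ⟨49,[],[],0,0,0,[]⟩ (.node ⟨90,[],[],0,0,0,[]⟩ (.node ⟨121,[2],[-1,0,0,0,0,0,1,0,-1,-1,0,-3],400,2,6,[23,0,0,0]⟩ (.node ⟨195,[2,1,0,2],[71,1,32,13,8,-5,-72,20,-64,93,-33,93,-26,-21,5,-4,10,-39],897,2,2,[44,0,0,0]⟩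 (.node ⟨226,[1,0,0,2,0,2,0],[1198,1653,-88,-387,465,-1892,566,134,-1279,1240,52,1652,-1714,-288,128,486,63,-423,-1],1253,2,2,[248,0,0,0]⟩ .nil .nil) .nil) (.node ⟨210,[2,1,0],[-3,-1,-1,0,1,1,0,0,0,-1,0,-2,2,0,0,1],486,2,9,[193,0,0,0]⟩ .nil .nil)) (.node ⟨83,[0,2,1,0,0,2,1,2,0,1,0],[-2,-134,19,11,1,114,-98,26,4,-103,13,-87,2,-21,29,18,-5,-16],854,2,10,[83,0,0,0]⟩ (.node ⟨74,[],[0,0,0,0,0,0,0,0,0,1],152,2,9,[74,0,0,0]⟩ (.node ⟨233,[1,2,0,1,0,2,1],[40,241,-28,-37,14,-288,179,-13,-117,99,34,147,-103,-24,-7,86,4,-3],821,2,5,[233,0,0,0]⟩ .nil .nil) .nil) (.node ⟨189,[0,0,1,2],[2,2,0,-1,0,-2,0,0,0,3,0,6,-1],498,2,9,[189,0,0,0]⟩ .nil .nil))) (.node ⟨17,[],[0,0,0,0,0,0,0,0,0,1],126,2,9,[17,0,0,0]⟩ (.node ⟨75,[0,2,0,2,0,2,1,2,0,0,1,0],[-4,2008,-317,-366,-169,-2239,1747,-220,-156,887,272,1330,-360,-116,-102,568,2,112,1],1061,2,10,[270,0,0,0]⟩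 (.node ⟨60,[],[0,0,0,0,0,0,0,0,0,1],147,2,9,[60,0,0,0]⟩ (.node ⟨200,[1,0,2,0,2,0,2,1,0,0],[-171,-13,-10,15,-134,-29,123,-33,64,-230,82,-37,27,1,60,50,-6,-6,-1],1053,2,10,[200,0,0,0]⟩ .nil .nil) .nil) (.node ⟨116,[2,1,2,1,0,2,0,0,1],[45,-830,109,106,127,862,-704,151,-25,-465,-35,-714,-2,-38,89,-130,-12,-114],953,2,4,[211,0,0,0]⟩ .nil .nil)) (.node ⟨100,[0,2,1,0],[-14,89,-15,-16,-14,-93,79,-15,4,35,10,73,-5,-1,-2,22,0,8],573,2,10,[16,0,0,0]⟩ (.node ⟨135,[1,0,0,2,0,2,1,0,0],[-143,-30,-19,12,-118,-10,111,-35,87,-232,78,-37,11,-11,65,66,-8,-12,-1],1194,2,10,[121,0,0,0]⟩ (.node ⟨286,[0,1,2,0,0,1,0,2,0,1,0],[242,-2986,393,434,263,3262,-2590,462,297,-1276,-299,-2021,365,22,185,-626,-21,-204,1],1227,2,3,[211,0,0,0]⟩ .nil .nil) .nil) (.node ⟨158,[2,0,1,0,2,0,0,1],[20,-74,18,11,11,76,-76,22,-23,-40,5,-75,3,4,-9,-26,0,8],691,2,10,[119,0,0,0]⟩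 .nil .nil)))) (.node ⟨67,[],[],0,0,0,[]⟩ (.node ⟨104,[],[],0,0,0,[]⟩ (.node ⟨159,[],[],0,0,0,[]⟩ (.node ⟨246,[],[],0,0,0,[]⟩ (.node ⟨256,[2,0,1,2,0,1,2,0,1],[2972,14165,-1559,-2368,931,-15707,9854,-1176,-4983,7577,1028,10344,-6332,-1160,-278,3871,177,-672],1256,2,2,[160,0,0,0]⟩ .nil .nil) .nil) (.node ⟨201,[1,0,2,0,0,1,0,2,0,0,1],[-43,-161,32,29,-17,206,-129,-4,79,-77,-33,-68,51,11,24,-64,-5,-14],880,2,2,[200,0,0,0]⟩ .nil .nil)) (.node ⟨205,[],[],0,0,0,[]⟩ (.node ⟨197,[0,1,2,0,1,0,2,1,0],[-259,-2114,193,286,41,2335,-1460,152,874,-1070,-174,-1613,945,74,-9,-443,-47,156,-1],1103,2,10,[173,0,0,0]⟩ (.node ⟨217,[],[0,0,0,0,0,0,0,0,0,1],183,2,9,[217,0,0,0]⟩ .nil .nil) .nil) (.node ⟨289,[1,2,1,0,1,2,1],[-40,-241,28,37,-14,288,-179,13,116,-99,-34,-147,103,23,7,-87,-4,2],845,2,9,[233,0,0,0]⟩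 .nil .nil))) (.node ⟨140,[],[],0,0,0,[]⟩ (.node ⟨188,[],[],0,0,0,[]⟩ (.node ⟨164,[2,0,1,2,0,1,0,2,0,0,1,0,0],[-125,278,-29,-40,-60,-350,296,-63,-93,-154,120,139,-107,-25,44,84,8,-12],912,2,10,[164,0,0,0]⟩ (.node ⟨183,[],[0,0,0,0,0,0,0,0,0,1],180,2,9,[183,0,0,0]⟩ .nil .nil) .nil) (.node ⟨297,[],[],0,0,0,[]⟩ .nil .nil)) (.node ⟨65,[2],[1,0,0,0,0,0,-1,0,1,1,0,3],437,2,9,[65,0,0,0]⟩ (.node ⟨171,[1,2,0,0,2,0,2,1,0],[-356,-2933,426,523,56,3308,-2307,233,641,-1455,-327,-2076,917,261,85,-952,-17,-24,1],1065,2,6,[87,0,0,0]⟩ (.node ⟨300,[0,1,0,2,1,2,0,0],[1463,7039,-761,-1216,481,-7810,4868,-578,-2599,3413,575,5166,-3403,-685,10,1981,106,-416,-3],1269,2,5,[222,0,0,0]⟩ .nil .nil) .nil) (.node ⟨139,[],[0,0,0,0,0,0,0,0,0,1],171,2,9,[139,0,0,0]⟩ .nil .nil))))) (.node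 ⟨40,[],[],0,0,0,[]⟩ (.node ⟨59,[],[],0,0,0,[]⟩ (.node ⟨50,[0,0],[-1,-1,0,0,0,1,0,0,0,0,0,-2],427,2,5,[12,0,0,0]⟩ (.node ⟨26,[],[0,0,0,0,0,0,0,0,0,1],132,2,9,[26,0,0,0]⟩ (.node ⟨213,[1,0,2,1,0,2,0,0,1],[-254,-1488,198,252,-30,1613,-1083,117,301,-964,-77,-1091,375,23,151,-320,-8,-114],1244,2,10,[213,0,0,0]⟩ (.node ⟨310,[],[],0,0,0,[]⟩ .nil .nil) .nil) (.node ⟨169,[1,0,2,1,0,0,2,0,0,1,0],[166,1547,-234,-292,-4,-1686,1183,-94,-305,867,158,1008,-469,-113,-70,412,-3,-1,1],1059,2,10,[169,0,0,0]⟩ .nil .nil)) (.node ⟨110,[1,2,1,0,2,0,0,2,0],[3,1,-1,0,3,0,-5,4,-6,7,-1,0,-5,-3,1,-1,0,-4],616,2,9,[101,0,0,0]⟩ (.node ⟨76,[],[0,0,0,0,0,0,0,0,0,1],153,2,9,[76,0,0,0]⟩ (.node ⟨244,[0,2,1,2,1,0,1,2,0,1,0,0],[-253,-528,54,100,9,588,-321,3,219,-311,-63,-484,313,54,18,-182,-15,7],997,2,10,[244,0,0,0]⟩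 .nil .nil) .nil) (.node ⟨123,[],[0,0,0,0,0,0,0,0,0,1],165,2,9,[123,0,0,0]⟩ .nil .nil))) (.node ⟨23,[0,0,2,1],[0,3,1,0,-1,-3,1,-1,-1,2,0,6,-1,0,0,1],500,2,2,[2,0,0,0]⟩ (.node ⟨180,[],[],0,0,0,[]⟩ (.node ⟨258,[],[],0,0,0,[]⟩ (.node ⟨196,[1,2,1,0,1,2,1,0],[-39,-17,6,19,-53,33,3,-13,38,-9,-3,24,33,30,0,-35,0,6],834,2,9,[196,0,0,0]⟩ .nil .nil) .nil) (.node ⟨133,[2,1,0,2,1,0],[191,-1952,300,418,200,2148,-1643,140,256,-522,-422,-1200,395,72,66,-397,-10,-162,2],1249,2,2,[241,0,0,0]⟩ .nil .nil)) (.node ⟨45,[],[0,0,0,0,0,0,0,0,0,1],142,2,9,[45,0,0,0]⟩ (.node ⟨280,[],[],0,0,0,[]⟩ (.node ⟨301,[2,0,2,0,1,2,0,2,0,1,0,0],[-1023,-3573,291,568,-280,3909,-2189,255,1665,-1786,-257,-2916,2163,400,-114,-1020,-55,367,1],1252,2,2,[68,0,0,0]⟩ .nil .nil) .nil) (.node ⟨245,[0,1,0,2,0,2,0,2,0,1,0,0],[-403,-1257,144,235,-175,1398,-780,61,468,-834,-54,-993,546,96,80,-314,-26,24],999,2,5,[136,0,0,0]⟩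 .nil .nil)))) (.node ⟨77,[],[],0,0,0,[]⟩ (.node ⟨117,[],[],0,0,0,[]⟩ (.node ⟨29,[],[0,0,0,0,0,0,0,0,0,1],133,2,9,[29,0,0,0]⟩ (.node ⟨254,[],[],0,0,0,[]⟩ (.node ⟨235,[0,0,1,2,1,2,0,1,0],[-96,233,-52,-30,-62,-271,275,-52,33,33,47,114,27,-18,-1,94,-1,17],840,2,6,[168,0,0,0]⟩ .nil .nil) .nil) (.node ⟨105,[],[0,0,0,0,0,0,0,0,0,1],161,2,9,[105,0,0,0]⟩ .nil .nil)) (.node ⟨214,[],[],0,0,0,[]⟩ (.node ⟨96,[0,2,1,0,2,0],[-134,-167,12,37,-62,156,-30,-18,99,-220,24,-166,106,7,29,-14,-3,8],877,2,3,[95,0,0,0]⟩ (.node ⟨309,[2,0,2,0,1,2,0,2,0,1,0],[-499,-3692,564,635,-562,4415,-2892,317,1664,-1294,-460,-1918,2001,608,-186,-1607,23,371,3],1250,2,2,[243,0,0,0]⟩ .nil .nil) .nil) (.node ⟨143,[],[101,400,-47,-52,43,-425,260,-45,-123,289,-4,321,-163,-33,-15,88,9,-52],930,2,10,[130,0,0,0]⟩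 .nil .nil))) (.node ⟨147,[],[],0,0,0,[]⟩ (.node ⟨71,[0,2,1,2,0,0,1,0,2,0,0],[674,2428,-305,-441,275,-2657,1557,-93,-999,1480,153,1711,-1202,-140,-108,577,35,-89,-1],1140,2,3,[158,0,0,0]⟩ (.node ⟨212,[0,2,0,0],[41,-841,111,106,124,875,-712,153,-20,-473,-34,-721,5,-37,89,-133,-12,-111],887,2,10,[35,0,0,0]⟩ (.node ⟨283,[0,1,2,0,2,1,0,0],[19,-235,23,38,41,268,-201,29,57,-37,-52,-172,69,6,-3,-53,-6,-7],812,2,9,[283,0,0,0]⟩ .nil .nil) .nil) (.node ⟨299,[],[],0,0,0,[]⟩ .nil .nil)) (.node ⟨230,[],[],0,0,0,[]⟩ (.node ⟨225,[2,1,0],[-3,-2,0,1,0,2,0,0,-1,-3,0,-6,1],488,2,3,[89,0,0,0]⟩ .nil .nil) (.node ⟨262,[2,1,0,2,0,1,2,0,0],[57,-404,61,70,0,465,-360,65,55,-112,-54,-253,48,32,8,-114,-6,-18],884,2,4,[40,0,0,0]⟩ .nil .nil))))))) (.node ⟨7,[],[],0,0,0,[]⟩ (.node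 ⟨1,[],[0,0,0,0,0,0,0,0,0,1],115,2,9,[1,0,0,0]⟩ (.node ⟨24,[],[],0,0,0,[]⟩ (.node ⟨39,[1,0,2,1,0,2,0,1,0],[-4,23,-6,-5,-1,-26,23,-4,-1,2,5,14,-7,-1,1,6],548,2,5,[5,0,0,0]⟩ (.node ⟨87,[],[],0,0,0,[]⟩ (.node ⟨28,[2,0,0],[2,0,0,0,1,-1,0,0,-1,0,0,0,-2],477,2,9,[28,0,0,0]⟩ (.node ⟨234,[],[],0,0,0,[]⟩ (.node ⟨265,[0,1,2,1,2,0,2,0,0],[445,4066,-385,-577,84,-4502,2991,-451,-1641,1665,409,2731,-1958,-336,91,1129,49,-399],1200,2,4,[227,0,0,0]⟩ .nil .nil) .nil) (.node ⟨91,[],[0,0,0,0,0,0,0,0,0,1],159,2,9,[91,0,0,0]⟩ .nil .nil)) (.node ⟨173,[2,1,0,2],[134,167,-12,-37,62,-156,30,18,-99,221,-24,166,-105,-7,-30,14,3,-8],901,2,9,[96,0,0,0]⟩ (.node ⟨142,[0,2,1,2,1,0,1,2],[20,-741,95,105,88,812,-637,110,68,-339,-90,-528,105,-17,64,-142,-4,-64],888,2,9,[142,0,0,0]⟩ (.node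 ⟨239,[1,2,1,0,2,0,0,2,0],[-17,-17,-1,1,-8,15,3,-1,19,-24,6,-25,24,5,-5,-6,0,11],577,2,3,[200,0,0,0]⟩ .nil .nil) .nil) (.node ⟨127,[1,2,1,0,2,1,2,0],[-1,6,2,0,-2,-10,6,-1,-7,-5,3,3,-6,0,1],608,2,4,[17,0,0,0]⟩ .nil .nil))) (.node ⟨122,[],[],0,0,0,[]⟩ (.node ⟨30,[],[0,0,0,0,0,0,0,0,0,1],134,2,9,[30,0,0,0]⟩ (.node ⟨62,[1,0,1,2,0,2,1],[24,336,-48,-56,-9,-369,271,-41,-46,171,33,241,-68,1,-32,65,4,28],826,2,10,[62,0,0,0]⟩ (.node ⟨304,[0,0,2,0,0,1],[-20,149,-49,-70,-25,-245,238,-19,64,-116,112,9,20,-72,-9,167,-4,71],943,2,2,[198,0,0,0]⟩ .nil .nil) .nil) (.node ⟨107,[],[0,0,0,0,0,0,0,0,0,1],162,2,9,[107,0,0,0]⟩ .nil .nil)) (.node ⟨112,[2,0,2,0,0,2,0],[-1164,-6394,619,983,-289,7121,-4572,725,2219,-3105,-510,-4817,2815,401,113,-1593,-118,331],1204,2,4,[75,0,0,0]⟩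 (.node ⟨276,[],[],0,0,0,[]⟩ (.node ⟨272,[1,0,2,0],[20,-149,49,70,25,245,-238,19,-65,116,-112,-9,-22,72,9,-167,4,-71],974,2,9,[272,0,0,0]⟩ .nil .nil) .nil) (.node ⟨131,[],[0,0,0,0,0,0,0,0,0,1],168,2,9,[131,0,0,0]⟩ .nil .nil)))) (.node ⟨8,[],[0,0,0,0,0,0,0,0,0,1],120,2,9,[8,0,0,0]⟩ (.node ⟨13,[],[0,0,0,0,0,0,0,0,0,1],124,2,9,[13,0,0,0]⟩ (.node ⟨51,[1,2,1,0,2,0,0,2,0,1],[-43,-1239,150,168,130,1323,-963,122,239,-666,-110,-909,336,35,38,-262,-7,17,-1],1097,2,9,[51,0,0,0]⟩ (.node ⟨218,[2,0,2,0,0,2,0],[1074,895,-161,-261,677,-1147,284,135,-783,977,-33,560,-1041,-398,-11,605,16,-322],1265,2,9,[136,0,0,0]⟩ (.node ⟨294,[0,0,1,2,1,2,1,0],[-1050,-1111,91,223,-612,1278,-381,20,815,-1229,146,-1023,1031,142,95,-344,-39,245],1279,2,2,[132,0,0,0]⟩ .nil .nil) .nil) (.node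 ⟨273,[0,0,2,0,2,1,2,0,0,1],[155,1842,-232,-280,0,-1913,1332,-169,-437,1118,88,1274,-531,-25,-115,297,20,-21,1],1057,2,10,[182,0,0,0]⟩ .nil .nil)) (.node ⟨41,[],[0,0,0,0,0,0,0,0,0,1],139,2,9,[41,0,0,0]⟩ (.node ⟨182,[2,0,0,2,1,0],[-91,-57,-9,11,-37,43,22,-5,47,-113,26,-94,47,-23,31,38,-6,-16],839,2,4,[85,0,0,0]⟩ (.node ⟨312,[0,1,2,1,2,0,2,1],[-760,-7210,1271,1385,-212,8284,-6155,631,1223,-3453,-871,-4013,2190,874,246,-2543,-6,145,1],1260,2,2,[279,0,0,0]⟩ .nil .nil) .nil) (.node ⟨263,[2,1,0,1,2],[27,-163,40,39,42,150,-204,56,-106,-25,-43,-55,-24,-20,43,23,-10,-18],1008,2,2,[231,0,0,0]⟩ .nil .nil))) (.node ⟨20,[],[0,0,0,0,0,0,0,0,0,1],128,2,9,[20,0,0,0]⟩ (.node ⟨187,[],[],0,0,0,[]⟩ (.node ⟨66,[],[0,0,0,0,0,0,0,0,0,1],149,2,9,[66,0,0,0]⟩ (.node ⟨181,[],[0,0,0,0,0,0,0,0,0,1],179,2,9,[181,0,0,0]⟩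 .nil .nil) .nil) (.node ⟨231,[2,0,0,1,0,2,0,0,1],[29,-708,90,99,102,774,-633,122,29,-299,-86,-511,101,-25,57,-124,-4,-65],891,2,10,[52,0,0,0]⟩ .nil .nil)) (.node ⟨198,[2,1,0,2,0,0,2,0,1],[-164,-336,43,73,-84,391,-205,15,162,-205,-24,-252,219,50,9,-118,-10,40],830,2,2,[86,0,0,0]⟩ (.node ⟨243,[2,1,2,1,0,1,2,0,0],[-560,-2028,240,336,-370,2211,-1208,45,1008,-1369,-19,-1325,1062,236,23,-593,-10,177,1],1235,2,9,[184,0,0,0]⟩ (.node ⟨296,[1,2,0,0,2,1,2,1,0,0],[598,2553,-431,-442,128,-2850,2038,-269,-397,1675,96,1787,-846,-242,-144,825,30,-99,-1],1267,2,3,[195,0,0,0]⟩ .nil .nil) .nil) (.node ⟨138,[],[0,0,0,0,0,0,0,0,0,1],170,2,9,[138,0,0,0]⟩ .nil .nil))))) (.node ⟨36,[],[],0,0,0,[]⟩ (.node ⟨56,[],[],0,0,0,[]⟩ (.node ⟨12,[],[0,0,0,0,0,0,0,0,0,1],123,2,9,[12,0,0,0]⟩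 (.node ⟨134,[2,1,2],[1,-369,48,79,5,424,-304,-3,166,-54,-113,-78,199,24,4,-83,6,4],945,2,10,[134,0,0,0]⟩ (.node ⟨124,[1,0,2,0,0,1,0,2,0,1,0],[18,233,-26,-39,-16,-277,200,-21,-71,83,38,142,-71,-18,-10,82,4,8],864,2,6,[53,0,0,0]⟩ (.node ⟨151,[2,1],[0,0,-2,0,0,1,2,-1,4,-1,0,-1],529,2,9,[151,0,0,0]⟩ .nil .nil) .nil) (.node ⟨277,[1,0,2,0,1,2,0,0,1,0,0],[36,15,-3,-18,53,-33,-5,14,-51,-6,8,-34,-40,-31,1,34,0,-6],808,2,4,[43,0,0,0]⟩ .nil .nil)) (.node ⟨113,[0,0,1,2,0,0],[13,-89,15,16,14,93,-79,15,-4,-35,-10,-73,4,1,2,-23,0,-8],603,2,9,[100,0,0,0]⟩ (.node ⟨153,[2,0,1,2,0,1,0,2,0,0,1,0,0],[-55,-323,66,83,-175,395,-264,47,114,-129,-14,-73,148,113,-10,-149,-8,91],950,2,10,[253,0,0,0]⟩ (.node ⟨207,[],[0,0,0,0,0,0,0,0,0,1],181,2,9,[207,0,0,0]⟩ .nil .nil) .nil) (.node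 ⟨228,[0,1,2,1,2,1,0,0],[-51,23,-35,-5,-44,-66,102,3,57,-49,48,-63,87,-7,-24,66,-7,66],932,2,2,[97,0,0,0]⟩ .nil .nil))) (.node ⟨130,[],[],0,0,0,[]⟩ (.node ⟨31,[],[0,0,0,0,0,0,0,0,0,1],135,2,9,[31,0,0,0]⟩ (.node ⟨154,[2,0,2,1,2,0,1,2,0,0,1],[68,1113,-144,-166,73,-1242,839,-106,-416,534,66,693,-481,-87,28,335,-4,-75,-1],1158,2,6,[145,0,0,0]⟩ (.node ⟨176,[],[0,0,0,0,0,0,0,0,0,1],177,2,9,[176,0,0,0]⟩ .nil .nil) .nil) (.node ⟨157,[0,2,0,0],[48,354,-63,-50,10,-355,286,-59,-17,232,3,232,-23,28,-77,34,10,63],915,2,10,[94,0,0,0]⟩ .nil .nil)) (.node ⟨209,[2,1,0,2,0,0,2],[-45,838,-110,-108,-128,-869,709,-151,26,470,36,720,-1,36,-89,129,12,111],983,2,9,[116,0,0,0]⟩ (.node ⟨85,[],[0,0,0,0,0,0,0,0,0,1],156,2,9,[85,0,0,0]⟩ (.node ⟨314,[2,0,1,0,0,2,0,0,1,0],[-158,-4570,702,774,343,4961,-3746,428,522,-2547,-392,-3214,863,239,237,-1311,11,-206,-1],1261,2,5,[257,0,0,0]⟩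 .nil .nil) .nil) (.node ⟨293,[0,2,0,1,2,1,0,1,2,0,1,0,0],[191,381,-42,-76,-25,-416,235,-2,-141,215,54,364,-232,-23,-20,111,13,8],1014,2,9,[244,0,0,0]⟩ .nil .nil)))) (.node ⟨64,[0,2],[-2,0,0,0,-1,1,0,0,1,0,0,0,1],445,2,5,[8,0,0,0]⟩ (.node ⟨114,[],[],0,0,0,[]⟩ (.node ⟨165,[],[],0,0,0,[]⟩ (.node ⟨57,[],[0,0,0,0,0,0,0,0,0,1],146,2,9,[57,0,0,0]⟩ (.node ⟨191,[2,0,2,1,2,0,1,2,0,0,1],[203,6234,-962,-1082,-394,-6949,5260,-640,-839,2899,766,4148,-1443,-370,-267,1806,6,215,1],1211,2,4,[179,0,0,0]⟩ .nil .nil) .nil) (.node ⟨252,[2,0,1,2,1],[441,2458,-313,-443,81,-2774,1800,-176,-741,1235,260,1765,-989,-203,-61,730,18,-32,-1],1145,2,4,[262,0,0,0]⟩ .nil .nil)) (.node ⟨58,[0,2,0,1,2,0,2],[98,-1394,195,195,97,1537,-1188,174,309,-559,-152,-853,361,44,14,-370,3,-8,1],1079,2,9,[58,0,0,0]⟩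 (.node ⟨271,[],[],0,0,0,[]⟩ (.node ⟨313,[0,2,1,2,0,0,1,0,0],[54,359,-78,-105,191,-457,264,11,-329,34,51,21,-336,-145,81,216,16,-154,-1],1270,2,5,[309,0,0,0]⟩ .nil .nil) .nil) (.node ⟨199,[0,1,0,2,1,2,0,1,0],[-165,-356,46,70,-107,423,-189,-9,160,-340,11,-282,121,70,36,-145,-6,17],989,2,9,[199,0,0,0]⟩ .nil .nil))) (.node ⟨145,[],[],0,0,0,[]⟩ (.node ⟨86,[2,1,0,2,1,0],[5,3,-1,0,4,-3,-2,0,-8,-1,2,4,-9,-2,1,2,0,-3],554,2,3,[35,0,0,0]⟩ (.node ⟨166,[0,0,1,2,1,2,0,2,0,0,1,0,0],[35,54,4,-9,1,-14,-1,-12,45,121,-31,106,48,51,-55,-88,7,51],860,2,5,[71,0,0,0]⟩ (.node ⟨250,[2,1,0,2,0,0,2,1,0,0],[-6,75,-15,-10,-11,-80,70,-17,-1,29,7,66,-22,2,2,22,0,-2],627,2,9,[250,0,0,0]⟩ .nil .nil) .nil) (.node ⟨220,[1,0,2,0,0,1],[-77,725,-108,-129,-8,-866,680,-66,-279,63,183,197,-319,-23,3,153,12,-34],1165,2,2,[133,0,0,0]⟩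 .nil .nil)) (.node ⟨132,[1,0,1,2,0,0,1,0,2,0,0,1],[-10,-376,63,71,13,402,-303,31,53,-187,-42,-241,73,18,25,-96,-2,-20],851,2,10,[23,0,0,0]⟩ (.node ⟨89,[],[0,0,0,0,0,0,0,0,0,1],158,2,9,[89,0,0,0]⟩ .nil .nil) (.node ⟨204,[1,2,1,0,0,2],[217,-2184,317,279,289,2246,-1945,358,129,-1044,-198,-1303,248,-154,225,-281,6,-212,-1],1178,2,10,[85,0,0,0]⟩ .nil .nil)))))) (.node ⟨18,[],[],0,0,0,[]⟩ (.node ⟨3,[],[0,0,0,0,0,0,0,0,0,1],117,2,9,[3,0,0,0]⟩ (.node ⟨6,[],[0,0,0,0,0,0,0,0,0,1],119,2,9,[6,0,0,0]⟩ (.node ⟨11,[],[0,0,0,0,0,0,0,0,0,1],122,2,9,[11,0,0,0]⟩ (.node ⟨152,[],[],0,0,0,[]⟩ (.node ⟨52,[],[0,0,0,0,0,0,0,0,0,1],145,2,9,[52,0,0,0]⟩ (.node ⟨149,[],[0,0,0,0,0,0,0,0,0,1],173,2,9,[149,0,0,0]⟩ .nil .nil) .nil) (.node ⟨146,[1,0,0,2,1,0,0,2,1],[-40,-68,7,16,-23,83,-35,-2,52,-25,-13,-42,76,14,-7,-23,-1,19],811,2,9,[146,0,0,0]⟩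 .nil .nil)) (.node ⟨126,[2,0,0,2,1,2,1,0],[71,160,-9,-40,10,-206,112,-5,-67,52,31,138,-111,-45,13,65,11,-35],937,2,9,[98,0,0,0]⟩ (.node ⟨266,[],[],0,0,0,[]⟩ (.node ⟨287,[2,0,1,0,2,0,0],[-173,-424,25,67,-146,448,-221,61,232,-287,29,-337,328,44,-17,-79,-8,110],1015,2,9,[287,0,0,0]⟩ .nil .nil) .nil) (.node ⟨257,[0,0,2,0,0,2,0,1],[-221,-1608,278,220,-245,1854,-1300,218,653,-683,-114,-854,944,153,-77,-580,13,226,1],1222,2,4,[243,0,0,0]⟩ .nil .nil))) (.node ⟨37,[0],[0,1,0,0,0,-1,0,0,0,1,0,2],463,2,9,[37,0,0,0]⟩ (.node ⟨47,[0,1,0],[-1,-1,1,0,0,0,0,0,-1,0,0,-2],438,2,2,[0,0,0,0]⟩ (.node ⟨194,[1,2,0,1,2,0,1],[40,68,-7,-16,23,-83,35,2,-53,25,13,42,-78,-14,7,21,1,-20],787,2,4,[4,0,0,0]⟩ (.node ⟨206,[2,1,2,0,2,0,1,0],[-9,1702,-232,-237,-112,-1851,1389,-191,-415,790,156,1114,-511,-67,-17,460,3,-35,-1],1160,2,5,[42,0,0,0]⟩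 .nil .nil) .nil) (.node ⟨193,[0,0,1,2],[2,1,1,0,-1,-1,0,0,-1,1,0,2,-2,0,0,-1],469,2,2,[47,0,0,0]⟩ .nil .nil)) (.node ⟨44,[],[0,0,0,0,0,0,0,0,0,1],141,2,9,[44,0,0,0]⟩ (.node ⟨242,[2,0,0,2,0,0,2,1,0,0],[71,1931,-295,-276,-87,-2177,1590,-208,-401,985,167,1356,-460,-168,-39,713,-6,17,-1],1129,2,4,[93,0,0,0]⟩ (.node ⟨302,[1,2,0,0,1,0],[500,1449,-161,-293,226,-1634,893,-35,-585,950,88,1062,-604,-160,-116,412,37,-16],1005,2,10,[96,0,0,0]⟩ .nil .nil) .nil) (.node ⟨178,[1,2,0,2,1,2,0],[-46,1119,-218,-183,-163,-1190,1034,-133,118,673,96,710,-37,-43,-101,303,-18,102,1],1206,2,2,[182,0,0,0]⟩ .nil .nil)))) (.node ⟨69,[],[],0,0,0,[]⟩ (.node ⟨14,[],[0,0,0,0,0,0,0,0,0,1],125,2,9,[14,0,0,0]⟩ (.node ⟨161,[],[],0,0,0,[]⟩ (.node ⟨248,[],[],0,0,0,[]⟩ (.node ⟨162,[],[0,0,0,0,0,0,0,0,0,1],174,2,9,[162,0,0,0]⟩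 .nil .nil) .nil) (.node ⟨103,[],[0,0,0,0,0,0,0,0,0,1],160,2,9,[103,0,0,0]⟩ .nil .nil)) (.node ⟨94,[2,0,1,2,0,2,1,0,0],[18,-205,34,22,35,208,-186,54,-61,-156,14,-216,-62,-38,45,-7,-6,-61],886,2,9,[94,0,0,0]⟩ (.node ⟨79,[],[0,0,0,0,0,0,0,0,0,1],155,2,9,[79,0,0,0]⟩ (.node ⟨219,[],[0,0,0,0,0,0,0,0,0,1],184,2,9,[219,0,0,0]⟩ .nil .nil) .nil) (.node ⟨128,[],[0,0,0,0,0,0,0,0,0,1],167,2,9,[128,0,0,0]⟩ .nil .nil))) (.node ⟨108,[0,0,2,1,0,0,2,0,1,0],[-82,1410,-198,-202,-87,-1549,1190,-171,-322,566,155,859,-384,-52,-14,374,-2,1,-1],1049,2,4,[152,0,0,0]⟩ (.node ⟨33,[],[0,0,0,0,0,0,0,0,0,1],137,2,9,[33,0,0,0]⟩ (.node ⟨148,[1,0,2,0,2,0,2,1,2,0,1,0],[183,2876,-378,-498,-97,-3243,2281,-249,-700,1279,352,1983,-859,-240,-56,907,16,21,-1],1126,2,10,[5,0,0,0]⟩ (.node ⟨282,[1,2,0,2,0,2,0,0,1],[428,-797,183,-49,617,743,-967,202,-173,-156,-186,-506,105,-83,-84,-234,56,31,2],1218,2,2,[226,0,0,0]⟩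 .nil .nil) .nil) (.node ⟨136,[2,0,2,0,0,2,0],[-1069,-972,169,277,-666,1242,-358,-126,801,-984,10,-602,1065,406,9,-635,-16,321],1221,2,2,[204,0,0,0]⟩ .nil .nil)) (.node ⟨48,[],[0,0,0,0,0,0,0,0,0,1],144,2,9,[48,0,0,0]⟩ (.node ⟨102,[2,1,0,0,2,0,2,0],[293,331,-32,-61,283,-328,31,22,-371,445,-100,217,-315,-32,-40,54,15,-99,-1],1052,2,5,[158,0,0,0]⟩ (.node ⟨308,[1,2,0,2,0,0,2,0,0,1,0,0],[694,4739,-638,-854,37,-5323,3628,-382,-1318,2176,586,3231,-1819,-393,-119,1413,48,-83,-1],1262,2,6,[293,0,0,0]⟩ .nil .nil) .nil) (.node ⟨284,[0,0,2,1,2,1,0,2,0,0,1,0],[6,-61,13,8,9,67,-59,14,3,-17,-8,-51,21,-2,-4,-20,0,2],600,2,6,[75,0,0,0]⟩ .nil .nil))))) (.node ⟨42,[],[],0,0,0,[]⟩ (.node ⟨63,[],[],0,0,0,[]⟩ (.node ⟨99,[],[],0,0,0,[]⟩ (.node ⟨155,[],[],0,0,0,[]⟩ (.node ⟨68,[2,1,2],[50,465,-49,-94,-37,-537,353,19,-217,119,132,186,-241,-59,-1,156,-6,-2],951,2,10,[67,0,0,0]⟩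 (.node ⟨253,[0,2,1,2,1,0,2,0],[-58,404,-61,-70,0,-465,360,-65,-55,112,54,253,-47,-32,-9,113,6,18],911,2,9,[253,0,0,0]⟩ .nil .nil) .nil) (.node ⟨120,[1,0,0,2,1,2,1,0,2,0,0,1],[164,344,-44,-75,83,-398,210,-15,-162,210,25,258,-223,-52,-9,117,10,-43],856,2,9,[120,0,0,0]⟩ .nil .nil)) (.node ⟨186,[0,2,1,2,0,1,2,1,0,0],[-168,-186,38,53,-95,211,-71,-22,110,-190,1,-137,169,51,7,-91,1,34,-1],1051,2,5,[152,0,0,0]⟩ (.node ⟨156,[2,1,2,0,2,0,2],[-70,210,-30,-22,-16,-200,187,-32,-48,88,10,61,-4,13,-20,6,6,-3],868,2,2,[55,0,0,0]⟩ (.node ⟨264,[0,0,1,2,1,2,1,0],[2099,6681,-724,-1214,697,-7617,4278,-221,-3128,3623,662,4883,-3511,-734,-170,2147,127,-345],1273,2,2,[155,0,0,0]⟩ .nil .nil) .nil) (.node ⟨125,[],[0,0,0,0,0,0,0,0,0,1],166,2,9,[125,0,0,0]⟩ .nil .nil))) (.node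 ⟨19,[],[0,0,0,0,0,0,0,0,0,1],127,2,9,[19,0,0,0]⟩ (.node ⟨92,[1,0,2,1,0,2,0,0,1],[-4,39,-4,-8,-4,-46,34,-3,-6,16,5,26,-5,-3,-1,12,0,3],566,2,2,[65,0,0,0]⟩ (.node ⟨190,[0,0,2,0,2,0,0,1,0,0],[-88,-2154,312,366,106,2429,-1790,189,466,-965,-266,-1356,617,191,37,-723,1,-1,1],1062,2,2,[79,0,0,0]⟩ (.node ⟨278,[1,0,2,0,0,1,0,2,0,0,1],[340,659,-3,-37,42,-522,180,-84,-191,835,-187,939,-214,167,-147,-96,-1,175],1259,2,4,[285,0,0,0]⟩ .nil .nil) .nil) (.node ⟨109,[],[0,0,0,0,0,0,0,0,0,1],163,2,9,[109,0,0,0]⟩ .nil .nil)) (.node ⟨46,[],[0,0,0,0,0,0,0,0,0,1],143,2,9,[46,0,0,0]⟩ (.node ⟨168,[1,0,2,0,0,2,0,0,1],[-51,-32,7,24,-14,58,-29,-8,11,21,-25,-13,55,27,-6,-22,-8,14],858,2,4,[65,0,0,0]⟩ (.node ⟨261,[],[0,0,0,0,0,0,0,0,0,1],186,2,9,[261,0,0,0]⟩ .nil .nil) .nil) (.node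 ⟨137,[],[0,0,0,0,0,0,0,0,0,1],169,2,9,[137,0,0,0]⟩ .nil .nil)))) (.node ⟨80,[],[],0,0,0,[]⟩ (.node ⟨118,[],[],0,0,0,[]⟩ (.node ⟨167,[],[],0,0,0,[]⟩ (.node ⟨160,[2,0,1,0,2,1,2,0,0],[-21,741,-95,-105,-88,-812,637,-110,-68,339,90,528,-105,16,-64,141,4,62],871,2,4,[68,0,0,0]⟩ (.node ⟨174,[0,2,0,1,2,1,0,1,2,0,0,1,0,0],[46,1813,-164,-225,-171,-2024,1366,-167,-686,723,213,1358,-745,-34,39,371,41,-111,1],1055,2,3,[297,0,0,0]⟩ .nil .nil) .nil) (.node ⟨274,[1,0,1,2,0,0,2,1,2],[-156,-1056,219,219,31,1211,-924,8,169,-630,-176,-437,376,154,40,-423,21,91,-1],1112,2,5,[172,0,0,0]⟩ .nil .nil)) (.node ⟨101,[0,0,2,1,2,1,0,2,0,0],[-4,7,0,-2,-4,-7,10,-4,7,-2,2,6,2,1,-1,0,0,1],587,2,2,[5,0,0,0]⟩ (.node ⟨270,[2,0,1,2,0,0,1,0,2,0,0,1,0],[-40,-1496,233,267,67,1667,-1248,131,268,-660,-202,-915,442,110,28,-430,3,12,-1],1046,2,2,[35,0,0,0]⟩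 (.node ⟨306,[0,0,1,0,2,1],[-18,-370,35,54,-19,394,-277,69,125,-146,-33,-271,60,16,38,-105,-15,-15],975,2,10,[304,0,0,0]⟩ .nil .nil) .nil) (.node ⟨303,[1,0,2,1,0,2,0,0,1,0],[67,-355,51,62,-7,407,-310,51,62,-101,-44,-205,28,30,8,-95,-6,-16],949,2,4,[149,0,0,0]⟩ .nil .nil))) (.node ⟨144,[0,2,0,2,0,1,0,0],[-2,-442,56,67,47,490,-373,63,38,-216,-47,-343,66,1,31,-97,-4,-30],853,2,10,[21,0,0,0]⟩ (.node ⟨106,[2,0,2,0,1,2,0,0],[21,323,-43,-44,-19,-336,251,-55,-13,204,3,293,-23,16,-41,45,8,42],870,2,2,[193,0,0,0]⟩ (.node ⟨241,[2,1,0,0,2,1,0],[-24,67,-19,-9,-15,-67,76,-23,39,50,-12,73,13,-7,8,28,0,-9],713,2,9,[158,0,0,0]⟩ (.node ⟨305,[1,0,1,2,0,0,1,0,2,1,0,0],[-453,-4102,548,726,87,4602,-3218,386,894,-1970,-460,-2969,1226,273,164,-1191,-43,-75,1],1254,2,2,[264,0,0,0]⟩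 .nil .nil) .nil) (.node ⟨115,[],[0,0,0,0,0,0,0,0,0,1],164,2,9,[115,0,0,0]⟩ .nil .nil)) (.node ⟨98,[0,0,1,2,1,2,0,2],[-73,-160,9,40,-10,206,-112,5,66,-52,-31,-138,111,45,-13,-66,-11,33],900,2,2,[34,0,0,0]⟩ (.node ⟨150,[1,2,0,2,1,0,0],[89,2155,-312,-366,-106,-2429,1790,-189,-468,966,266,1356,-620,-191,-38,723,-1,1,-1],1118,2,9,[150,0,0,0]⟩ .nil .nil) (.node ⟨141,[],[0,0,0,0,0,0,0,0,0,1],172,2,9,[141,0,0,0]⟩ .nil .nil))))))))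

/-- Table of generator 3 at level 0. -/
def ents0_3 : Arr Ent :=
  (.node ⟨1,[],[],0,0,0,[]⟩ (.node ⟨0,[],[0,0,0,0,0,0,0,0,0,0,0,1],187,2,11,[0,0,0,0]⟩ (.node ⟨11,[],[],0,0,0,[]⟩ (.node ⟨22,[],[],0,0,0,[]⟩ (.node ⟨45,[],[],0,0,0,[]⟩ (.node ⟨10,[],[0,0,0,0,0,0,0,0,0,0,0,1],195,2,11,[10,0,0,0]⟩ (.node ⟨150,[],[],0,0,0,[]⟩ (.node ⟨233,[],[],0,0,0,[]⟩ (.node ⟨243,[1,2,0,1,2,0,1,2,0,1],[39,99,-14,-20,25,-121,63,-7,-52,45,9,84,-75,-9,4,29,3,-13],780,2,4,[62,0,0,0]⟩ .nil .nil) .nil) (.node ⟨90,[],[0,0,0,0,0,0,0,0,0,0,0,1],243,2,11,[90,0,0,0]⟩ .nil .nil)) (.node ⟨146,[2,0,1,0,2,1,2,0,1,0,0],[57,62,-10,-12,36,-61,22,-1,-51,73,-9,40,-63,-18,-2,36,0,-27],804,2,4,[260,0,0,0]⟩ (.node ⟨147,[0,0,2,0,1],[-423,-412,45,92,-369,435,-48,-40,456,-551,107,-248,383,57,74,-93,-25,97,1],1090,2,10,[61,0,0,0]⟩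 (.node ⟨198,[],[0,0,0,0,0,0,0,0,0,0,0,1],266,2,11,[198,0,0,0]⟩ .nil .nil) .nil) (.node ⟨218,[0,2,0,1,0,0,2,0,1,0],[878,-1233,101,61,536,1297,-1353,340,219,235,-339,-610,175,-226,-102,-50,13,-26,2],1264,2,4,[223,0,0,0]⟩ .nil .nil))) (.node ⟨121,[],[],0,0,0,[]⟩ (.node ⟨171,[],[],0,0,0,[]⟩ (.node ⟨229,[2,1,0,2,1,2],[-23,-309,49,45,14,336,-250,35,46,-169,-30,-213,67,2,27,-73,0,-20],895,2,11,[143,0,0,0]⟩ (.node ⟨236,[2,0,0,1,0,2,0,1,0],[-10,875,-144,-123,-6,-946,698,-37,-330,440,95,361,-450,-84,56,208,-1,-217,1],1074,2,10,[172,0,0,0]⟩ .nil .nil) .nil) (.node ⟨286,[0,2,0,2,1,2,0,1,0],[-92,-2781,369,444,128,3095,-2273,319,568,-1199,-330,-1880,748,126,106,-717,-24,-56,1],1229,2,11,[207,0,0,0]⟩ .nil .nil)) (.node ⟨187,[2,0,2],[3,0,0,0,1,-1,-1,0,0,1,0,3,-2,0,0,0,0,-1],485,2,11,[111,0,0,0]⟩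 (.node ⟨83,[0,0,2,0,2,1,2,0,1,0,0],[-68,724,-120,-155,-87,-763,612,-52,-51,222,145,425,-143,-21,-32,134,-4,72,-1],1170,2,4,[82,0,0,0]⟩ (.node ⟨237,[],[0,0,0,0,0,0,0,0,0,0,0,1],271,2,11,[237,0,0,0]⟩ .nil .nil) .nil) (.node ⟨192,[1,0,1,2,1,2,0,2],[-4,-33,3,5,7,33,-22,6,-2,-18,-1,-47,12,3,-4,-7,-1,3],631,2,7,[38,0,0,0]⟩ .nil .nil)))) (.node ⟨65,[],[],0,0,0,[]⟩ (.node ⟨100,[],[],0,0,0,[]⟩ (.node ⟨156,[],[],0,0,0,[]⟩ (.node ⟨54,[],[0,0,0,0,0,0,0,0,0,0,0,1],223,2,11,[54,0,0,0]⟩ (.node ⟨155,[],[0,0,0,0,0,0,0,0,0,0,0,1],259,2,11,[155,0,0,0]⟩ .nil .nil) .nil) (.node ⟨99,[],[0,0,0,0,0,0,0,0,0,0,0,1],246,2,11,[99,0,0,0]⟩ .nil .nil)) (.node ⟨40,[],[0,0,0,0,0,0,0,0,0,0,0,1],213,2,11,[40,0,0,0]⟩ (.node ⟨82,[1,0,2,0,2,0,2,1,2,0,0,1,0,0],[-58,-50,22,-23,-43,83,-104,43,26,-58,22,83,81,-11,15,-39,6,31,-1],1172,2,6,[29,0,0,0]⟩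 (.node ⟨241,[0,2,1,0,2,1],[-13,53,-5,-4,-13,-54,45,-10,-3,26,2,46,-2,0,0,10],668,2,2,[85,0,0,0]⟩ .nil .nil) .nil) (.node ⟨130,[2,0,2,0,1,2,0,0,1,0,0],[26,793,-110,-118,-70,-874,670,-113,-89,365,92,582,-165,-4,-55,181,5,48],872,2,5,[144,0,0,0]⟩ .nil .nil))) (.node ⟨101,[0,0,2,1],[1,0,1,0,-1,0,0,0,-1,-1,0,0,-1],589,2,11,[55,0,0,0]⟩ (.node ⟨185,[],[],0,0,0,[]⟩ (.node ⟨64,[],[0,0,0,0,0,0,0,0,0,0,0,1],230,2,11,[64,0,0,0]⟩ (.node ⟨260,[2,1,2,0,2,1,2,0,0,1,0,0],[151,2525,-338,-409,-92,-2830,2023,-239,-643,1132,293,1693,-808,-186,-40,788,8,-14,-1],1124,2,6,[84,0,0,0]⟩ .nil .nil) .nil) (.node ⟨110,[],[0,0,0,0,0,0,0,0,0,0,0,1],249,2,11,[110,0,0,0]⟩ .nil .nil)) (.node ⟨46,[],[0,0,0,0,0,0,0,0,0,0,0,1],217,2,11,[46,0,0,0]⟩ (.node ⟨137,[0,1,0,2,0,2,0,2,0,0,1,0],[52,-6,-4,-26,0,-6,-18,47,29,69,3,-17,-18,-24,-1,4,-4,-11],973,2,4,[8,0,0,0]⟩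 (.node ⟨280,[2,0,0,2,1,2,1,0],[-141,-277,31,44,-22,269,-123,2,92,-290,16,-297,119,1,34,-51,-2,-5],938,2,6,[197,0,0,0]⟩ .nil .nil) .nil) (.node ⟨208,[2,0,1,0,0,2,0,0,1],[-450,-434,53,119,-337,506,-47,-80,449,-501,70,-370,482,121,-2,-170,-16,110],1031,2,11,[208,0,0,0]⟩ .nil .nil))))) (.node ⟨3,[],[0,0,0,0,0,0,0,0,0,0,0,1],189,2,11,[3,0,0,0]⟩ (.node ⟨6,[],[0,0,0,0,0,0,0,0,0,0,0,1],192,2,11,[6,0,0,0]⟩ (.node ⟨92,[0,0,1,0,0],[0,1,0,0,-1,0,0,0,-1,1,0,2,-1],470,2,11,[35,0,0,0]⟩ (.node ⟨134,[0,0,1,2,1,2,0,0,1,0,0],[-79,764,-113,-99,-107,-816,662,-127,-4,411,48,617,25,-1,-68,201,0,101],914,2,2,[153,0,0,0]⟩ (.node ⟨52,[],[0,0,0,0,0,0,0,0,0,0,0,1],221,2,11,[52,0,0,0]⟩ (.node ⟨169,[1,2,0,0,2,0,2,0,0,1,0,0],[-89,-2217,320,372,117,2492,-1839,201,469,-1004,-267,-1419,631,191,37,-738,1,0,1],1070,2,11,[169,0,0,0]⟩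 .nil .nil) .nil) (.node ⟨204,[1,0,2,0,1,2,1],[65,86,13,-46,-14,-128,37,29,-112,-99,81,71,-141,-72,38,94,6,-16],935,2,2,[30,0,0,0]⟩ .nil .nil)) (.node ⟨199,[],[],0,0,0,[]⟩ (.node ⟨202,[2,1,0,0,2,1],[43,-1053,193,205,165,1146,-918,46,59,-498,-187,-616,120,48,82,-297,11,-114,-1],1113,2,4,[198,0,0,0]⟩ (.node ⟨299,[0,1,0,0,2,1,2,1,0],[-226,86,-5,-13,-228,-122,255,-75,237,-211,130,67,161,51,-7,-47,1,75],1024,2,3,[291,0,0,0]⟩ .nil .nil) .nil) (.node ⟨227,[2,1,0,2,1,2,0,0,1,0],[109,2637,-427,-462,-159,-2999,2275,-254,-519,929,454,1577,-900,-255,-9,910,-10,-25,-1],1144,2,2,[122,0,0,0]⟩ .nil .nil))) (.node ⟨34,[2,1,0,2,0,0],[2,7,3,-3,-7,-5,1,0,10,16,-2,23,13,0,-4,0,0,6],574,2,4,[182,0,0,0]⟩ (.node ⟨175,[0,0,2,0,2,1,2,0,1,0,0],[5,-161,15,39,109,238,-168,5,42,87,-110,-202,109,32,-49,-121,-2,3,1],1093,2,4,[87,0,0,0]⟩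 (.node ⟨159,[1,0,0,2,0],[289,379,-57,-83,145,-424,153,46,-296,326,16,226,-348,-65,-22,136,5,-59,1],1088,2,10,[73,0,0,0]⟩ (.node ⟨225,[2,1,2,1],[8,-58,7,8,13,59,-48,10,-3,-32,-3,-57,2,1,0,-13,0,-1],652,2,3,[11,0,0,0]⟩ .nil .nil) .nil) (.node ⟨293,[],[],0,0,0,[]⟩ .nil .nil)) (.node ⟨44,[],[0,0,0,0,0,0,0,0,0,0,0,1],216,2,11,[44,0,0,0]⟩ (.node ⟨84,[],[0,0,0,0,0,0,0,0,0,0,0,1],238,2,11,[84,0,0,0]⟩ (.node ⟨278,[1,2,0,0,2,0,2,0,0,1,0,0],[-569,-2199,307,398,-89,2459,-1606,145,621,-1281,-185,-1581,977,191,73,-673,-19,83,1],1215,2,2,[251,0,0,0]⟩ .nil .nil) .nil) (.node ⟨255,[0,1,2,1,2,0,2,0,0,1],[3,-23,7,5,-1,32,-30,8,-3,4,-5,-15,9,-1,-2,-9,-1,-2],803,2,11,[243,0,0,0]⟩ .nil .nil)))) (.node ⟨72,[],[],0,0,0,[]⟩ (.node ⟨14,[],[0,0,0,0,0,0,0,0,0,0,0,1],197,2,11,[14,0,0,0]⟩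 (.node ⟨117,[0,0,2,0],[0,0,-1,0,1,0,0,0,1,-1,0,0,-1],475,2,11,[75,0,0,0]⟩ (.node ⟨250,[],[],0,0,0,[]⟩ (.node ⟨267,[0,2,1,0,2,1,0,2,1],[-308,-2989,264,366,338,3240,-2172,361,650,-1844,-124,-2858,757,-39,131,-669,-36,-116,1],1217,2,7,[267,0,0,0]⟩ .nil .nil) .nil) (.node ⟨104,[],[0,0,0,0,0,0,0,0,0,0,0,1],247,2,11,[104,0,0,0]⟩ .nil .nil)) (.node ⟨209,[],[],0,0,0,[]⟩ (.node ⟨79,[],[0,0,0,0,0,0,0,0,0,0,0,1],236,2,11,[79,0,0,0]⟩ (.node ⟨291,[0,0,1,2,1,2,0,1,0,0],[-15,-1014,135,155,10,1065,-870,189,107,-442,-85,-602,317,-30,61,-94,-11,21],1028,2,3,[39,0,0,0]⟩ .nil .nil) .nil) (.node ⟨128,[],[0,0,0,0,0,0,0,0,0,0,0,1],254,2,11,[128,0,0,0]⟩ .nil .nil))) (.node ⟨144,[],[],0,0,0,[]⟩ (.node ⟨33,[],[0,0,0,0,0,0,0,0,0,0,0,1],210,2,11,[33,0,0,0]⟩ (.node ⟨263,[],[],0,0,0,[]⟩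 (.node ⟨292,[0,1,2,0,2,1,2,0,0,1,0],[39,1676,-210,-274,-66,-1893,1377,-198,-399,616,215,1135,-514,-129,-11,485,22,-17,-1],1154,2,3,[283,0,0,0]⟩ .nil .nil) .nil) (.node ⟨256,[2,1,0,2,0,1],[-1406,-5580,564,915,-507,6151,-3690,452,2243,-3067,-345,-4187,2797,460,81,-1473,-94,396],1043,2,3,[115,0,0,0]⟩ .nil .nil)) (.node ⟨48,[],[0,0,0,0,0,0,0,0,0,0,0,1],219,2,11,[48,0,0,0]⟩ (.node ⟨111,[2,0,0,2],[-3,0,0,0,-1,1,1,0,0,-2,0,-2,1],465,2,6,[1,0,0,0]⟩ .nil .nil) (.node ⟨290,[2,1,2,0,2,1,2,0,0,1,0],[-242,-301,49,109,58,375,-198,-64,20,-243,-87,-309,127,82,39,-188,-3,-49],1002,2,11,[251,0,0,0]⟩ .nil .nil)))))) (.node ⟨16,[],[],0,0,0,[]⟩ (.node ⟨28,[],[],0,0,0,[]⟩ (.node ⟨50,[],[],0,0,0,[]⟩ (.node ⟨91,[],[],0,0,0,[]⟩ (.node ⟨23,[],[0,0,0,0,0,0,0,0,0,0,0,1],202,2,11,[23,0,0,0]⟩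 (.node ⟨216,[0,0,2,1,2,0,2,1,0],[-51,-92,21,19,-55,109,-41,-4,16,-153,24,-77,-10,39,17,-54,-1,19],920,2,5,[129,0,0,0]⟩ (.node ⟨308,[],[],0,0,0,[]⟩ .nil .nil) .nil) (.node ⟨242,[0,0,1,2,1,2,0,0,1],[19,-360,63,85,27,410,-345,14,80,-38,-107,-70,177,34,-8,-74,-2,32],982,2,11,[193,0,0,0]⟩ .nil .nil)) (.node ⟨36,[],[0,0,0,0,0,0,0,0,0,0,0,1],211,2,11,[36,0,0,0]⟩ (.node ⟨222,[2,0,2,1,2,1,0,1,2,0,0],[-33,-665,83,74,9,750,-563,107,171,-340,-38,-426,179,1,40,-158,-12,9,-1],1164,2,10,[101,0,0,0]⟩ (.node ⟨201,[],[0,0,0,0,0,0,0,0,0,0,0,1],268,2,11,[201,0,0,0]⟩ .nil .nil) .nil) (.node ⟨275,[1,2,1,2],[-9,36,-4,-2,-10,-39,32,-7,-4,14,3,33,-1,2,0,6,0,1],669,2,3,[225,0,0,0]⟩ .nil .nil))) (.node ⟨125,[],[],0,0,0,[]⟩ (.node ⟨30,[],[0,0,0,0,0,0,0,0,0,0,0,1],208,2,11,[30,0,0,0]⟩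 (.node ⟨145,[2,0,2,0,1,2,0,2,0,1],[-22,-1046,143,149,-85,1172,-802,101,435,-461,-67,-587,473,93,-47,-334,5,99,1],1078,2,6,[141,0,0,0]⟩ (.node ⟨310,[1,0,1,2,1,0],[-184,-184,9,36,-126,150,-5,-3,96,-332,83,-197,95,2,54,17,-8,13],878,2,3,[273,0,0,0]⟩ .nil .nil) .nil) (.node ⟨107,[],[0,0,0,0,0,0,0,0,0,0,0,1],248,2,11,[107,0,0,0]⟩ .nil .nil)) (.node ⟨217,[],[],0,0,0,[]⟩ (.node ⟨277,[],[],0,0,0,[]⟩ (.node ⟨296,[0,1,2,0,1,0,2,1,0,0],[-414,-2528,429,487,-554,3153,-1980,121,1397,-713,-409,-1042,1717,650,-288,-1369,32,496,3],1251,2,7,[244,0,0,0]⟩ .nil .nil) .nil) (.node ⟨295,[1,0,2,1,0,2],[13,-53,5,4,13,54,-45,10,3,-26,-2,-45,3,0,-1,-11],692,2,11,[241,0,0,0]⟩ .nil .nil)))) (.node ⟨68,[],[],0,0,0,[]⟩ (.node ⟨105,[],[],0,0,0,[]⟩ (.node ⟨160,[],[],0,0,0,[]⟩ (.node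 ⟨183,[0,1,2,0,2,1,2,0,0,1,0,0],[651,1822,-182,-318,270,-2000,1048,-80,-801,1283,45,1511,-855,-151,-108,477,44,-86],969,2,5,[137,0,0,0]⟩ (.node ⟨265,[2,1,0,2,1,2,0,0,1,0],[1394,4818,-483,-842,503,-5271,3065,-353,-1895,2741,270,3780,-2582,-472,-21,1285,72,-394,-1],1181,2,6,[44,0,0,0]⟩ .nil .nil) .nil) (.node ⟨289,[],[],0,0,0,[]⟩ .nil .nil)) (.node ⟨41,[],[0,0,0,0,0,0,0,0,0,0,0,1],214,2,11,[41,0,0,0]⟩ (.node ⟨259,[2,1,2,0,2,1,2,0,0,1,0,0],[152,2525,-338,-409,-91,-2830,2022,-239,-643,1130,293,1693,-808,-186,-40,788,8,-14,-1],1047,2,2,[152,0,0,0]⟩ (.node ⟨270,[1,2,1,0,2,0],[177,251,-18,-48,121,-225,63,-8,-105,351,-75,251,-106,-4,-55,3,8,-5],902,2,6,[273,0,0,0]⟩ .nil .nil) .nil) (.node ⟨127,[],[0,0,0,0,0,0,0,0,0,0,0,1],253,2,11,[127,0,0,0]⟩ .nil .nil))) (.node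 ⟨20,[],[0,0,0,0,0,0,0,0,0,0,0,1],200,2,11,[20,0,0,0]⟩ (.node ⟨189,[],[],0,0,0,[]⟩ (.node ⟨262,[],[],0,0,0,[]⟩ (.node ⟨285,[0,0,2,1,2,1,0,2,0,1,0,0],[13,-39,4,0,15,36,-35,10,-5,-28,3,-38,-4,-2,-1,-7,0,3],653,2,4,[215,0,0,0]⟩ .nil .nil) .nil) (.node ⟨113,[],[0,0,0,0,0,0,0,0,0,0,0,1],250,2,11,[113,0,0,0]⟩ .nil .nil)) (.node ⟨47,[],[0,0,0,0,0,0,0,0,0,0,0,1],218,2,11,[47,0,0,0]⟩ (.node ⟨87,[],[0,0,0,0,0,0,0,0,0,0,0,1],241,2,11,[87,0,0,0]⟩ (.node ⟨313,[1,2,1,0,2,1,2,0,1,0,0],[0,-863,117,154,-7,1014,-728,86,298,-201,-134,-495,352,125,-50,-337,-10,44,1],1230,2,4,[283,0,0,0]⟩ .nil .nil) .nil) (.node ⟨186,[2,1,0,2,0,0,1],[15,-84,14,12,14,90,-79,18,-2,-28,-8,-69,12,0,-2,-23,0,-3],651,2,11,[186,0,0,0]⟩ .nil .nil))))) (.node ⟨4,[],[0,0,0,0,0,0,0,0,0,0,0,1],190,2,11,[4,0,0,0]⟩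 (.node ⟨60,[],[],0,0,0,[]⟩ (.node ⟨12,[],[0,0,0,0,0,0,0,0,0,0,0,1],196,2,11,[12,0,0,0]⟩ (.node ⟨154,[],[],0,0,0,[]⟩ (.node ⟨176,[2,0,0,2,0,0,2,0,0,1,0],[-19,-221,28,-5,-3,248,-208,58,64,-167,17,-103,50,-13,28,-51,-4,24,-1],1175,2,11,[133,0,0,0]⟩ (.node ⟨253,[0,2,1,0,2,1,0,2,0,1,0],[0,9,-3,-2,-5,-6,8,-1,11,16,-2,14,6,-1,-2,0,0,-1],697,2,4,[225,0,0,0]⟩ .nil .nil) .nil) (.node ⟨96,[],[0,0,0,0,0,0,0,0,0,0,0,1],245,2,11,[96,0,0,0]⟩ .nil .nil)) (.node ⟨55,[1,2,0],[-1,0,-1,0,1,0,0,0,0,0,0,1],562,2,4,[64,0,0,0]⟩ (.node ⟨210,[2,1,0],[-2,-1,-1,0,1,1,0,0,1,1,-1,-1,2,0,0,1],505,2,11,[165,0,0,0]⟩ (.node ⟨211,[],[0,0,0,0,0,0,0,0,0,0,0,1],269,2,11,[211,0,0,0]⟩ .nil .nil) .nil) (.node ⟨143,[2,1,0,2,1,0,2,0],[24,309,-49,-45,-14,-336,250,-35,-46,168,30,214,-67,-2,-28,72,0,20],873,2,6,[48,0,0,0]⟩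 .nil .nil))) (.node ⟨132,[],[],0,0,0,[]⟩ (.node ⟨181,[],[],0,0,0,[]⟩ (.node ⟨62,[],[0,0,0,0,0,0,0,0,0,0,0,1],228,2,11,[62,0,0,0]⟩ (.node ⟨177,[],[0,0,0,0,0,0,0,0,0,0,0,1],263,2,11,[177,0,0,0]⟩ .nil .nil) .nil) (.node ⟨205,[0,2,0,2,0,2,1,2,1,0],[-13,-77,-3,67,-8,88,9,-34,23,40,-48,-164,37,42,-26,-27,-4,-36,1],1247,2,11,[205,0,0,0]⟩ .nil .nil)) (.node ⟨75,[0,0,2,0],[-1,0,1,0,-1,0,0,0,-1,0,0,1],441,2,2,[9,0,0,0]⟩ (.node ⟨85,[],[0,0,0,0,0,0,0,0,0,0,0,1],239,2,11,[85,0,0,0]⟩ (.node ⟨300,[0,0,1,2,1,2,0,2,0,0,1,0],[-87,247,-7,-19,-141,-247,229,-50,38,54,52,240,40,39,-25,3,-1,78],1012,2,11,[300,0,0,0]⟩ .nil .nil) .nil) (.node ⟨136,[],[0,0,0,0,0,0,0,0,0,0,0,1],255,2,11,[136,0,0,0]⟩ .nil .nil)))) (.node ⟨78,[],[],0,0,0,[]⟩ (.node ⟨15,[],[0,0,0,0,0,0,0,0,0,0,0,1],198,2,11,[15,0,0,0]⟩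 (.node ⟨166,[],[],0,0,0,[]⟩ (.node ⟨58,[],[0,0,0,0,0,0,0,0,0,0,0,1],225,2,11,[58,0,0,0]⟩ (.node ⟨168,[],[0,0,0,0,0,0,0,0,0,0,0,1],261,2,11,[168,0,0,0]⟩ .nil .nil) .nil) (.node ⟨213,[0,2,0,2,0,2,1,2,1,0],[7,2,6,-48,2,-7,-52,40,3,-61,37,93,-14,-38,27,19,0,29,-1],1173,2,6,[241,0,0,0]⟩ .nil .nil)) (.node ⟨109,[0,2,1,2,0,0,1,0,2,1],[-1400,-8011,912,1344,-378,8875,-5663,608,2974,-3874,-760,-5580,3510,610,151,-2109,-144,362,1],1240,2,6,[212,0,0,0]⟩ (.node ⟨272,[],[],0,0,0,[]⟩ (.node ⟨226,[],[0,0,0,0,0,0,0,0,0,0,0,1],270,2,11,[226,0,0,0]⟩ .nil .nil) .nil) (.node ⟨303,[],[],0,0,0,[]⟩ .nil .nil))) (.node ⟨148,[],[],0,0,0,[]⟩ (.node ⟨124,[1,2,0,2,1],[0,4,2,1,-2,-6,4,-2,-4,1,0,5,-2,0,0,2,0,-1],532,2,3,[3,0,0,0]⟩ (.node ⟨106,[2,1],[2,2,0,-2,-1,0,0,-1,5,1,0,10,0,0,0,-1,0,1],674,2,11,[106,0,0,0]⟩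 (.node ⟨281,[1,2,1,0,2,0,0,2,1,0,0],[-13,54,-6,-2,-17,-49,46,-13,5,39,-4,54,2,2,-1,9,0,-3],675,2,11,[281,0,0,0]⟩ .nil .nil) .nil) (.node ⟨180,[2,0,0,1,0,2,1,2,0,0,1,0,0],[-26,921,-164,-155,20,-989,792,-87,-218,399,111,351,-241,-27,-67,187,8,-11,1],1084,2,3,[221,0,0,0]⟩ .nil .nil)) (.node ⟨49,[],[0,0,0,0,0,0,0,0,0,0,0,1],220,2,11,[49,0,0,0]⟩ (.node ⟨89,[],[0,0,0,0,0,0,0,0,0,0,0,1],242,2,11,[89,0,0,0]⟩ .nil .nil) (.node ⟨261,[1,2,1,0,2,1,2,0,0,1,0,0],[1,34,-4,-8,1,-50,35,-5,-13,-10,14,18,-16,-6,1,20,0,4],716,2,11,[253,0,0,0]⟩ .nil .nil))))))) (.node ⟨8,[],[],0,0,0,[]⟩ (.node ⟨13,[],[],0,0,0,[]⟩ (.node ⟨2,[],[0,0,0,0,0,0,0,0,0,0,0,1],188,2,11,[2,0,0,0]⟩ (.node ⟨5,[],[0,0,0,0,0,0,0,0,0,0,0,1],191,2,11,[5,0,0,0]⟩ (.node ⟨88,[],[],0,0,0,[]⟩ (.node ⟨151,[],[],0,0,0,[]⟩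 (.node ⟨235,[],[],0,0,0,[]⟩ (.node ⟨219,[1,2,1,0,2,0],[-1422,-5152,567,903,-420,5744,-3427,318,2069,-2774,-442,-3818,2528,496,131,-1521,-92,258],1042,2,3,[21,0,0,0]⟩ .nil .nil) .nil) (.node ⟨239,[2,0,0,2,1,2,0,1,0],[6,6,1,0,3,-11,3,-1,-11,-6,3,6,-19,-2,4,4,-1,-3],612,2,7,[24,0,0,0]⟩ .nil .nil)) (.node ⟨197,[],[],0,0,0,[]⟩ (.node ⟨73,[],[0,0,0,0,0,0,0,0,0,0,0,1],233,2,11,[73,0,0,0]⟩ (.node ⟨200,[],[0,0,0,0,0,0,0,0,0,0,0,1],267,2,11,[200,0,0,0]⟩ .nil .nil) .nil) (.node ⟨118,[],[0,0,0,0,0,0,0,0,0,0,0,1],251,2,11,[118,0,0,0]⟩ .nil .nil))) (.node ⟨123,[],[],0,0,0,[]⟩ (.node ⟨174,[],[],0,0,0,[]⟩ (.node ⟨59,[],[0,0,0,0,0,0,0,0,0,0,0,1],226,2,11,[59,0,0,0]⟩ (.node ⟨173,[],[0,0,0,0,0,0,0,0,0,0,0,1],262,2,11,[173,0,0,0]⟩ .nil .nil) .nil) (.node ⟨247,[2,0,1,0,0,2,0,0,1],[447,446,-55,-121,335,-519,58,77,-449,498,-68,383,-491,-120,4,169,16,-109],1025,2,6,[209,0,0,0]⟩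 .nil .nil)) (.node ⟨76,[0,2,1,2,0,0,1,0,2,1,0],[-57,1618,-223,-226,-134,-1803,1405,-223,-273,687,193,1034,-285,-27,-102,409,12,82,1],1085,2,5,[234,0,0,0]⟩ (.node ⟨133,[1,0,0,2,0,2,1,2,0],[44,246,-35,-10,28,-284,223,-51,-93,167,-7,94,-97,5,-27,63,4,-31,1],1083,2,2,[221,0,0,0]⟩ (.node ⟨276,[2,1,2,0,1,2,0,0,1],[-38,1529,-219,-305,-195,-1719,1288,-124,-140,553,277,1107,-232,-128,-58,466,6,141,-1],1171,2,5,[304,0,0,0]⟩ .nil .nil) .nil) (.node ⟨248,[0,1,2,0,0,2,1,2,1],[12,-72,13,21,40,63,-64,8,11,52,-43,-62,116,1,-41,2,1,40,1],1094,2,10,[138,0,0,0]⟩ .nil .nil)))) (.node ⟨66,[],[],0,0,0,[]⟩ (.node ⟨103,[],[],0,0,0,[]⟩ (.node ⟨27,[],[0,0,0,0,0,0,0,0,0,0,0,1],206,2,11,[27,0,0,0]⟩ (.node ⟨245,[],[],0,0,0,[]⟩ (.node ⟨302,[0,0,2,1,2,0,0,1,0,0],[-363,-1060,138,189,-94,1260,-720,31,440,-646,-113,-806,466,139,53,-460,-6,6,-1],1185,2,7,[289,0,0,0]⟩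 .nil .nil) .nil) (.node ⟨288,[],[],0,0,0,[]⟩ .nil .nil)) (.node ⟨203,[],[],0,0,0,[]⟩ (.node ⟨269,[],[],0,0,0,[]⟩ (.node ⟨305,[0,1,2,1,0,1,2,1,0,0],[-755,-2174,311,440,-404,2575,-1502,62,1002,-1172,-222,-1301,1317,403,-22,-892,-22,295,1],1223,2,7,[195,0,0,0]⟩ .nil .nil) .nil) (.node ⟨126,[],[0,0,0,0,0,0,0,0,0,0,0,1],252,2,11,[126,0,0,0]⟩ .nil .nil))) (.node ⟨138,[],[],0,0,0,[]⟩ (.node ⟨32,[],[0,0,0,0,0,0,0,0,0,0,0,1],209,2,11,[32,0,0,0]⟩ (.node ⟨102,[1,2,1,0,0,2],[88,68,-8,-17,96,-57,-6,-2,-66,124,-39,36,-73,-13,-16,-3,4,-33],807,2,2,[261,0,0,0]⟩ (.node ⟨311,[0,0,1,2,1,2,0,2],[111,182,-24,-45,-18,-177,77,34,-27,204,15,181,-9,-46,-43,99,-6,52],965,2,5,[85,0,0,0]⟩ .nil .nil) .nil) (.node ⟨129,[2,1,2,1,0,0,2,1,0,0],[52,100,-22,-21,54,-116,46,4,-15,158,-23,84,9,-40,-19,53,1,-19],957,2,11,[129,0,0,0]⟩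 .nil .nil)) (.node ⟨214,[1,0,2,0,2,0,2,1,2,0,0,1,0],[-1418,-4893,525,902,-394,5494,-3163,194,2139,-2530,-502,-3644,2526,534,83,-1506,-96,243,1],1237,2,4,[290,0,0,0]⟩ (.node ⟨282,[],[],0,0,0,[]⟩ (.node ⟨294,[2,0,0,2,0,1,2,0],[1599,8418,-926,-1439,477,-9345,5801,-579,-3178,4312,725,6076,-3698,-699,-144,2255,152,-423],1276,2,2,[278,0,0,0]⟩ .nil .nil) .nil) (.node ⟨240,[1,2,1,2,0,2,1,0,0],[73,-1813,269,267,226,1923,-1524,239,91,-953,-155,-1360,271,22,86,-371,-7,-55,-1],1109,2,10,[131,0,0,0]⟩ .nil .nil))))) (.node ⟨37,[],[],0,0,0,[]⟩ (.node ⟨57,[],[],0,0,0,[]⟩ (.node ⟨97,[],[],0,0,0,[]⟩ (.node ⟨25,[],[0,0,0,0,0,0,0,0,0,0,0,1],204,2,11,[25,0,0,0]⟩ (.node ⟨53,[],[0,0,0,0,0,0,0,0,0,0,0,1],222,2,11,[53,0,0,0]⟩ (.node ⟨279,[1,2,0,0,2,0,2,0,0,1,0,0],[-171,1186,-245,-212,1,-1331,1171,-183,0,494,128,483,-109,-126,-47,375,-9,-19,1],1210,2,3,[260,0,0,0]⟩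 .nil .nil) .nil) (.node ⟨274,[0,1,2,1,0,1,2,1,0],[-1,-30,4,-5,31,20,-23,9,-13,-41,7,-65,1,-9,-2,-5,-1,6],857,2,11,[196,0,0,0]⟩ .nil .nil)) (.node ⟨39,[],[0,0,0,0,0,0,0,0,0,0,0,1],212,2,11,[39,0,0,0]⟩ (.node ⟨268,[],[],0,0,0,[]⟩ (.node ⟨283,[1,0,0,2,0,2,1,2,1,0],[-278,-3284,439,552,36,3638,-2547,331,677,-1638,-321,-2361,888,205,146,-877,-28,-59,1],1228,2,6,[99,0,0,0]⟩ .nil .nil) .nil) (.node ⟨178,[1,2,1,2,0,0,1,0,2,0,1],[7,4107,-673,-680,-412,-4448,3503,-420,-350,2080,447,2731,-819,-192,-180,1145,-30,170,1],1207,2,4,[84,0,0,0]⟩ .nil .nil))) (.node ⟨131,[],[],0,0,0,[]⟩ (.node ⟨179,[],[],0,0,0,[]⟩ (.node ⟨61,[],[0,0,0,0,0,0,0,0,0,0,0,1],227,2,11,[61,0,0,0]⟩ (.node ⟨304,[0,0,2,1,0,0,2,1,2,0,0,1,0,0],[-40,-1130,138,185,96,1162,-783,70,140,-786,-51,-971,73,-35,134,-137,-16,-138,1],1242,2,2,[186,0,0,0]⟩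 .nil .nil) .nil) (.node ⟨220,[1,0,2,0,2,0,2,1,2,0,0,1,0],[85,-87,41,-18,97,99,-229,96,-235,-94,11,-50,-235,-54,82,-26,4,-96,-1],1162,2,2,[177,0,0,0]⟩ .nil .nil)) (.node ⟨116,[0,2,1,2,0,0,1,0,2,1],[95,912,-126,-146,104,-1040,700,-85,-435,332,108,463,-559,-98,57,310,-6,-142,-1],1157,2,5,[145,0,0,0]⟩ (.node ⟨221,[2,1,2,0,0,1,0,2,1,0,0],[-1212,-7026,778,1100,-276,7729,-5035,679,2387,-3568,-558,-5036,3024,449,148,-1785,-96,329,-1],1163,2,3,[241,0,0,0]⟩ (.node ⟨257,[],[0,0,0,0,0,0,0,0,0,0,0,1],273,2,11,[257,0,0,0]⟩ .nil .nil) .nil) (.node ⟨244,[2,0,0,2,1,2,0,2,0,1,0,0],[317,883,-169,-208,248,-1133,699,-5,-522,252,178,264,-791,-276,109,511,-5,-254,-1],1146,2,6,[268,0,0,0]⟩ .nil .nil)))) (.node ⟨9,[],[0,0,0,0,0,0,0,0,0,0,0,1],194,2,11,[9,0,0,0]⟩ (.node ⟨115,[],[],0,0,0,[]⟩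 (.node ⟨112,[2,1,2,0,0,1,0,2,1],[132,2257,-290,-352,-102,-2497,1772,-183,-670,1020,273,1442,-737,-145,-56,653,18,-33,-1],1147,2,2,[45,0,0,0]⟩ (.node ⟨252,[],[],0,0,0,[]⟩ (.node ⟨164,[],[0,0,0,0,0,0,0,0,0,0,0,1],260,2,11,[164,0,0,0]⟩ .nil .nil) .nil) (.node ⟨195,[1,2,1,0,0,2,0,0,1],[-15,-678,85,104,66,690,-517,73,135,-341,-50,-507,191,-64,49,-62,-6,-72],963,2,6,[143,0,0,0]⟩ .nil .nil)) (.node ⟨42,[],[0,0,0,0,0,0,0,0,0,0,0,1],215,2,11,[42,0,0,0]⟩ (.node ⟨206,[0,2,0,2,0,2,1,2,0,0,1,0,0],[-567,37,-105,8,-409,-131,572,-95,446,-469,256,-412,327,-10,49,171,-48,44,1],1058,2,2,[211,0,0,0]⟩ (.node ⟨309,[2,0,2,0,1,0,0,2,0,1,0],[101,-220,2,15,146,220,-216,47,-48,-32,-54,-205,-63,-45,28,9,1,-87],992,2,3,[44,0,0,0]⟩ .nil .nil) .nil) (.node ⟨271,[1,0,1,2,0,0,1,0,2],[-82,-1425,227,253,-17,1567,-1123,90,351,-712,-161,-800,490,149,13,-413,1,95,-1],1048,2,4,[111,0,0,0]⟩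 .nil .nil))) (.node ⟨21,[],[0,0,0,0,0,0,0,0,0,0,0,1],201,2,11,[21,0,0,0]⟩ (.node ⟨35,[0,1,0],[-1,-1,0,0,1,0,0,0,0,-1,0,-1],439,2,4,[0,0,0,0]⟩ (.node ⟨71,[],[0,0,0,0,0,0,0,0,0,0,0,1],232,2,11,[71,0,0,0]⟩ (.node ⟨190,[],[0,0,0,0,0,0,0,0,0,0,0,1],265,2,11,[190,0,0,0]⟩ .nil .nil) .nil) (.node ⟨212,[1,0,2,0,2,0,2,1,2,0,0,1,0],[1456,5253,-569,-909,487,-5828,3463,-342,-2151,2877,405,3871,-2559,-492,-157,1506,104,-277,1],1082,2,2,[1,0,0,0]⟩ .nil .nil)) (.node ⟨93,[0,2,0,2,0,0,1,0,0],[-1,-1,-2,1,4,2,0,0,-3,-4,0,-10,-2,0,-1,-1],525,2,3,[50,0,0,0]⟩ (.node ⟨230,[1,2,0,0],[-115,-1226,164,188,59,1340,-961,104,314,-577,-142,-789,485,72,13,-277,-15,80,-1],1096,2,6,[188,0,0,0]⟩ .nil .nil) (.node ⟨140,[],[0,0,0,0,0,0,0,0,0,0,0,1],257,2,11,[140,0,0,0]⟩ .nil .nil))))))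 (.node ⟨19,[],[],0,0,0,[]⟩ (.node ⟨31,[],[],0,0,0,[]⟩ (.node ⟨38,[0,2,1,0,2,0,0],[4,7,-3,-2,3,-3,1,-1,5,15,-4,14,0,-1,-1,1,0,-2],576,2,11,[18,0,0,0]⟩ (.node ⟨51,[1,2,1,0,2,0,0,1],[3,7,-5,1,8,-8,7,-3,-11,-6,1,-4,-21,-1,4,2,0,-8],606,2,11,[34,0,0,0]⟩ (.node ⟨24,[],[0,0,0,0,0,0,0,0,0,0,0,1],203,2,11,[24,0,0,0]⟩ (.node ⟨231,[1,0,2,0,1,2,0,1,0,0],[-4,-675,99,100,54,740,-599,110,84,-251,-95,-424,161,-17,53,-135,-4,-49],889,2,6,[231,0,0,0]⟩ (.node ⟨258,[2,0,2,0,1,2,0,2,0,1],[1364,5280,-495,-885,352,-5703,3373,-409,-1973,2946,323,4247,-2616,-383,-87,1239,87,-281,-1],1182,2,6,[62,0,0,0]⟩ .nil .nil) .nil) (.node ⟨94,[],[0,0,0,0,0,0,0,0,0,0,0,1],244,2,11,[94,0,0,0]⟩ .nil .nil)) (.node ⟨142,[0,2,1,2,1,0,1,2,0,0],[196,852,-109,-136,18,-893,569,-57,-181,636,14,691,-227,0,-98,151,8,61],924,2,2,[38,0,0,0]⟩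 (.node ⟨74,[],[0,0,0,0,0,0,0,0,0,0,0,1],234,2,11,[74,0,0,0]⟩ (.node ⟨251,[2,1,2,0,2,1,2,0,0,1,0],[200,-3,27,-31,-16,-1,-108,77,-84,65,33,103,-124,-2,-23,-5,7,25],970,2,4,[261,0,0,0]⟩ .nil .nil) .nil) (.node ⟨301,[],[],0,0,0,[]⟩ .nil .nil))) (.node ⟨17,[],[0,0,0,0,0,0,0,0,0,0,0,1],199,2,11,[17,0,0,0]⟩ (.node ⟨167,[1,0,2,0,2,0,2,1,2,0,0,1,0,0],[196,2340,-325,-373,-72,-2594,1842,-222,-548,1155,234,1634,-728,-140,-69,677,10,8,-1],1130,2,5,[82,0,0,0]⟩ (.node ⟨95,[0,2,1,2,1,0,1,2,0,0],[-134,-169,20,34,-64,191,-68,-11,125,-164,5,-129,135,55,2,-109,0,35],832,2,11,[95,0,0,0]⟩ (.node ⟨196,[1,0,2,0,1,2,0,0,1,0],[7,31,-5,1,-29,-28,24,-6,18,39,-3,72,0,6,0,6,1],833,2,5,[274,0,0,0]⟩ .nil .nil) .nil) (.node ⟨165,[0,0,1,2],[1,1,1,0,-1,-1,0,0,-2,-2,1,2,-2,0,0,-1],496,2,10,[76,0,0,0]⟩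 .nil .nil)) (.node ⟨122,[0,1,2,1,0,1,2,0,1],[276,2433,-375,-421,216,-2581,1829,-267,-590,1339,113,1523,-816,-82,-140,546,4,35,-1],1150,2,3,[52,0,0,0]⟩ (.node ⟨228,[2,0,0,1,0,2,1,2,1,0,0],[170,3687,-471,-572,-180,-4084,2917,-330,-1039,1645,397,2456,-1281,-165,-39,967,28,-43,-1],1125,2,7,[204,0,0,0]⟩ (.node ⟨246,[],[0,0,0,0,0,0,0,0,0,0,0,1],272,2,11,[246,0,0,0]⟩ .nil .nil) .nil) (.node ⟨193,[1,0,2,1,2,1,0],[-19,360,-63,-85,-27,-410,345,-14,-81,37,107,71,-179,-34,8,72,2,-33],952,2,6,[68,0,0,0]⟩ .nil .nil)))) (.node ⟨70,[],[],0,0,0,[]⟩ (.node ⟨108,[],[],0,0,0,[]⟩ (.node ⟨162,[],[],0,0,0,[]⟩ (.node ⟨56,[],[0,0,0,0,0,0,0,0,0,0,0,1],224,2,11,[56,0,0,0]⟩ (.node ⟨238,[1,2,0,1,2,0,1,2,1],[56,127,-18,-25,36,-148,75,-12,-63,60,9,113,-114,-15,12,41,-1,-21],765,2,11,[238,0,0,0]⟩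 .nil .nil) .nil) (.node ⟨163,[1,2,0,1,2],[425,3354,-460,-569,-42,-3751,2562,-275,-806,1762,323,2461,-1087,-218,-113,983,19,29,-1],1133,2,5,[40,0,0,0]⟩ .nil .nil)) (.node ⟨157,[1,2],[-2,-2,0,2,1,0,0,1,-5,-2,0,-9,0,0,0,0,0,-1],650,2,4,[250,0,0,0]⟩ (.node ⟨254,[0,0,2,1,0,0,2,0,0,1],[38,398,-57,-66,-31,-429,308,-38,-33,261,20,336,-56,-10,-34,103,2,36],867,2,11,[170,0,0,0]⟩ (.node ⟨298,[2,0,2,0,2,0,2,0],[-1161,-4934,450,806,-84,5385,-3299,448,1850,-2327,-509,-4052,2450,187,111,-1047,-121,164,-1],1282,2,2,[227,0,0,0]⟩ .nil .nil) .nil) (.node ⟨158,[1,0,2,0,1,2,1,0],[99,-1137,187,185,123,1246,-1029,150,85,-440,-155,-690,175,36,51,-286,-2,-59],881,2,5,[235,0,0,0]⟩ .nil .nil))) (.node ⟨141,[],[],0,0,0,[]⟩ (.node ⟨191,[],[],0,0,0,[]⟩ (.node ⟨69,[],[0,0,0,0,0,0,0,0,0,0,0,1],231,2,11,[69,0,0,0]⟩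 (.node ⟨184,[],[0,0,0,0,0,0,0,0,0,0,0,1],264,2,11,[184,0,0,0]⟩ .nil .nil) .nil) (.node ⟨223,[2,0,2,0,0,2,0,1,0],[-674,3354,-716,-572,-559,-3846,3576,-489,-13,531,848,1276,-528,-385,-5,1415,-100,146,-2],1263,2,2,[70,0,0,0]⟩ .nil .nil)) (.node ⟨114,[0,2,0,1,2,0,2,0,1,0],[113,-1385,193,186,96,1517,-1180,180,333,-532,-152,-831,385,32,6,-354,3,4,1],1080,2,10,[44,0,0,0]⟩ (.node ⟨249,[2,1,0,2,0,0,1],[-10,98,-16,-14,-13,-103,87,-21,1,38,7,88,-20,-1,2,25,0,1],625,2,5,[186,0,0,0]⟩ (.node ⟨314,[2,1,2,0,0,1,0,2,1,0],[-110,-2693,436,475,165,3071,-2332,263,517,-939,-468,-1618,914,262,7,-936,10,21,1],1219,2,3,[123,0,0,0]⟩ .nil .nil) .nil) (.node ⟨139,[],[0,0,0,0,0,0,0,0,0,0,0,1],256,2,11,[139,0,0,0]⟩ .nil .nil))))) (.node ⟨43,[],[],0,0,0,[]⟩ (.node ⟨7,[],[0,0,0,0,0,0,0,0,0,0,0,1],193,2,11,[7,0,0,0]⟩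 (.node ⟨18,[1,2,1,0,2,0,0,1,0,0],[6,8,1,0,1,-10,4,-2,-6,3,0,11,-11,-1,1,1,0,-2],555,2,3,[38,0,0,0]⟩ (.node ⟨26,[],[0,0,0,0,0,0,0,0,0,0,0,1],205,2,11,[26,0,0,0]⟩ (.node ⟨67,[0,1,0,2,1,2,1,0],[48,-522,81,104,32,608,-470,63,16,-192,-73,-355,13,68,20,-185,-6,-43],948,2,2,[239,0,0,0]⟩ (.node ⟨153,[],[0,0,0,0,0,0,0,0,0,0,0,1],258,2,11,[153,0,0,0]⟩ .nil .nil) .nil) (.node ⟨287,[],[],0,0,0,[]⟩ .nil .nil)) (.node ⟨152,[2,0,1,2,1],[-8,-122,24,13,51,128,-116,26,-54,-105,2,-164,-16,-6,10,-34,-2,-15],809,2,7,[103,0,0,0]⟩ (.node ⟨77,[],[0,0,0,0,0,0,0,0,0,0,0,1],235,2,11,[77,0,0,0]⟩ (.node ⟨312,[2,1,0,0,2,0,2,0,1],[1269,5074,-446,-806,124,-5491,3147,-261,-2139,2875,369,4211,-2290,-279,-176,1265,98,-36],1275,2,7,[120,0,0,0]⟩ .nil .nil) .nil) (.node ⟨188,[0,2,1],[-7,1351,-204,-227,-78,-1541,1181,-115,-328,525,199,703,-410,-138,-5,495,-9,-23,-1],1120,2,10,[190,0,0,0]⟩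 .nil .nil))) (.node ⟨135,[],[],0,0,0,[]⟩ (.node ⟨182,[],[],0,0,0,[]⟩ (.node ⟨63,[],[0,0,0,0,0,0,0,0,0,0,0,1],229,2,11,[63,0,0,0]⟩ (.node ⟨307,[2,1,2,0,2,1,2,0,0,1,0,0],[125,-507,-43,-22,283,410,-255,90,68,-450,65,-826,-156,-194,86,84,-4,-218,-1],1131,2,7,[291,0,0,0]⟩ .nil .nil) .nil) (.node ⟨120,[1,0,2,0,2,0,2,1,2,0,0,1,0],[385,-739,116,128,221,805,-742,62,91,14,-229,-270,-60,12,17,-152,-6,-103,1],1248,2,10,[198,0,0,0]⟩ .nil .nil)) (.node ⟨224,[],[],0,0,0,[]⟩ (.node ⟨86,[],[0,0,0,0,0,0,0,0,0,0,0,1],240,2,11,[86,0,0,0]⟩ (.node ⟨273,[0,0,1,2,0,1,0],[183,184,-9,-36,126,-150,5,3,-97,331,-83,198,-95,-3,-54,-17,8,-13],903,2,11,[273,0,0,0]⟩ .nil .nil) .nil) (.node ⟨306,[],[],0,0,0,[]⟩ .nil .nil)))) (.node ⟨81,[],[],0,0,0,[]⟩ (.node ⟨119,[],[],0,0,0,[]⟩ (.node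 ⟨29,[],[0,0,0,0,0,0,0,0,0,0,0,1],207,2,11,[29,0,0,0]⟩ (.node ⟨98,[2,0,1,0,2,1,2,0,1,0,0],[-40,655,-80,-89,-100,-710,580,-115,-26,278,84,479,-58,28,-67,101,8,66],917,2,5,[73,0,0,0]⟩ (.node ⟨297,[2,1,0,2,0,1],[-2,1142,-189,-200,-39,-1240,951,-91,-260,453,166,590,-421,-85,3,298,-4,-65],909,2,7,[92,0,0,0]⟩ .nil .nil) .nil) (.node ⟨172,[1,0,2,0,2,0,2,1,2,1,0],[156,-1296,112,110,263,1478,-1084,167,448,-385,-177,-998,450,-26,-66,-253,-32,68,-1],1101,2,4,[173,0,0,0]⟩ .nil .nil)) (.node ⟨215,[],[],0,0,0,[]⟩ (.node ⟨80,[],[0,0,0,0,0,0,0,0,0,0,0,1],237,2,11,[80,0,0,0]⟩ (.node ⟨264,[0,1,0,2,1,2,0],[301,194,-47,-53,293,-223,-8,35,-257,374,-95,74,-188,-42,-72,87,10,-30,-1],1190,2,7,[36,0,0,0]⟩ .nil .nil) .nil) (.node ⟨266,[0,0,2,1,2,0,2,0,0,1],[-14,-51,11,10,-12,59,-42,13,8,-11,-5,-44,47,6,-10,-22,3,6],737,2,3,[238,0,0,0]⟩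 .nil .nil))) (.node ⟨149,[],[],0,0,0,[]⟩ (.node ⟨194,[],[],0,0,0,[]⟩ (.node ⟨234,[2,1,0,1,2,1,0],[-97,1143,-186,-187,-119,-1255,1029,-149,-101,428,162,693,-191,-34,-50,282,2,59],908,2,11,[158,0,0,0]⟩ (.node ⟨207,[2,0,2,1,2,0,1],[116,2807,-376,-459,-103,-3131,2288,-312,-598,1199,340,1871,-791,-134,-106,729,24,51,-1],1153,2,3,[33,0,0,0]⟩ .nil .nil) .nil) (.node ⟨161,[0,0,1,2,1,2,0,2,0,1],[-1421,-5220,522,907,-464,5725,-3367,378,2038,-2896,-339,-4073,2667,472,60,-1376,-89,354,1],1086,2,10,[295,0,0,0]⟩ .nil .nil)) (.node ⟨232,[],[],0,0,0,[]⟩ (.node ⟨284,[],[],0,0,0,[]⟩ .nil .nil) (.node ⟨170,[1,0,2,0,1,2,0],[-38,-398,57,66,31,429,-308,38,32,-262,-20,-335,53,10,34,-104,-2,-37],847,2,5,[254,0,0,0]⟩ .nil .nil))))))))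

/-- Level 0. -/
def lv0 : Lv :=
  ⟨315, [0,1,2,3], words0, [ents0_0,ents0_1,ents0_2,ents0_3]⟩

/-- Transversal of level 1. -/
def words1 : Arr (List ℕ) :=
  (.node [] (.node [2] (.node [1,2] (.node [0,1,2] (.node [0,0,1,2] (.node [2,1,0,1,2] (.node [2,0,0,2,1,2] (.node [0,0,2,1,2,1,0,2] .nil .nil) .nil) (.node [0,1,2,1,0,1,2] (.node [0,0,2,0,1,2,1,0,1,2] .nil .nil) .nil)) (.node [2,1,2,1,0,2] (.node [2,1,0,2,0,0,2] (.node [2,0,0,1,0,2,1,2] .nil .nil) .nil) (.node [2,0,2,0,2,1,2] .nil .nil))) (.node [0,0,1,0,2] (.node [0,2,1,0,0,2] (.node [0,2,0,1,0,0,2] (.node [0,2,1,2,1,0,1,2] .nil .nil) .nil) (.node [1,2,1,2,0,1,2] .nil .nil)) (.node [1,2,1,2,0,2] (.node [2,1,0,0,2,0,2] (.node [0,2,1,2,0,0,1,0,2] .nil .nil) .nil) (.node [1,2,1,0,2,0,0,2] .nil .nil))))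 (.node [0,1,0,2] (.node [1,2,1,2] (.node [1,0,2,1,2] (.node [1,2,0,2,1,2] (.node [2,0,0,2,1,2,0,2] .nil .nil) .nil) (.node [2,1,0,2,0,1,2] .nil .nil)) (.node [1,2,0,2,0,2] (.node [0,1,2,0,1,0,2] (.node [1,2,0,2,0,1,0,0,2] .nil .nil) .nil) (.node [2,1,0,1,2,1,2] .nil .nil))) (.node [0,0,2,0,2] (.node [2,0,2,0,0,2] (.node [0,1,2,1,0,0,2] (.node [2,0,2,1,2,0,1,2] .nil .nil) .nil) (.node [0,0,1,0,2,1,2] .nil .nil)) (.node [2,0,2,0,1,2] (.node [2,1,2,0,2,0,2] (.node [2,0,2,1,2,1,0,1,2] .nil .nil) .nil) (.node [2,1,2,0,0,1,0,2] .nil .nil))))) (.node [1,0,2] (.node [1,0,0,2] (.node [2,0,1,2] (.node [1,2,0,1,2] (.node [2,1,0,2,1,2] (.node [2,0,2,0,1,2,0,2] .nil .nil) .nil) (.node [1,0,0,2,0,1,2] .nil .nil)) (.node [2,0,0,2,0,2] (.node [0,2,0,0,1,0,2] (.node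 [2,0,0,2,0,2,1,2] .nil .nil) .nil) (.node [2,1,2,0,2,1,2] .nil .nil))) (.node [0,2,1,0,2] (.node [0,0,2,0,0,2] (.node [1,0,2,1,0,0,2] (.node [0,2,0,1,2,0,1,2] .nil .nil) .nil) (.node [2,1,0,0,2,1,2] .nil .nil)) (.node [0,0,2,0,1,2] (.node [1,0,2,0,2,0,2] (.node [1,0,0,2,1,2,1,0,2] .nil .nil) .nil) (.node [1,0,2,0,0,1,0,2] .nil .nil)))) (.node [0,2,0,2] (.node [2,1,0,0,2] (.node [0,1,2,1,2] (.node [1,0,1,2,1,2] (.node [1,0,1,2,1,2,0,2] .nil .nil) .nil) (.node [2,0,1,2,0,1,2] .nil .nil)) (.node [2,0,1,2,0,2] (.node [2,1,0,2,1,0,2] (.node [1,0,1,2,0,0,1,0,2] .nil .nil) .nil) (.node [2,0,2,0,1,0,0,2] .nil .nil))) (.node [0,1,2,0,2] (.node [1,2,0,1,0,2] (.node [1,0,0,2,0,0,2] (.node [0,2,1,0,0,2,1,2] .nil .nil) .nil) (.node [1,2,1,0,2,1,2] .nil .nil)) (.node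 [2,1,2,0,1,2] (.node [0,0,2,1,2,0,2] (.node [1,0,1,2,0,0,2,1,2] .nil .nil) .nil) (.node [1,2,1,2,0,1,0,2] .nil .nil)))))) (.node [0,2] (.node [0,0,2] (.node [2,1,2] (.node [1,0,1,2] (.node [0,2,0,1,2] (.node [0,1,0,2,1,2] (.node [0,1,0,2,0,2,0,2] .nil .nil) .nil) (.node [2,1,2,1,0,1,2] .nil .nil)) (.node [1,0,0,2,0,2] (.node [1,2,0,2,0,0,2] (.node [1,0,0,2,0,2,1,2] .nil .nil) .nil) (.node [0,1,2,0,2,1,2] .nil .nil))) (.node [2,0,1,0,2] (.node [1,2,1,0,0,2] (.node [0,0,2,1,0,0,2] (.node [1,2,1,2,1,0,1,2] .nil .nil) .nil) (.node [0,1,0,0,2,1,2] .nil .nil)) (.node [1,2,1,0,1,2] (.node [1,2,0,0,2,0,2] (.node [1,2,1,2,0,0,1,0,2] .nil .nil) .nil) (.node [0,0,2,0,0,1,0,2] .nil .nil)))) (.node [2,1,0,2] (.node [0,1,0,0,2] (.node [2,0,2,1,2] (.node [0,0,1,2,1,2]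 (.node [0,0,1,2,1,2,0,2] .nil .nil) .nil) (.node [0,2,0,2,0,1,2] .nil .nil)) (.node [1,0,1,2,0,2] (.node [2,1,2,0,1,0,2] (.node [1,0,0,2,0,0,1,0,2] .nil .nil) .nil) (.node [0,2,0,1,2,1,2] .nil .nil))) (.node [2,0,2,0,2] (.node [2,0,0,1,0,2] (.node [2,1,2,1,0,0,2] (.node [2,0,1,0,0,2,1,2] .nil .nil) .nil) (.node [2,0,1,0,2,1,2] .nil .nil)) (.node [0,1,2,0,1,2] (.node [0,2,0,1,2,0,2] (.node [0,0,2,1,0,0,2,1,2] .nil .nil) .nil) (.node [2,0,1,2,0,1,0,2] .nil .nil))))) (.node [2,0,2] (.node [2,0,0,2] (.node [0,2,1,2] (.node [0,0,2,1,2] (.node [0,2,0,2,1,2] (.node [1,0,0,2,1,2,0,2] .nil .nil) .nil) (.node [2,0,0,2,0,1,2] .nil .nil)) (.node [0,2,0,2,0,2] (.node [1,2,0,0,1,0,2] (.node [0,2,0,2,0,2,1,2] .nil .nil) .nil) (.node [2,0,0,1,2,1,2] .nil .nil))) (.node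 [1,2,1,0,2] (.node [1,0,2,0,0,2] (.node [2,0,2,1,0,0,2] (.node [1,2,0,1,2,0,1,2] .nil .nil) .nil) (.node [1,2,0,0,2,1,2] .nil .nil)) (.node [1,0,2,0,1,2] (.node [2,0,2,0,2,0,2] (.node [0,2,0,1,2,1,0,1,2] .nil .nil) .nil) (.node [0,1,2,0,0,1,0,2] .nil .nil)))) (.node [1,2,0,2] (.node [0,2,0,0,2] (.node [2,0,1,0,0,2] (.node [2,0,1,2,1,2] (.node [2,0,1,2,1,0,1,2] .nil .nil) .nil) (.node [0,2,1,2,0,1,2] .nil .nil)) (.node [0,2,1,2,0,2] (.node [0,2,1,2,1,0,2] (.node [2,0,1,2,0,0,1,0,2] .nil .nil) .nil) (.node [1,0,0,2,1,0,0,2] .nil .nil))) (.node [2,1,2,0,2] (.node [1,0,2,1,0,2] (.node [2,0,0,2,0,0,2] (.node [0,1,2,0,0,2,1,2] .nil .nil) .nil) (.node [0,0,2,0,2,1,2] .nil .nil)) (.node [1,0,0,2,1,2] (.node [0,1,2,1,2,0,2] (.node [1,0,2,0,2,0,2,1,2] .nil .nil)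 .nil) (.node [0,2,1,0,2,1,0,2] .nil .nil)))))))

/-- Table of generator 0 at level 1. -/
def ents1_0 : Arr Ent :=
  (.node ⟨0,[0],[],0,0,0,[]⟩ (.node ⟨2,[],[],0,0,0,[]⟩ (.node ⟨7,[],[],0,0,0,[]⟩ (.node ⟨15,[],[],0,0,0,[]⟩ (.node ⟨3,[],[0,0,0,0,0,0,0,0,0,0,0,0,1],276,2,12,[3,0,0]⟩ (.node ⟨40,[1,0],[-2,-7,-1,2,-4,9,0,-1,16,11,-7,-2,15,-2,-1,2,0,-1],617,2,2,[23,16,1,2]⟩ (.node ⟨101,[1,0,0],[8,24,-2,-3,5,-27,11,-2,-19,6,3,24,-25,-4,5,8,0,-6],663,2,14,[101,0,0]⟩ (.node ⟨47,[],[0,0,0,0,0,0,0,0,0,0,0,0,1],287,2,12,[47,0,0]⟩ .nil .nil) .nil) (.node ⟨73,[1,0],[-6,-2,1,4,-2,8,-1,-3,-5,1,-4,-6,-3,3,2,-3,0,-7],639,2,2,[225,16,2,1]⟩ (.node ⟨134,[],[0,0,0,0,0,0,0,0,0,0,0,0,1],290,2,12,[134,0,0]⟩ .nil .nil) .nil)) (.node ⟨86,[],[],0,0,0,[]⟩ (.node ⟨79,[0,0,1],[-2,0,0,0,0,0,0,0,-1,-1,0,0,-2,-1,2,0,0,-3],480,2,14,[4,0,0]⟩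 (.node ⟨123,[0,1,0,0],[21,-96,6,9,19,101,-65,5,40,-54,-9,-81,4,-5,4,-6,-6,9],755,2,7,[37,124,3,0]⟩ .nil .nil) .nil) (.node ⟨146,[],[],0,0,0,[]⟩ .nil .nil))) (.node ⟨5,[],[0,0,0,0,0,0,0,0,0,0,0,0,1],277,2,12,[5,0,0]⟩ (.node ⟨72,[],[],0,0,0,[]⟩ (.node ⟨80,[1,0,0],[3,80,-10,-15,-13,-90,72,-11,1,30,15,58,-11,1,-9,14,1,11],769,2,1,[286,21,1,1]⟩ (.node ⟨136,[0,0],[-22,-87,15,16,-12,101,-56,-5,44,-58,-6,-51,51,12,-3,-30,0,12],722,2,13,[135,0,0]⟩ .nil .nil) .nil) (.node ⟨103,[0,1,0],[-21,-13,4,6,-8,4,-2,1,-3,-18,3,-12,12,2,5,3,-2,3],725,2,2,[91,91,2,0]⟩ .nil .nil)) (.node ⟨94,[],[],0,0,0,[]⟩ (.node ⟨87,[1,0,0],[23,25,-7,-15,25,-36,15,7,-28,1,10,-10,-40,-12,2,17,0,-7],749,2,3,[50,10,3,0]⟩ (.node ⟨143,[0,1,0,0],[-22,96,-6,-9,-19,-101,65,-5,-41,54,9,81,-4,5,-4,6,6,-9],785,2,12,[123,0,0]⟩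 .nil .nil) .nil) (.node ⟨99,[],[0,-8,1,2,1,7,-5,0,-1,-5,-1,-6,4,2,-1,0,0,3],560,2,12,[99,0,0]⟩ .nil .nil)))) (.node ⟨23,[],[],0,0,0,[]⟩ (.node ⟨37,[],[],0,0,0,[]⟩ (.node ⟨64,[],[],0,0,0,[]⟩ (.node ⟨112,[],[],0,0,0,[]⟩ (.node ⟨131,[1,0],[14,12,-3,-2,14,-12,3,-4,-1,20,-7,16,-18,-4,3,5,-2,-7],676,2,1,[35,131,2,2]⟩ .nil .nil) .nil) (.node ⟨114,[],[0,0,0,0,0,0,0,0,0,0,0,0,-2,0,1,-1,0,-2],425,2,14,[7,0,0]⟩ .nil .nil)) (.node ⟨67,[0],[-4,4,4,-1,4,-9,-2,2,-22,-17,9,-5,-17,1,4,-5,0,-5],707,2,2,[64,37,0,1]⟩ (.node ⟨58,[1,0],[-2,-3,3,1,0,0,-2,1,-11,-14,5,-10,-5,0,1],592,2,1,[223,45,1,1]⟩ (.node ⟨157,[0,0],[-50,-8,5,9,-37,15,12,-8,34,-4,-4,8,55,18,-3,-25,2,9],726,2,11,[192,147,0,2]⟩ .nil .nil) .nil) (.node ⟨121,[0,0,1,0,0],[2,3,-3,-1,0,0,2,-1,10,15,-5,10,3,-2,0,5,-1],618,2,14,[19,0,0]⟩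 .nil .nil))) (.node ⟨6,[],[0,0,0,0,0,0,0,0,0,0,0,0,1],278,2,12,[6,0,0]⟩ (.node ⟨43,[0,0],[-6,77,-8,-16,-11,-95,74,-9,-18,7,23,42,-26,-8,2,30,0,-1],786,2,0,[19,100,0,1]⟩ (.node ⟨31,[0,0,1],[3,7,1,-2,4,-9,0,1,-17,-10,7,2,-16,2,1,-2],634,2,9,[113,31,2,0]⟩ (.node ⟨111,[0,1],[-39,-155,12,37,-20,185,-94,4,67,-63,-21,-137,66,25,0,-55,-4,-5],790,2,0,[139,78,0,2]⟩ .nil .nil) .nil) (.node ⟨35,[],[0,0,0,0,0,0,0,0,0,0,0,0,1],284,2,12,[35,0,0]⟩ .nil .nil)) (.node ⟨100,[],[],0,0,0,[]⟩ (.node ⟨117,[0,1,0],[45,41,-8,-16,31,-46,7,4,-37,15,9,36,-65,-17,6,24,-1,-10],706,2,0,[119,91,2,0]⟩ (.node ⟨147,[0,1,0,0],[20,82,2,-8,2,-83,41,-5,-51,66,-6,72,-30,-14,-1,30,3,-13],738,2,11,[253,115,0,2]⟩ .nil .nil) .nil) (.node ⟨151,[],[],0,0,0,[]⟩ .nil .nil))))) (.node ⟨11,[],[],0,0,0,[]⟩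 (.node ⟨20,[],[],0,0,0,[]⟩ (.node ⟨32,[],[],0,0,0,[]⟩ (.node ⟨60,[],[],0,0,0,[]⟩ (.node ⟨85,[0,0,1],[-3,13,-2,-2,-2,-16,14,-3,-1,3,2,9,-4,0,1,4,0,-1],551,2,14,[3,0,0]⟩ (.node ⟨129,[1,0],[-27,-18,1,8,-5,16,0,-1,-8,-32,5,-42,14,0,3,2,0,-4],740,2,6,[51,97,0,0]⟩ .nil .nil) .nil) (.node ⟨53,[0,0],[4,76,-12,-14,-12,-83,69,-12,8,38,9,62,2,1,-12,20,1,17],699,2,13,[53,0,0]⟩ .nil .nil)) (.node ⟨49,[0,0],[-32,-198,22,31,0,222,-143,21,62,-93,-20,-164,74,11,5,-55,-4,1],721,2,14,[49,0,0]⟩ (.node ⟨120,[],[],0,0,0,[]⟩ (.node ⟨133,[1],[-48,-430,43,73,17,498,-325,39,121,-182,-59,-345,123,30,17,-134,-7,-22],772,2,0,[24,133,3,1]⟩ .nil .nil) .nil) (.node ⟨74,[0,1],[0,89,-26,-25,-26,-106,103,-4,47,59,14,55,26,-27,-8,60,-1,12],770,2,5,[55,136,1,0]⟩ .nil .nil))) (.node ⟨26,[0,0,1,0,0],[-1,13,-2,-2,-2,-13,11,-3,-1,2,2,12,-6,0,1,2],538,2,3,[8,0,0,0]⟩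 (.node ⟨10,[],[0,0,0,0,0,0,0,0,0,0,0,0,1],279,2,12,[10,0,0]⟩ (.node ⟨56,[0,0,1],[2,7,1,-2,4,-9,0,1,-17,-11,7,2,-16,3,1,-4,0,1],635,2,13,[39,0,0]⟩ (.node ⟨63,[0,1],[-13,-24,2,3,-5,27,-11,2,19,-7,-3,-24,30,4,-5,-9,0,7],682,2,0,[130,56,0,0]⟩ .nil .nil) .nil) (.node ⟨141,[],[],0,0,0,[]⟩ .nil .nil)) (.node ⟨17,[],[0,0,0,0,0,0,0,0,0,0,0,0,1],280,2,12,[17,0,0]⟩ (.node ⟨128,[],[],0,0,0,[]⟩ (.node ⟨153,[1,0,0],[1,2,1,0,-7,-1,-1,1,-2,-3,3,11,-5,1,2,0,0,1],609,2,13,[47,0,0]⟩ .nil .nil) .nil) (.node ⟨84,[0,0,1,0],[-19,-81,7,13,-1,92,-57,5,29,-46,-6,-60,38,9,0,-25,-1,6],633,2,8,[20,114,1,1]⟩ .nil .nil)))) (.node ⟨27,[],[],0,0,0,[]⟩ (.node ⟨39,[],[],0,0,0,[]⟩ (.node ⟨68,[],[],0,0,0,[]⟩ (.node ⟨62,[],[-1,0,0,0,0,0,0,0,0,0,0,0,0,1,0,-1],415,2,13,[8,0,0]⟩ (.node ⟨130,[],[0,0,0,0,0,0,0,0,0,0,0,0,-1,1,0,-1],416,2,13,[30,0,0]⟩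 .nil .nil) .nil) (.node ⟨137,[],[],0,0,0,[]⟩ .nil .nil)) (.node ⟨92,[],[],0,0,0,[]⟩ (.node ⟨126,[],[],0,0,0,[]⟩ (.node ⟨148,[],[0,0,0,0,0,0,0,0,0,0,0,0,-1,1,0,-1],417,2,13,[44,0,0]⟩ .nil .nil) .nil) (.node ⟨138,[1,0],[-3,-3,3,1,0,0,-2,1,-11,-16,5,-10,-8,2,2,-5],591,2,14,[24,0,0]⟩ .nil .nil))) (.node ⟨42,[0,0,1],[-2,0,0,0,0,0,0,0,-1,-1,0,0,0,-1,1,1,0,-1],479,2,12,[14,0,0]⟩ (.node ⟨83,[],[],0,0,0,[]⟩ (.node ⟨52,[1,0],[1,0,0,0,0,0,0,0,0,1,0,0,0,2,-1,-3,0,1],493,2,13,[41,0,0]⟩ (.node ⟨156,[],[],0,0,0,[]⟩ .nil .nil) .nil) (.node ⟨109,[1,0],[-1,-43,7,10,4,56,-43,6,1,-7,-12,-31,9,7,0,-22,0,-3],594,2,2,[0,109,3,1]⟩ .nil .nil)) (.node ⟨102,[],[],0,0,0,[]⟩ (.node ⟨30,[],[0,0,0,0,0,0,0,0,0,0,0,0,1],283,2,12,[30,0,0]⟩ (.node ⟨155,[0,1],[29,-74,-7,-1,35,68,-53,13,16,-62,10,-80,-25,-4,4,-5,-5,4],766,2,12,[147,0,0]⟩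 .nil .nil) .nil) (.node ⟨82,[0,0,1,0],[15,-13,5,-3,7,18,-29,13,3,27,-7,1,20,-6,-9,0,-1,10],620,2,5,[47,0,0,0]⟩ .nil .nil)))))) (.node ⟨4,[],[],0,0,0,[]⟩ (.node ⟨1,[],[0,0,0,0,0,0,0,0,0,0,0,0,1],275,2,12,[1,0,0]⟩ (.node ⟨18,[],[],0,0,0,[]⟩ (.node ⟨9,[],[0,0,0,0,0,0,0,0,0,0,0,0,-1,1,0,-1],411,2,13,[1,0,0]⟩ (.node ⟨57,[],[],0,0,0,[]⟩ (.node ⟨107,[],[],0,0,0,[]⟩ (.node ⟨144,[0],[61,37,-10,-26,48,-51,7,13,-41,8,14,4,-74,-21,1,18,2,-11],800,2,4,[66,110,3,1]⟩ .nil .nil) .nil) (.node ⟨135,[],[],0,0,0,[]⟩ .nil .nil)) (.node ⟨77,[0,0,1],[-2,0,0,0,0,0,0,0,-1,-1,0,0,-2,1,1,-2,0,-1],481,2,13,[10,0,0]⟩ (.node ⟨38,[0,1],[-2,-80,10,15,13,90,-72,11,-2,-28,-15,-58,10,-1,9,-14,-1,-13],739,2,8,[215,129,3,0]⟩ (.node ⟨89,[0,0],[-24,-26,7,15,-25,36,-15,-7,29,-2,-10,10,42,9,-1,-13,0,6],776,2,13,[78,0,0]⟩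 .nil .nil) .nil) (.node ⟨51,[0,0],[-27,-13,-1,12,-25,22,6,-8,34,16,-13,3,45,11,-4,-2,-2,9],727,2,6,[224,51,3,2]⟩ .nil .nil))) (.node ⟨33,[1,0],[-2,-3,3,1,0,0,-2,1,-11,-15,5,-10,-6,1,1,-2,0,1],545,2,2,[64,0,0,0]⟩ (.node ⟨75,[],[],0,0,0,[]⟩ (.node ⟨21,[],[0,0,0,0,0,0,0,0,0,0,0,0,1],282,2,12,[21,0,0]⟩ (.node ⟨96,[0],[21,87,-15,-16,12,-101,56,5,-44,59,6,51,-50,-12,3,35,-2,-8],747,2,4,[33,103,0,2]⟩ .nil .nil) .nil) (.node ⟨69,[],[1,0,0,0,0,0,0,0,0,0,0,0,1,-1,0,1],454,2,12,[62,0,0]⟩ .nil .nil)) (.node ⟨95,[],[],0,0,0,[]⟩ (.node ⟨113,[1,0,0],[35,260,-32,-47,-4,-299,198,-27,-61,112,35,216,-79,-21,-8,85,3,10],746,2,13,[49,0,0]⟩ (.node ⟨152,[0,1],[-87,-484,41,65,-29,544,-315,27,272,-231,-38,-340,286,39,-21,-125,-12,73],767,2,14,[122,0,0]⟩ .nil .nil) .nil) (.node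 ⟨44,[],[0,0,0,0,0,0,0,0,0,0,0,0,1],286,2,12,[44,0,0]⟩ .nil .nil)))) (.node ⟨25,[],[],0,0,0,[]⟩ (.node ⟨16,[],[0,0,0,0,0,0,0,0,0,0,0,0,2,-1,0,1],451,2,12,[9,0,0]⟩ (.node ⟨66,[],[],0,0,0,[]⟩ (.node ⟨19,[],[0,0,0,0,0,0,0,0,0,0,0,0,1],281,2,12,[19,0,0]⟩ (.node ⟨55,[],[0,0,0,0,0,0,0,0,0,0,0,0,1],288,2,12,[55,0,0]⟩ .nil .nil) .nil) (.node ⟨118,[0,1],[-23,-102,6,15,-6,116,-63,4,61,-41,-14,-71,62,14,-4,-35,-1,12],729,2,13,[21,0,0]⟩ .nil .nil)) (.node ⟨48,[],[0,0,0,0,0,0,0,0,0,0,0,0,-1,1,0,-1],414,2,13,[6,0,0]⟩ (.node ⟨115,[0,0],[-9,-27,5,4,-5,27,-13,3,8,-23,2,-34,16,4,-3,-10,0,7],638,2,6,[66,68,0,1]⟩ (.node ⟨124,[0],[29,129,-11,-19,11,-146,79,-9,-66,61,12,108,-76,-10,5,31,3,-17],702,2,13,[120,0,0]⟩ .nil .nil) .nil) (.node ⟨140,[0,1],[35,53,-5,-11,14,-65,23,6,-37,45,2,45,-29,-21,-1,40,0,-3],762,2,0,[149,116,0,1]⟩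 .nil .nil))) (.node ⟨50,[],[],0,0,0,[]⟩ (.node ⟨81,[],[],0,0,0,[]⟩ (.node ⟨106,[0,0,1],[0,7,1,-2,4,-9,0,1,-17,-11,7,2,-16,2,2,-3,0,-1],636,2,14,[8,0,0]⟩ (.node ⟨70,[1,0,0],[-38,-53,5,11,-14,65,-23,-6,36,-45,-2,-45,32,21,1,-40,0,3],733,2,14,[70,0,0]⟩ .nil .nil) .nil) (.node ⟨108,[0,1],[38,53,-5,-11,14,-65,23,6,-37,45,2,45,-36,-19,0,36,0,-5],711,2,8,[139,95,2,0]⟩ .nil .nil)) (.node ⟨24,[0,0,1],[2,3,-3,-1,0,0,2,-1,10,16,-5,10,6,-1,-1,2,0,-2],564,2,9,[64,24,1,0]⟩ (.node ⟨97,[0],[-4,-76,12,14,12,83,-69,12,-8,-39,-9,-62,-6,3,12,-26,-1,-16],717,2,10,[188,35,3,0]⟩ (.node ⟨105,[],[0,0,0,0,0,0,0,0,0,0,0,0,1],289,2,12,[105,0,0]⟩ .nil .nil) .nil) (.node ⟨149,[0,0],[-14,-118,14,13,1,137,-97,23,46,-26,-16,-92,78,4,-11,-31,-3,20],680,2,13,[115,0,0]⟩ .nil .nil)))))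 (.node ⟨13,[],[],0,0,0,[]⟩ (.node ⟨22,[],[],0,0,0,[]⟩ (.node ⟨34,[],[],0,0,0,[]⟩ (.node ⟨8,[],[1],20,2,0,[0,34,0,1]⟩ (.node ⟨110,[],[],0,0,0,[]⟩ (.node ⟨145,[1],[49,430,-43,-73,-17,-498,325,-39,-121,182,59,345,-122,-31,-17,134,7,22],745,2,3,[239,0,0,0]⟩ .nil .nil) .nil) (.node ⟨61,[1,0,0],[19,12,-1,-6,8,-8,3,-1,-6,4,2,6,-15,-1,-5,-3,2,1],750,2,13,[61,0,0]⟩ .nil .nil)) (.node ⟨78,[0],[23,26,-7,-15,25,-36,15,7,-29,2,10,-10,-45,-8,2,11,0,-8],748,2,0,[225,90,0,2]⟩ (.node ⟨122,[],[],0,0,0,[]⟩ (.node ⟨139,[1,0,0],[41,155,-12,-37,20,-185,94,-4,-68,64,21,137,-68,-25,0,55,4,4],814,2,7,[224,146,3,0]⟩ .nil .nil) .nil) (.node ⟨119,[],[0,8,-1,-2,-1,-7,5,0,1,5,1,6,-1,-2,0,1,0,-1],544,2,1,[8,64,1,2]⟩ .nil .nil))) (.node ⟨12,[0,1,0],[-5,-14,2,2,-1,13,-8,3,0,-10,1,-18,8,1,-1,-2,0,2],541,2,0,[187,5,0,2]⟩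 (.node ⟨14,[1,0],[2,0,0,0,0,0,0,0,0,1,0,0,0,1,-1,-1,0,1],456,2,13,[13,0,0]⟩ (.node ⟨88,[],[0,0,0,0,0,0,0,0,0,0,0,0,-2,0,1,-1,0,-2],421,2,14,[6,0,0]⟩ (.node ⟨91,[0,1,0,0],[-7,-29,1,5,-9,36,-11,1,32,6,-10,-26,38,3,-8,-3,-1,10],685,2,13,[91,0,0]⟩ .nil .nil) .nil) (.node ⟨142,[],[],0,0,0,[]⟩ .nil .nil)) (.node ⟨45,[0,0,1],[2,3,-3,-1,0,0,2,-1,10,15,-5,10,5,0,-1,0,0,-1],565,2,13,[32,0,0]⟩ (.node ⟨90,[0],[-24,-34,5,18,-27,44,-14,-11,44,1,-16,11,45,7,3,-6,-2,4],775,2,11,[241,78,2,0]⟩ (.node ⟨159,[],[],0,0,0,[]⟩ .nil .nil) .nil) (.node ⟨125,[0,0,1,0],[-11,13,-5,3,-7,-18,29,-16,2,-27,7,8,-22,6,9,0,1,-10],642,2,0,[91,125,1,2]⟩ .nil .nil)))) (.node ⟨29,[],[],0,0,0,[]⟩ (.node ⟨41,[],[],0,0,0,[]⟩ (.node ⟨71,[],[],0,0,0,[]⟩ (.node ⟨116,[],[],0,0,0,[]⟩ (.node ⟨154,[],[],0,0,0,[]⟩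 .nil .nil) .nil) (.node ⟨98,[0,1],[-13,121,-23,-26,-23,-165,133,-18,19,35,29,100,5,-25,2,78,-2,12],777,2,1,[86,33,2,0]⟩ .nil .nil)) (.node ⟨93,[],[],0,0,0,[]⟩ (.node ⟨127,[],[],0,0,0,[]⟩ (.node ⟨150,[0,0,1,0,0],[19,105,-9,-16,6,-119,68,-4,-55,53,9,75,-57,-10,3,29,2,-12],704,2,14,[150,0,0]⟩ .nil .nil) .nil) (.node ⟨59,[1,0,0],[28,97,-8,-17,4,-115,64,-4,-39,50,11,81,-46,-16,1,38,1,-5],709,2,13,[59,0,0]⟩ .nil .nil))) (.node ⟨54,[],[],0,0,0,[]⟩ (.node ⟨46,[0,1,0],[2,-13,2,2,2,16,-14,3,0,-2,-2,-9,4,0,-1,-4],540,2,0,[66,12,2,0]⟩ (.node ⟨28,[0,0],[-23,-26,7,15,-25,36,-15,-7,30,0,-10,10,45,8,-2,-12,0,6],723,2,0,[201,91,2,0]⟩ (.node ⟨76,[1,0],[1,-7,-1,2,-4,9,0,-1,16,12,-7,-2,15,-2,-2,3],660,2,0,[39,106,2,0]⟩ .nil .nil) .nil) (.node ⟨36,[],[0,0,0,0,0,0,0,0,0,0,0,0,1],285,2,12,[36,0,0]⟩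 .nil .nil)) (.node ⟨104,[],[],0,0,0,[]⟩ (.node ⟨132,[],[],0,0,0,[]⟩ (.node ⟨158,[1,0,0],[-6,-75,3,19,-6,81,-43,6,26,-20,-11,-72,22,5,2,-9,-4,-6],836,2,13,[139,0,0]⟩ .nil .nil) .nil) (.node ⟨65,[1,0],[-1,23,-4,-4,-4,-32,28,-6,-1,-6,9,13,-9,-4,2,13],550,2,10,[225,3,3,1]⟩ .nil .nil)))))))

/-- Table of generator 1 at level 1. -/
def ents1_1 : Arr Ent :=
  (.node ⟨0,[1],[],0,0,0,[]⟩ (.node ⟨3,[],[],0,0,0,[]⟩ (.node ⟨1,[],[0,0,0,0,0,0,0,0,0,0,0,0,0,0,0,1],291,2,15,[1,0,0]⟩ (.node ⟨16,[],[],0,0,0,[]⟩ (.node ⟨11,[],[0,0,0,0,0,0,0,0,0,0,0,0,1,-1,0,2],447,2,15,[11,0,0]⟩ (.node ⟨56,[],[],0,0,0,[]⟩ (.node ⟨106,[],[],0,0,0,[]⟩ (.node ⟨153,[],[],0,0,0,[]⟩ .nil .nil) .nil) (.node ⟨59,[0,1,0,0],[22,94,-7,-13,2,-107,63,-7,-42,51,7,75,-48,-14,3,37,1,-12],665,2,10,[16,45,0,0]⟩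 (.node ⟨154,[0,1],[37,53,-5,-11,14,-65,23,6,-38,44,2,45,-34,-20,0,34,2,-9],761,2,15,[154,0,0]⟩ .nil .nil) .nil)) (.node ⟨86,[0,1],[-1,-2,-1,0,7,1,1,-1,1,3,-3,-11,3,0,-2,-1,0,-1],578,2,2,[50,2,0,2]⟩ (.node ⟨119,[],[],0,0,0,[]⟩ (.node ⟨151,[1,0],[8,-34,2,4,9,43,-36,10,0,-1,-8,-30,9,-3,-2,-5,0,-1],661,2,7,[11,151,1,0]⟩ .nil .nil) .nil) (.node ⟨139,[0,1],[30,82,-9,-18,14,-104,51,2,-49,35,13,62,-46,-20,2,43,2,-4],760,2,16,[57,0,0]⟩ .nil .nil))) (.node ⟨20,[],[0,0,0,0,0,0,0,0,0,0,0,0,1,-1,0,2],450,2,15,[20,0,0]⟩ (.node ⟨73,[],[],0,0,0,[]⟩ (.node ⟨38,[0,0,1],[-2,12,-2,-2,-2,-13,11,-3,1,1,2,12,-7,1,2,0,0,-1],558,2,1,[132,0,0,0]⟩ (.node ⟨150,[1,0],[11,11,-1,-9,1,-10,-3,12,16,52,-9,20,31,-14,-9,18,-2,11],666,2,1,[4,122,3,1]⟩ .nil .nil) .nil) (.node ⟨61,[],[0,0,0,0,0,0,0,0,0,0,0,0,0,0,0,1],320,2,15,[61,0,0]⟩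 .nil .nil)) (.node ⟨30,[],[0,0,0,0,0,0,0,0,0,0,0,0,0,0,0,1],307,2,15,[30,0,0]⟩ (.node ⟨105,[0,1,0,0],[36,65,-14,-12,14,-85,45,1,-35,40,11,45,-49,-15,1,44,-2,-7],764,2,15,[87,0,0]⟩ (.node ⟨143,[0,0,1],[-9,34,-2,-4,-9,-43,36,-10,0,1,8,30,-9,3,2,5,0,1],637,2,5,[46,35,2,2]⟩ .nil .nil) .nil) (.node ⟨79,[],[0,0,0,0,0,0,0,0,0,0,0,0,0,0,0,1],324,2,15,[79,0,0]⟩ .nil .nil)))) (.node ⟨15,[],[0,0,0,0,0,0,0,0,0,0,0,0,-1,1,0,-1],408,2,13,[2,0,0]⟩ (.node ⟨8,[],[0,0,0,0,0,0,0,0,0,0,0,0,0,0,0,1],296,2,15,[8,0,0]⟩ (.node ⟨18,[],[0,0,0,0,0,0,0,0,0,0,0,0,0,0,0,1],299,2,15,[18,0,0]⟩ (.node ⟨36,[],[0,0,0,0,0,0,0,0,0,0,0,0,0,0,0,1],311,2,15,[36,0,0]⟩ (.node ⟨131,[1],[-24,-22,6,4,-25,24,-9,8,4,-23,8,-23,38,6,-6,-5,2,14],698,2,2,[5,131,3,2]⟩ .nil .nil) .nil) (.node ⟨114,[1,0],[1,0,0,0,0,0,0,0,0,1,0,0,-1,2,-1,-2,0,1],584,2,13,[79,0,0]⟩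 .nil .nil)) (.node ⟨28,[],[0,0,0,0,0,0,0,0,0,0,0,0,0,0,0,1],305,2,15,[28,0,0]⟩ (.node ⟨53,[0,0,1,0],[3,73,-9,-13,-12,-83,67,-11,-2,25,14,52,-4,0,-11,21,1,16],659,2,0,[200,79,3,2]⟩ (.node ⟨117,[],[0,0,0,0,0,0,0,0,1],40,2,8,[0,147,0,1]⟩ .nil .nil) .nil) (.node ⟨124,[1,0,0],[32,132,-14,-20,11,-146,81,-10,-57,76,7,118,-73,-13,5,39,2,-17],662,2,14,[45,0,0]⟩ .nil .nil))) (.node ⟨48,[],[],0,0,0,[]⟩ (.node ⟨80,[],[],0,0,0,[]⟩ (.node ⟨100,[1,0,0],[22,102,-6,-15,6,-116,63,-4,-62,41,14,71,-63,-13,4,34,1,-12],708,2,7,[50,0,0,0]⟩ (.node ⟨111,[1,0,0],[-36,-79,9,18,-14,104,-51,-2,39,-44,-10,-65,44,21,-2,-47,0,2],789,2,16,[41,0,0]⟩ .nil .nil) .nil) (.node ⟨104,[],[0,0,0,0,0,0,0,0,0,0,0,0,1,-1,0,2],453,2,15,[104,0,0]⟩ .nil .nil)) (.node ⟨95,[0,1,0,0],[-23,-94,7,13,-2,107,-63,7,41,-51,-7,-75,47,14,-3,-36,-1,12],687,2,15,[59,0,0]⟩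 (.node ⟨76,[0,0,1],[-2,0,0,0,0,0,0,0,-1,-1,0,0,-1,0,1,-3,1,-3],482,2,16,[9,0,0]⟩ (.node ⟨137,[0,1],[-55,-76,21,19,-27,80,-43,-13,51,-82,3,-21,76,12,1,-28,-1,27],778,2,1,[109,132,3,0]⟩ .nil .nil) .nil) (.node ⟨152,[],[],0,0,0,[]⟩ .nil .nil))))) (.node ⟨2,[],[0,0,0,0,0,0,0,0,0,0,0,0,0,0,0,1],292,2,15,[2,0,0]⟩ (.node ⟨4,[],[0,0,0,0,0,0,0,0,0,0,0,0,0,0,0,1],293,2,15,[4,0,0]⟩ (.node ⟨33,[],[],0,0,0,[]⟩ (.node ⟨17,[],[0,0,0,0,0,0,0,0,0,0,0,0,0,0,0,1],298,2,15,[17,0,0]⟩ (.node ⟨109,[],[],0,0,0,[]⟩ (.node ⟨129,[0,1,0,0],[16,4,-2,-5,11,-5,-3,3,-8,1,2,0,-16,-6,0,7,0,-1],718,2,16,[60,0,0]⟩ .nil .nil) .nil) (.node ⟨57,[],[0,0,0,0,0,0,0,0,0,0,0,0,0,0,0,1],319,2,15,[57,0,0]⟩ .nil .nil)) (.node ⟨88,[],[],0,0,0,[]⟩ (.node ⟨121,[],[],0,0,0,[]⟩ (.node ⟨140,[0,1,0,0],[-13,-385,39,64,29,443,-307,45,84,-144,-58,-306,89,11,18,-95,-7,-26],773,2,0,[37,145,1,2]⟩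 .nil .nil) .nil) (.node ⟨74,[0,0,1],[-5,-62,10,16,4,77,-55,6,-2,-19,-15,-52,7,11,2,-30,1,-9],640,2,16,[35,0,0]⟩ .nil .nil))) (.node ⟨46,[],[],0,0,0,[]⟩ (.node ⟨77,[],[],0,0,0,[]⟩ (.node ⟨39,[],[0,0,0,0,0,0,0,0,0,0,0,0,0,0,0,1],313,2,15,[39,0,0]⟩ (.node ⟨155,[1,0,0],[47,100,-19,-22,20,-105,58,4,-43,77,3,63,-70,-14,-1,29,1,-16],751,2,14,[60,0,0]⟩ .nil .nil) .nil) (.node ⟨87,[0,1,0,0],[-37,-65,14,12,-14,85,-45,-1,34,-40,-11,-45,48,15,-1,-43,2,7],734,2,16,[34,0,0]⟩ .nil .nil)) (.node ⟨97,[],[],0,0,0,[]⟩ (.node ⟨50,[],[0,0,0,0,0,0,0,0,0,0,0,0,0,0,0,1],318,2,15,[50,0,0]⟩ (.node ⟨127,[],[0,0,0,0,0,0,0,0,0,0,0,0,0,0,0,1],335,2,15,[127,0,0]⟩ .nil .nil) .nil) (.node ⟨81,[],[0,0,0,0,0,0,0,0,0,0,0,0,0,0,0,1],325,2,15,[81,0,0]⟩ .nil .nil)))) (.node ⟨10,[0,0,1],[-2,0,0,0,0,0,0,0,-1,-1,0,0,-1,0,1,0,0,-1],419,2,14,[1,0,0]⟩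 (.node ⟨40,[],[],0,0,0,[]⟩ (.node ⟨69,[],[],0,0,0,[]⟩ (.node ⟨37,[],[0,0,0,0,0,0,0,0,0,0,0,0,0,0,0,1],312,2,15,[37,0,0]⟩ (.node ⟨94,[],[0,0,0,0,0,0,0,0,0,0,0,0,0,0,0,1],328,2,15,[94,0,0]⟩ .nil .nil) .nil) (.node ⟨138,[],[],0,0,0,[]⟩ .nil .nil)) (.node ⟨83,[0,0,1,0],[-3,-73,9,13,12,83,-67,11,2,-24,-14,-52,2,0,11,-21,-1,-17],677,2,0,[126,83,1,1]⟩ (.node ⟨126,[0,0,1],[4,8,-1,-4,2,-8,1,3,-1,10,1,9,3,-3,-3,4,0,4],567,2,15,[85,0,0]⟩ (.node ⟨122,[],[0,0,0,0,0,0,0,0,0,0,0,0,0,0,0,1],333,2,15,[122,0,0]⟩ .nil .nil) .nil) (.node ⟨147,[],[],0,0,0,[]⟩ .nil .nil))) (.node ⟨52,[],[],0,0,0,[]⟩ (.node ⟨24,[],[0,0,0,0,0,0,0,0,0,0,0,0,0,0,0,1],302,2,15,[24,0,0]⟩ (.node ⟨41,[],[0,0,0,0,0,0,0,0,0,0,0,0,0,0,0,1],314,2,15,[41,0,0]⟩ (.node ⟨156,[0,0,1,0,0],[-24,-25,7,15,-25,36,-15,-7,27,-1,-10,10,38,13,-2,-18,0,7],793,2,13,[87,0,0]⟩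 .nil .nil) .nil) (.node ⟨65,[],[0,0,0,0,0,0,0,0,0,0,0,0,0,0,0,1],322,2,15,[65,0,0]⟩ .nil .nil)) (.node ⟨103,[],[],0,0,0,[]⟩ (.node ⟨130,[],[],0,0,0,[]⟩ (.node ⟨142,[],[0,0,0,0,0,0,0,0,0,0,0,0,0,0,0,1],336,2,15,[142,0,0]⟩ .nil .nil) .nil) (.node ⟨84,[],[0,0,0,0,0,0,0,0,0,0,0,0,0,0,0,1],326,2,15,[84,0,0]⟩ .nil .nil)))))) (.node ⟨5,[],[],0,0,0,[]⟩ (.node ⟨9,[],[],0,0,0,[]⟩ (.node ⟨19,[],[],0,0,0,[]⟩ (.node ⟨7,[],[0,0,0,0,0,0,0,0,0,0,0,0,0,0,0,1],295,2,15,[7,0,0]⟩ (.node ⟨58,[],[],0,0,0,[]⟩ (.node ⟨68,[],[0,0,0,0,0,0,0,0,0,0,0,0,-1,1,0,-1],412,2,13,[18,0,0]⟩ (.node ⟨112,[0],[26,13,1,-12,25,-22,-6,8,-34,-16,13,-3,-45,-10,4,1,2,-9],753,2,13,[50,0,0]⟩ .nil .nil) .nil) (.node ⟨136,[],[],0,0,0,[]⟩ .nil .nil)) (.node ⟨27,[],[0,0,0,0,0,0,0,0,0,0,0,0,0,0,0,1],304,2,15,[27,0,0]⟩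 (.node ⟨43,[],[0,0,0,0,0,0,0,0,0,0,0,0,0,0,0,1],315,2,15,[43,0,0]⟩ (.node ⟨110,[],[0,0,0,0,0,0,0,0,0,0,0,0,0,0,0,1],331,2,15,[110,0,0]⟩ .nil .nil) .nil) (.node ⟨128,[0,0],[-27,-13,-1,12,-25,22,6,-8,34,16,-13,3,45,10,-4,0,-2,9],781,2,15,[112,0,0]⟩ .nil .nil))) (.node ⟨45,[],[],0,0,0,[]⟩ (.node ⟨21,[],[0,0,0,0,0,0,0,0,0,0,0,0,0,0,0,1],300,2,15,[21,0,0]⟩ (.node ⟨118,[],[],0,0,0,[]⟩ (.node ⟨96,[],[0,0,0,0,0,0,0,0,0,0,0,0,0,0,0,1],329,2,15,[96,0,0]⟩ .nil .nil) .nil) (.node ⟨107,[],[0,0,0,0,0,0,0,0,0,0,0,0,-1,1,0,-1],413,2,13,[34,0,0]⟩ .nil .nil)) (.node ⟨31,[],[0,0,0,0,0,0,0,0,0,0,0,0,0,0,0,1],308,2,15,[31,0,0]⟩ (.node ⟨49,[],[0,0,0,0,0,0,0,0,0,0,0,0,0,0,0,1],317,2,15,[49,0,0]⟩ (.node ⟨123,[],[0,0,0,0,0,0,0,0,0,0,0,0,0,0,0,1],334,2,15,[123,0,0]⟩ .nil .nil)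 .nil) (.node ⟨148,[],[],0,0,0,[]⟩ .nil .nil)))) (.node ⟨26,[],[],0,0,0,[]⟩ (.node ⟨23,[],[0,0,0,0,0,0,0,0,0,0,0,0,-1,1,0,-1],410,2,13,[4,0,0]⟩ (.node ⟨67,[],[],0,0,0,[]⟩ (.node ⟨64,[],[0,0,0,0,0,0,0,0,0,0,0,0,1,-1,0,2],452,2,15,[64,0,0]⟩ (.node ⟨116,[0,0,1],[9,-9,-2,2,4,10,-8,3,-11,0,-1,-12,-14,1,2,4,0,-8],615,2,15,[116,0,0]⟩ .nil .nil) .nil) (.node ⟨75,[0,1],[-26,-102,6,15,-6,116,-63,6,59,-41,-14,-77,64,13,-4,-35,-1,12],686,2,13,[31,0,0]⟩ .nil .nil)) (.node ⟨29,[],[0,0,0,0,0,0,0,0,0,0,0,0,0,0,0,1],306,2,15,[29,0,0]⟩ (.node ⟨125,[],[],0,0,0,[]⟩ (.node ⟨120,[],[0,0,0,0,0,0,0,0,0,0,0,0,0,0,0,1],332,2,15,[120,0,0]⟩ .nil .nil) .nil) (.node ⟨132,[1,0],[-10,9,2,-2,-4,-10,8,-3,10,0,1,12,14,-1,-2,-3,0,8],585,2,1,[91,54,3,1]⟩ .nil .nil))) (.node ⟨51,[],[],0,0,0,[]⟩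 (.node ⟨82,[],[],0,0,0,[]⟩ (.node ⟨91,[1,0],[1,0,0,0,0,0,0,0,0,1,0,0,1,0,-1,-1,1,-2],458,2,16,[4,0,0]⟩ (.node ⟨145,[0,1,0,0],[20,509,-60,-73,-62,-563,412,-75,-84,221,61,444,-127,-1,-18,128,7,21],794,2,0,[284,140,3,2]⟩ .nil .nil) .nil) (.node ⟨134,[1,0,0],[-24,-93,7,13,-2,107,-63,7,39,-52,-7,-75,46,13,-2,-37,0,8],688,2,16,[32,0,0]⟩ .nil .nil)) (.node ⟨92,[0,0],[6,76,-12,-14,-12,-83,69,-12,10,42,9,62,2,-2,-12,23,1,13],700,2,0,[60,129,3,2]⟩ (.node ⟨60,[0],[-6,-76,12,14,12,83,-69,12,-9,-41,-9,-62,-3,2,12,-23,-1,-14],678,2,13,[24,0,0]⟩ (.node ⟨141,[0,1,0],[-31,107,-9,-18,-16,-125,96,-21,-12,18,21,90,-12,31,-10,-24,6,17],815,2,16,[116,0,0]⟩ .nil .nil) .nil) (.node ⟨115,[0,1],[-32,-132,14,20,-11,146,-81,10,55,-76,-7,-118,72,13,-5,-37,-2,17],679,2,1,[60,58,0,0]⟩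 .nil .nil))))) (.node ⟨14,[],[],0,0,0,[]⟩ (.node ⟨13,[1,0],[1,0,0,0,0,0,0,0,0,1,0,0,1,0,-1,1,0,1],457,2,15,[10,0,0]⟩ (.node ⟨35,[],[],0,0,0,[]⟩ (.node ⟨62,[],[],0,0,0,[]⟩ (.node ⟨78,[],[0,0,0,0,0,0,0,0,0,0,0,0,-3,0,1,0,0,-2],423,2,14,[10,0,0]⟩ (.node ⟨93,[],[0,0,0,0,0,0,0,0,0,0,0,0,0,0,0,1],327,2,15,[93,0,0]⟩ .nil .nil) .nil) (.node ⟨102,[1,0],[-3,0,3,0,0,-4,1,0,-10,-14,5,-6,-2,0,0,2,0,4],590,2,15,[98,0,0]⟩ .nil .nil)) (.node ⟨89,[],[],0,0,0,[]⟩ (.node ⟨44,[],[0,0,0,0,0,0,0,0,0,0,0,0,0,0,0,1],316,2,15,[44,0,0]⟩ (.node ⟨158,[],[],0,0,0,[]⟩ .nil .nil) .nil) (.node ⟨99,[0,0,1],[-1,0,0,0,0,0,0,0,0,0,0,0,0,-2,1,2,0,-2],614,2,9,[193,119,0,1]⟩ .nil .nil))) (.node ⟨12,[],[0,0,0,0,0,0,0,0,0,0,0,0,0,0,0,1],297,2,15,[12,0,0]⟩ (.node ⟨22,[],[0,0,0,0,0,0,0,0,0,0,0,0,0,0,0,1],301,2,15,[22,0,0]⟩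 (.node ⟨113,[1,0],[4,62,-10,-16,-4,-77,55,-6,1,19,15,52,-7,-11,-2,31,-1,9],664,2,15,[74,0,0]⟩ (.node ⟨101,[],[0,0,0,0,0,0,0,0,0,0,0,0,0,0,0,1],330,2,15,[101,0,0]⟩ .nil .nil) .nil) (.node ⟨63,[],[0,0,0,0,0,0,0,0,0,0,0,0,0,0,0,1],321,2,15,[63,0,0]⟩ .nil .nil)) (.node ⟨32,[],[0,0,0,0,0,0,0,0,0,0,0,0,0,0,0,1],309,2,15,[32,0,0]⟩ (.node ⟨90,[0,1,0,0],[0,8,2,-3,2,-8,-1,4,-16,-4,6,-1,-5,1,-3,-6,2,1],744,2,16,[50,0,0]⟩ (.node ⟨159,[1,0,0],[-38,-53,5,11,-14,65,-23,-6,37,-44,-2,-45,34,20,0,-33,-2,9],732,2,13,[108,0,0]⟩ .nil .nil) .nil) (.node ⟨149,[],[],0,0,0,[]⟩ .nil .nil)))) (.node ⟨6,[],[0,0,0,0,0,0,0,0,0,0,0,0,0,0,0,1],294,2,15,[6,0,0]⟩ (.node ⟨42,[],[],0,0,0,[]⟩ (.node ⟨71,[1,0],[1,-12,2,2,2,13,-11,3,-1,0,-2,-12,7,-1,-2],582,2,1,[177,38,0,1]⟩ (.node ⟨54,[1,0],[3,8,-1,-2,-1,-7,5,0,2,7,1,6,-1,-1,-2,1,0,1],586,2,8,[24,30,2,0]⟩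 (.node ⟨108,[0,1],[23,93,-7,-13,2,-107,63,-7,-41,51,7,75,-46,-13,2,34,2,-12],710,2,16,[58,0,0]⟩ .nil .nil) .nil) (.node ⟨98,[0,0,1],[2,0,-3,0,0,4,-1,0,9,14,-5,6,2,0,0,-1,0,-4],563,2,7,[32,33,0,1]⟩ .nil .nil)) (.node ⟨70,[0,0,1],[-2,-8,1,2,1,7,-5,0,-2,-6,-1,-6,-1,1,2,-1,0,-2],561,2,14,[14,0,0]⟩ (.node ⟨47,[1,0,0],[5,-1,0,0,3,0,-3,0,-2,-1,0,3,-8,-1,2,0,0,-3],557,2,14,[12,0,0]⟩ (.node ⟨135,[0,0,1],[-10,-28,-5,9,5,28,-9,-3,-8,-47,6,-44,-27,13,9,-18,0,-11],689,2,0,[231,85,2,0]⟩ .nil .nil) .nil) (.node ⟨72,[],[0,0,0,0,0,0,0,0,0,0,0,0,0,0,0,1],323,2,15,[72,0,0]⟩ .nil .nil))) (.node ⟨55,[],[],0,0,0,[]⟩ (.node ⟨25,[],[0,0,0,0,0,0,0,0,0,0,0,0,0,0,0,1],303,2,15,[25,0,0]⟩ (.node ⟨66,[],[0,0,0,0,0,0,0,0,0,0,0,0,3,0,-1,1,0,2],460,2,15,[66,0,0]⟩ (.node ⟨157,[],[],0,0,0,[]⟩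 .nil .nil) .nil) (.node ⟨144,[],[],0,0,0,[]⟩ .nil .nil)) (.node ⟨34,[],[0,0,0,0,0,0,0,0,0,0,0,0,0,0,0,1],310,2,15,[34,0,0]⟩ (.node ⟨133,[],[],0,0,0,[]⟩ (.node ⟨146,[],[0,0,0,0,0,0,0,0,0,0,0,0,0,0,0,1],337,2,15,[146,0,0]⟩ .nil .nil) .nil) (.node ⟨85,[1,0],[-4,-8,1,4,-2,8,-1,-3,0,-10,-1,-9,-4,3,3,-3,0,-4],547,2,1,[23,0,0,0]⟩ .nil .nil)))))))

/-- Table of generator 2 at level 1. -/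
def ents1_2 : Arr Ent :=
  (.node ⟨1,[],[],0,0,0,[]⟩ (.node ⟨0,[],[0,0,0,0,0,0,0,0,0,1],114,2,9,[0,0,0,0]⟩ (.node ⟨8,[],[],0,0,0,[]⟩ (.node ⟨17,[],[],0,0,0,[]⟩ (.node ⟨25,[0],[0,1,0,0,0,0,0,0,3,9,-3,3,5,-1,-1,1,0,-1],448,2,1,[12,0,0,0]⟩ (.node ⟨16,[],[0,0,0,0,0,0,0,0,0,0,0,0,0,0,0,0,0,1],347,2,17,[16,0,0]⟩ (.node ⟨34,[],[0,0,0,0,0,0,0,0,0,0,0,0,0,0,0,0,0,1],357,2,17,[34,0,0]⟩ (.node ⟨133,[0],[-9,-13,3,2,-11,12,-6,4,-1,-21,7,-13,9,2,0,-3,1,5],658,2,17,[127,0,0]⟩ .nil .nil) .nil) (.node ⟨134,[],[],0,0,0,[]⟩ (.node ⟨157,[0,0,1,0,0],[18,107,-9,-15,0,-123,77,-10,-43,55,9,84,-50,-12,3,38,1,-11],758,2,0,[62,134,0,1]⟩ .nil .nil) .nil)) (.node ⟨26,[],[0,0,0,0,0,0,0,0,0,0,0,0,0,0,0,0,0,1],352,2,17,[26,0,0]⟩ (.node ⟨42,[],[0,0,0,0,0,0,0,0,0,0,0,0,0,0,0,0,0,1],363,2,17,[42,0,0]⟩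 (.node ⟨107,[],[0,0,0,0,0,0,0,0,0,0,0,0,0,0,0,0,0,1],387,2,17,[107,0,0]⟩ .nil .nil) .nil) (.node ⟨66,[],[0,0,0,0,0,0,0,0,0,0,0,0,0,0,0,0,0,1],375,2,17,[66,0,0]⟩ .nil .nil))) (.node ⟨44,[],[],0,0,0,[]⟩ (.node ⟨74,[],[],0,0,0,[]⟩ (.node ⟨117,[],[],0,0,0,[]⟩ (.node ⟨155,[],[],0,0,0,[]⟩ .nil .nil) .nil) (.node ⟨136,[],[0,0,0,0,0,0,0,0,0,0,0,0,0,0,0,-3,1,-2],424,2,16,[16,0,0]⟩ .nil .nil)) (.node ⟨86,[0,1],[-5,1,0,0,-3,0,3,0,1,1,0,-3,7,1,-2,-2,1,1],581,2,16,[5,0,0]⟩ (.node ⟨48,[],[0,0,0,0,0,0,0,0,0,0,0,0,0,0,0,0,0,1],366,2,17,[48,0,0]⟩ (.node ⟨158,[0,1,0,0],[-19,383,-36,-49,-65,-438,326,-66,-44,145,50,346,-53,-1,-14,94,6,30],828,2,16,[104,0,0]⟩ .nil .nil) .nil) (.node ⟨121,[0,0,1],[23,10,2,0,13,-9,-10,6,-29,26,-8,8,-31,-4,3,3,0,-11],611,2,9,[288,93,3,0]⟩ .nil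 .nil)))) (.node ⟨24,[],[],0,0,0,[]⟩ (.node ⟨19,[1],[0,0,0,0,0,0,0,0,-1,-1,0,0,0,0,0,-2,1,-1],418,2,16,[0,0,0]⟩ (.node ⟨65,[],[],0,0,0,[]⟩ (.node ⟨113,[],[],0,0,0,[]⟩ (.node ⟨93,[],[0,0,0,0,0,0,0,0,0,0,0,0,0,0,0,0,0,1],383,2,17,[93,0,0]⟩ .nil .nil) .nil) (.node ⟨58,[],[0,0,0,0,0,0,0,0,0,0,0,0,0,0,0,0,0,1],371,2,17,[58,0,0]⟩ .nil .nil)) (.node ⟨91,[],[],0,0,0,[]⟩ (.node ⟨124,[],[],0,0,0,[]⟩ (.node ⟨152,[0,0,1],[-2,12,-2,-2,-2,-13,11,-3,0,0,2,12,-8,2,2,-4,1,-2],613,2,16,[23,0,0]⟩ .nil .nil) .nil) (.node ⟨69,[],[0,0,0,0,0,0,0,0,0,0,0,0,0,0,0,0,0,1],378,2,17,[69,0,0]⟩ .nil .nil))) (.node ⟨49,[],[],0,0,0,[]⟩ (.node ⟨22,[],[0,0,0,0,0,0,0,0,0,0,0,0,0,0,0,0,0,1],350,2,17,[22,0,0]⟩ (.node ⟨80,[0,1],[-31,253,-27,-29,-57,-262,215,-44,-8,111,23,214,-29,-3,-4,54,0,11],768,2,0,[295,32,3,2]⟩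 (.node ⟨102,[],[0,0,0,0,0,0,0,0,0,0,0,0,0,0,0,0,0,1],385,2,17,[102,0,0]⟩ .nil .nil) .nil) (.node ⟨143,[],[],0,0,0,[]⟩ .nil .nil)) (.node ⟨32,[],[0,0,0,0,0,0,0,0,0,0,0,0,0,0,0,0,0,1],355,2,17,[32,0,0]⟩ (.node ⟨51,[],[0,0,0,0,0,0,0,0,0,0,0,0,0,0,0,0,0,1],368,2,17,[51,0,0]⟩ (.node ⟨135,[],[0,0,0,0,0,0,0,0,0,0,0,0,0,0,0,0,0,1],390,2,17,[135,0,0]⟩ .nil .nil) .nil) (.node ⟨82,[],[0,0,0,0,0,0,0,0,0,0,0,0,0,0,0,0,0,1],380,2,17,[82,0,0]⟩ .nil .nil))))) (.node ⟨12,[],[],0,0,0,[]⟩ (.node ⟨21,[],[],0,0,0,[]⟩ (.node ⟨7,[],[0,0,0,0,0,0,0,0,0,0,0,0,0,0,0,0,0,1],342,2,17,[7,0,0]⟩ (.node ⟨61,[],[],0,0,0,[]⟩ (.node ⟨35,[],[0,0,0,0,0,0,0,0,0,0,0,0,0,0,0,0,0,1],358,2,17,[35,0,0]⟩ (.node ⟨92,[],[0,0,0,0,0,0,0,0,0,0,0,0,0,0,0,0,0,1],382,2,17,[92,0,0]⟩ .nil .nil) .nil) (.node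 ⟨77,[0,1,0,0],[-33,-83,12,18,-14,100,-50,-2,40,-49,-8,-68,41,20,-1,-44,-1,4],731,2,5,[47,30,2,2]⟩ .nil .nil)) (.node ⟨27,[],[0,0,0,0,0,0,0,0,0,0,0,0,0,0,0,0,0,1],353,2,17,[27,0,0]⟩ (.node ⟨100,[0,0],[1,1,3,2,0,-1,-2,0,-6,1,-1,-1,2,-3,-1,3,0,1],757,2,17,[81,0,0]⟩ (.node ⟨110,[],[0,0,0,0,0,0,0,0,0,0,0,0,0,0,0,0,0,1],388,2,17,[110,0,0]⟩ .nil .nil) .nil) (.node ⟨67,[],[0,0,0,0,0,0,0,0,0,0,0,0,0,0,0,0,0,1],376,2,17,[67,0,0]⟩ .nil .nil))) (.node ⟨15,[0,0],[-1,0,0,0,0,0,0,0,0,-1,0,0,-2,0,1,-1],409,2,14,[0,0,0]⟩ (.node ⟨78,[],[],0,0,0,[]⟩ (.node ⟨109,[1,0],[5,62,-10,-16,-4,-77,55,-6,1,19,15,52,-8,-11,-2,28,0,7],619,2,1,[100,65,1,0]⟩ (.node ⟨132,[0,0],[-13,-38,2,4,-2,42,-18,8,19,-2,-8,-54,36,5,-8,-14,1,4],683,2,6,[192,0,0,0]⟩ .nil .nil) .nil) (.node ⟨62,[],[0,0,0,0,0,0,0,0,0,0,0,0,0,0,0,0,0,1],373,2,17,[62,0,0]⟩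 .nil .nil)) (.node ⟨98,[],[],0,0,0,[]⟩ (.node ⟨120,[],[0,0,0,0,0,0,0,0,0,0,0,0,-3,0,1,-1,0,-1],420,2,14,[44,0,0]⟩ (.node ⟨154,[1],[-40,-81,13,13,-61,89,-42,10,54,-83,19,-31,59,14,3,-22,-1,30],771,2,0,[116,153,3,0]⟩ .nil .nil) .nil) (.node ⟨119,[1,0],[-3,5,2,-1,-1,-7,3,1,-10,-10,6,-4,-10,-2,3,-1,0,-4],593,2,14,[23,0,0]⟩ .nil .nil)))) (.node ⟨28,[],[],0,0,0,[]⟩ (.node ⟨9,[],[0,0,0,0,0,0,0,0,0,0,0,0,0,0,0,0,0,1],343,2,17,[9,0,0]⟩ (.node ⟨70,[],[],0,0,0,[]⟩ (.node ⟨115,[],[],0,0,0,[]⟩ (.node ⟨127,[0,0],[8,13,-3,-2,11,-12,6,-4,1,21,-7,13,-9,-2,0,3,-1,-4],632,2,14,[47,0,0]⟩ .nil .nil) .nil) (.node ⟨60,[],[0,0,0,0,0,0,0,0,0,0,0,0,0,0,0,0,0,1],372,2,17,[60,0,0]⟩ .nil .nil)) (.node ⟨29,[],[0,0,0,0,0,0,0,0,0,0,0,0,0,0,0,0,0,1],354,2,17,[29,0,0]⟩ (.node ⟨46,[],[0,0,0,0,0,0,0,0,0,0,0,0,0,0,0,0,0,1],365,2,17,[46,0,0]⟩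 (.node ⟨156,[0,1,0,0],[15,-10,-5,5,3,-6,17,-8,-22,-60,23,-44,-42,0,3,20,0,-6],763,2,3,[55,120,2,1]⟩ .nil .nil) .nil) (.node ⟨71,[],[0,0,0,0,0,0,0,0,0,0,0,0,0,0,0,0,0,1],379,2,17,[71,0,0]⟩ .nil .nil))) (.node ⟨53,[],[],0,0,0,[]⟩ (.node ⟨84,[],[],0,0,0,[]⟩ (.node ⟨97,[0,1,0,0],[38,80,-12,-18,14,-100,50,2,-32,58,5,71,-41,-21,1,44,1,-6],759,2,0,[94,97,1,0]⟩ (.node ⟨116,[0,0],[-55,-230,36,47,-13,273,-179,15,75,-95,-41,-153,120,1,11,-54,-3,-1],792,2,3,[238,60,0,0]⟩ .nil .nil) .nil) (.node ⟨73,[0,0,1],[-6,-62,10,16,4,77,-55,6,-2,-19,-15,-52,8,11,2,-28,0,-6],641,2,17,[73,0,0]⟩ .nil .nil)) (.node ⟨33,[],[0,0,0,0,0,0,0,0,0,0,0,0,0,0,0,0,0,1],356,2,17,[33,0,0]⟩ (.node ⟨131,[],[],0,0,0,[]⟩ (.node ⟨159,[0,1,0],[-19,-107,9,15,0,123,-77,10,42,-54,-9,-84,49,12,-3,-38,-1,11],730,2,8,[198,106,0,0]⟩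 .nil .nil) .nil) (.node ⟨126,[0,0,1,0],[4,8,-1,-4,2,-8,1,3,-1,11,1,9,4,-2,-4,1,1,3],568,2,16,[15,0,0]⟩ .nil .nil)))))) (.node ⟨6,[],[],0,0,0,[]⟩ (.node ⟨10,[],[],0,0,0,[]⟩ (.node ⟨3,[],[0,0,0,0,0,0,0,0,0,0,0,0,0,0,0,0,0,1],339,2,17,[3,0,0]⟩ (.node ⟨31,[],[],0,0,0,[]⟩ (.node ⟨59,[],[],0,0,0,[]⟩ (.node ⟨108,[],[],0,0,0,[]⟩ (.node ⟨94,[0,0,1,0],[-57,-95,20,20,-35,100,-59,10,39,-83,6,-69,67,18,2,-48,-1,24],782,2,3,[189,0,0,0]⟩ .nil .nil) .nil) (.node ⟨56,[],[0,0,0,0,0,0,0,0,0,0,0,0,0,0,0,0,0,1],369,2,17,[56,0,0]⟩ .nil .nil)) (.node ⟨87,[],[],0,0,0,[]⟩ (.node ⟨75,[1,0,0],[-18,-105,7,18,-5,122,-68,3,63,-30,-21,-68,73,12,-8,-32,0,15],756,2,16,[42,0,0]⟩ (.node ⟨146,[0],[-24,-37,5,19,-27,48,-17,-11,44,1,-16,10,47,8,2,-6,-2,4],827,2,1,[43,144,0,1]⟩ .nil .nil)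 .nil) (.node ⟨142,[0,1],[54,38,-10,-14,27,-51,16,4,-14,56,-7,43,-30,-9,-8,20,3,-1],779,2,0,[285,51,3,2]⟩ .nil .nil))) (.node ⟨11,[],[0,0,0,0,0,0,0,0,0,0,0,0,0,0,0,0,0,1],344,2,17,[11,0,0]⟩ (.node ⟨76,[],[],0,0,0,[]⟩ (.node ⟨72,[0,1,0,0],[-17,-16,3,7,-10,12,-2,-3,12,-7,-3,-6,20,8,0,-5,-1,6],724,2,2,[85,4,2,0]⟩ (.node ⟨103,[],[0,0,0,0,0,0,0,0,0,0,0,0,0,0,0,-2,1,-2],422,2,16,[7,0,0]⟩ .nil .nil) .nil) (.node ⟨140,[],[],0,0,0,[]⟩ .nil .nil)) (.node ⟨96,[],[],0,0,0,[]⟩ (.node ⟨106,[0,1,0,0],[36,65,-14,-12,14,-85,45,1,-35,40,11,45,-49,-15,1,41,-1,-9],712,2,9,[127,8,3,2]⟩ (.node ⟨147,[1,0],[1,-12,2,2,2,13,-11,3,-3,-1,-2,-12,8,-2,-2,1,1,-1],583,2,16,[20,0,0]⟩ .nil .nil) .nil) (.node ⟨89,[],[0,0,0,0,0,0,0,0,0,0,0,0,3,0,-1,1,0,2],459,2,17,[89,0,0]⟩ .nil .nil))))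 (.node ⟨5,[],[0,0,0,0,0,0,0,0,0,0,0,0,0,0,0,0,0,1],341,2,17,[5,0,0]⟩ (.node ⟨38,[],[],0,0,0,[]⟩ (.node ⟨18,[],[0,0,0,0,0,0,0,0,0,0,0,0,0,0,0,0,0,1],348,2,17,[18,0,0]⟩ (.node ⟨114,[],[],0,0,0,[]⟩ (.node ⟨137,[0],[21,14,-4,-1,9,-17,3,1,-28,8,2,12,-44,-3,8,14,-1,-15],705,2,14,[63,0,0]⟩ .nil .nil) .nil) (.node ⟨81,[0],[-2,-1,-3,-2,0,1,2,0,6,-1,1,1,-2,3,1,-3],728,2,11,[18,121,3,2]⟩ .nil .nil)) (.node ⟨54,[0,0],[-34,-198,22,31,0,222,-143,21,61,-95,-20,-164,77,12,4,-59,-2],681,2,16,[29,0,0]⟩ (.node ⟨45,[],[0,0,0,0,0,0,0,0,0,0,0,0,0,0,0,0,0,1],364,2,17,[45,0,0]⟩ (.node ⟨148,[0,1,0,0],[-1,-8,-2,3,-2,8,1,-4,15,4,-6,1,4,-1,3,4,-1,-3],720,2,4,[182,62,1,2]⟩ .nil .nil) .nil) (.node ⟨141,[0],[124,149,-31,-41,70,-176,80,0,-70,120,6,110,-128,-42,-5,81,1,-26],805,2,5,[5,156,3,2]⟩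 .nil .nil))) (.node ⟨13,[],[0,0,0,0,0,0,0,0,0,0,0,0,0,0,0,0,0,1],345,2,17,[13,0,0]⟩ (.node ⟨23,[],[0,0,0,0,0,0,0,0,0,0,0,0,0,0,0,0,0,1],351,2,17,[23,0,0]⟩ (.node ⟨40,[],[0,0,0,0,0,0,0,0,0,0,0,0,0,0,0,0,0,1],361,2,17,[40,0,0]⟩ (.node ⟨104,[],[0,0,0,0,0,0,0,0,0,0,0,0,0,0,0,0,0,1],386,2,17,[104,0,0]⟩ .nil .nil) .nil) (.node ⟨64,[],[0,0,0,0,0,0,0,0,0,0,0,0,0,0,0,0,0,1],374,2,17,[64,0,0]⟩ .nil .nil)) (.node ⟨101,[],[],0,0,0,[]⟩ (.node ⟨129,[],[],0,0,0,[]⟩ (.node ⟨149,[0,1,0,0],[-31,-1,2,1,-15,15,1,-6,41,26,-19,28,40,5,3,-19,0,3],791,2,0,[151,124,0,2]⟩ .nil .nil) .nil) (.node ⟨83,[],[0,0,0,0,0,0,0,0,0,0,0,0,0,0,0,0,0,1],381,2,17,[83,0,0]⟩ .nil .nil))))) (.node ⟨2,[],[0,0,0,0,0,0,0,0,0,0,0,0,0,0,0,0,0,1],338,2,17,[2,0,0]⟩ (.node ⟨4,[],[0,0,0,0,0,0,0,0,0,0,0,0,0,0,0,0,0,1],340,2,17,[4,0,0]⟩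 (.node ⟨36,[],[],0,0,0,[]⟩ (.node ⟨63,[],[],0,0,0,[]⟩ (.node ⟨111,[],[],0,0,0,[]⟩ (.node ⟨118,[0],[-42,-76,7,15,-24,89,-33,-1,54,-50,-4,-68,64,9,-2,-21,-2,14],719,2,0,[57,0,0,0]⟩ .nil .nil) .nil) (.node ⟨57,[],[0,0,0,0,0,0,0,0,0,0,0,0,0,0,0,0,0,1],370,2,17,[57,0,0]⟩ .nil .nil)) (.node ⟨90,[],[],0,0,0,[]⟩ (.node ⟨123,[],[],0,0,0,[]⟩ (.node ⟨144,[0,0],[23,37,-5,-19,27,-48,17,11,-43,0,16,-10,-47,-8,-2,5,2,-4],801,2,7,[85,146,1,1]⟩ .nil .nil) .nil) (.node ⟨68,[],[0,0,0,0,0,0,0,0,0,0,0,0,0,0,0,0,0,1],377,2,17,[68,0,0]⟩ .nil .nil))) (.node ⟨47,[],[],0,0,0,[]⟩ (.node ⟨79,[],[],0,0,0,[]⟩ (.node ⟨39,[],[0,0,0,0,0,0,0,0,0,0,0,0,0,0,0,0,0,1],360,2,17,[39,0,0]⟩ (.node ⟨138,[0,0,1,0],[-18,-4,2,5,-11,5,3,-3,6,-2,-2,0,16,6,0,-8,1],684,2,8,[89,24,3,1]⟩ .nil .nil) .nil)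 (.node ⟨88,[0,1,0,0],[-37,-65,14,12,-14,85,-45,-1,34,-40,-11,-45,48,15,-1,-41,1,10],735,2,17,[88,0,0]⟩ .nil .nil)) (.node ⟨99,[],[],0,0,0,[]⟩ (.node ⟨50,[],[0,0,0,0,0,0,0,0,0,0,0,0,0,0,0,0,0,1],367,2,17,[50,0,0]⟩ (.node ⟨153,[1],[40,81,-13,-13,61,-89,42,-10,-55,84,-19,31,-59,-14,-3,22,1,-30],743,2,14,[154,0,0]⟩ .nil .nil) .nil) (.node ⟨150,[],[],0,0,0,[]⟩ .nil .nil)))) (.node ⟨30,[],[],0,0,0,[]⟩ (.node ⟨43,[],[],0,0,0,[]⟩ (.node ⟨20,[],[0,0,0,0,0,0,0,0,0,0,0,0,0,0,0,0,0,1],349,2,17,[20,0,0]⟩ (.node ⟨37,[],[0,0,0,0,0,0,0,0,0,0,0,0,0,0,0,0,0,1],359,2,17,[37,0,0]⟩ (.node ⟨95,[],[0,0,0,0,0,0,0,0,0,0,0,0,0,0,0,0,0,1],384,2,17,[95,0,0]⟩ .nil .nil) .nil) (.node ⟨139,[],[],0,0,0,[]⟩ .nil .nil)) (.node ⟨52,[0],[31,198,-22,-31,0,-222,143,-21,-62,93,20,164,-75,-12,-4,55,4,-2],703,2,16,[52,0,0]⟩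 (.node ⟨55,[1,0,0],[1,2,1,0,-7,-1,-1,1,-2,-3,3,11,-4,0,2,-1,1,-1],610,2,16,[2,0,0]⟩ (.node ⟨122,[],[0,0,0,0,0,0,0,0,0,0,0,0,0,0,0,0,0,1],389,2,17,[122,0,0]⟩ .nil .nil) .nil) (.node ⟨130,[0,0],[42,76,-7,-15,24,-89,33,1,-54,51,4,68,-65,-9,2,21,2,-14],741,2,0,[217,39,3,1]⟩ .nil .nil))) (.node ⟨14,[],[0,0,0,0,0,0,0,0,0,0,0,0,0,0,0,0,0,1],346,2,17,[14,0,0]⟩ (.node ⟨85,[],[],0,0,0,[]⟩ (.node ⟨41,[],[0,0,0,0,0,0,0,0,0,0,0,0,0,0,0,0,0,1],362,2,17,[41,0,0]⟩ (.node ⟨112,[1,0,0],[-26,-29,7,3,-6,38,-20,2,1,-55,11,-41,4,-3,8,-13,-1,-2],752,2,1,[61,0,0,0]⟩ .nil .nil) .nil) (.node ⟨145,[],[],0,0,0,[]⟩ .nil .nil)) (.node ⟨105,[],[],0,0,0,[]⟩ (.node ⟨128,[0,0,1,0],[-131,-62,15,33,-116,92,8,-22,93,-93,13,-19,106,39,10,-38,-7,33],802,2,16,[128,0,0]⟩ (.node ⟨151,[0,1,0,0],[21,-96,6,9,19,101,-65,5,40,-54,-9,-81,1,-5,5,-7,-6,8],810,2,14,[143,0,0]⟩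 .nil .nil) .nil) (.node ⟨125,[0,0,1,0],[-5,-9,1,4,-2,8,-1,-3,-3,-19,2,-12,-8,3,4,-6,1,-5],595,2,16,[11,0,0]⟩ .nil .nil)))))))

/-- Level 1. -/
def lv1 : Lv :=
  ⟨160, [0,1,2], words1, [ents1_0,ents1_1,ents1_2,.nil]⟩

/-- Transversal of level 2. -/
def words2 : Arr (List ℕ) :=
  (.node [] (.node [1] (.node [0,0,1] .nil .nil) .nil) (.node [0,1] .nil .nil))

/-- Table of generator 0 at level 2. -/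
def ents2_0 : Arr Ent :=
  (.node ⟨0,[0],[],0,0,0,[]⟩ (.node ⟨2,[],[],0,0,0,[]⟩ (.node ⟨1,[],[0,0,0,0,0,0,0,0,0,0,0,0,1],274,2,12,[0,2,2]⟩ .nil .nil) .nil) (.node ⟨3,[],[],0,0,0,[]⟩ .nil .nil))

/-- Table of generator 1 at level 2. -/
def ents2_1 : Arr Ent :=
  (.node ⟨1,[],[],0,0,0,[]⟩ (.node ⟨0,[],[0,0,0,0,0,0,0,0,1],39,2,8,[0,0,0,0]⟩ (.node ⟨2,[0],[0,-1,0,0,0,0,0,0,2,0,0,0,1],455,2,16,[0,3,0]⟩ .nil .nil) .nil) (.node ⟨3,[0,0],[-1,1,0,0,0,0,0,0,-1,0,0,0,-1],403,2,1,[0,0,0,0]⟩ .nil .nil))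

/-- Level 2. -/
def lv2 : Lv :=
  ⟨4, [0,1], words2, [ents2_0,ents2_1,.nil,.nil]⟩

/-- Transversal of level 3. -/
def words3 : Arr (List ℕ) :=
  (.node [] (.node [0] .nil .nil) (.node [0,0] .nil .nil))

/-- Table of generator 0 at level 3. -/
def ents3_0 : Arr Ent :=
  (.node ⟨1,[],[],0,0,0,[]⟩ (.node ⟨2,[],[],0,0,0,[]⟩ .nil .nil) (.node ⟨0,[],[1],19,2,0,[0,0,0,0]⟩ .nil .nil))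

/-- Level 3. -/
def lv3 : Lv :=
  ⟨3, [0], words3, [ents3_0,.nil,.nil,.nil]⟩

/-- The certificate. -/
def cert : Cert where
  D := [lv0,lv1,lv2,lv3]
  rels := [(0, [0,0,0]),
    (0, [0,1,0,1,0,1]),
    (0, [0,1,3,0,3,1,2,0,3,2,1,3,1]),
    (0, [0,1,3,1,0,0,3,2,1,3,1,2,3]),
    (0, [0,1,3,2,0,3,0,2,3,1,3,1]),
    (0, [0,2,3,0,3,1,0,1,3,2,3]),
    (0, [0,3,0,3,2,3,0,3,1,3,2,3]),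
    (0, [0,3,1,3,1,3,0,0,3,1,3,1,3]),
    (0, [1,1]),
    (0, [2,2]),
    (0, [2,3,2,1,0,2,3,2,0,0,1]),
    (0, [3,3]),
    (1, [0,0,0]),
    (1, [0,1,0,1,0,1]),
    (1, [0,2,1,0,2,0,2,1,0,0,0,0,2]),
    (1, [1,1]),
    (1, [2,1,2,1,2,1,2,1,2,1]),
    (1, [2,2])]
  seeds := [(0, 0, 297)]
  comms := [[(0, 1),(2, 3),(1, 2),(2, 0),(0, 3),(2, 0)],
    [(0, 1),(0, 2),(0, 1),(0, 2),(0, 2)],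
    [(0, 1),(0, 2),(0, 1),(0, 2),(1, 2),(2, 0),(2, 1)],
    [(1, 3),(3, 2),(1, 3),(2, 3),(2, 3)]]
  pows := [(3, 12),(2, 15),(2, 17),(2, 11)]
  rows := [(0, 0, [33,140,0,1]),
    (0, 0, [47,0,0,0]),
    (0, 0, [60,0,0,0]),
    (0, 4, [0,13,2,0]),
    (0, 7, [0,0,0,0]),
    (0, 6, [186,0,0,0]),
    (0, 0, [37,0,0,0]),
    (0, 0, [66,0,0,0]),
    (0, 5, [16,0,0,0]),
    (0, 5, [151,0,0,0]),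
    (0, 1, [13,37,2,2]),
    (0, 5, [45,0,0,0]),
    (0, 10, [4,0,0,0]),
    (0, 1, [261,0,0,0]),
    (0, 6, [224,0,0,0]),
    (0, 12, [79,0,0]),
    (0, 1, [307,58,0,2]),
    (1, 2, [0,0,0,0]),
    (1, 0, [0,0,0,0]),
    (1, 1, [0,0,0,0]),
    (0, 2, [87,145,1,2]),
    (0, 5, [117,22,1,2]),
    (1, 3, [7,0,0,0])]
  piv := 17
  ord := 2
  combos := [(1, [-109148689085,340285556070,38561884103,-44915267216,-37832593,-12863678042,-32051589174,57722816414,-108938439011,-108987745182,3721225,-32064613562,-327750587143,-192801978411,25703167948,6435870315,-12841350579,2,-3,0,620205,620205]),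
    (1, [463965639912,-1446474599303,-163917583093,190924333652,160817291,54680497251,136243836401,-245366241135,463071917511,463281507167,-15818099,136299199794,1393191367058,819556279991,-109258176792,-27357384859,54585588626,2,-3,-3,-2636349,-2636349]),
    (1, [-1846435044799532,5756506865728820,652339621704799,-759817862262160,-640001239453,-217610912474460,-542206949787700,976479264695586,-1842878316596096,-1843712416566210,62950941400,-542427278085309,-5544456619756582,-3261572206660425,434812643826078,108873653089298,-217233206823558,0,-3,-4,10491823572,10491823570,-4]),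
    (0, [-1845670175584228,5754122284207346,652069395846673,-759503114503414,-639736124641,-217520769098776,-541982345404638,976074766887312,-1842114920723843,-1842948675175554,62924864541,-542202582433181,-5542159878154289,-3260221129523463,434632526574391,108828553151540,-217143219909102,-2,-3,-4,10487477428,10487477426,-4]),
    (1, [-1847281408719815,5759145517833617,652638639382666,-760166145526347,-640294601536,-217710660378172,-542455485148175,976926860629463,-1843723050192618,-1844557532495174,62979796684,-542675914439327,-5546998072841248,-3263067237339541,435011952074077,108923558301021,-217332781595519,0,-3,-3,10496632786,10496632784,-4]),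
    (0, [-1846871731476645,5757868294532648,652493901717163,-759997561157219,-640152601468,-217662378019727,-542335183137492,976710204574089,-1843314162097385,-1844148459334248,62965829469,-542555563543380,-5545767898127610,-3262343576946769,434915478144103,108899401990639,-217284583040390,-2,-3,-2,10494304916,10494304914,-4]),
    (0, [-2770355281804353,8636951104848735,978757699389189,-1140015964198423,-960245430440,-326499186879149,-813516777319274,1465090524651656,-2765018835881670,-2766270303277683,94450369925,-813847353618239,-8318795033997523,-4893599596236516,652384446347910,163351914671889,-325932484655701,-2,-3,-1,15741728328,15741728325,-6]),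
    (1, [-2770368887057185,8636993521034499,978762506081839,-1140021562832575,-960250146132,-326500790321065,-813520772511510,1465097719731670,-2765032414927637,-2766283888469685,94450833757,-813851350433861,-8318835887713944,-4893623628771120,652387650216877,163352716895376,-325934085314621,2,-3,-4,15741805635,15741805632,-6]),
    (1, [-90193,281528,31983,-37190,32,-10570,-26620,47954,-90408,-90508,-5,-26565,-270806,-159256,21234,5314,-10622,2,0,-2]),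
    (1, [27236958807,-84914842156,-9622730816,11208153720,9440726,3210001606,7998152114,-14404149003,27184493134,27196797031,-928596,8001402200,81786866530,48111796888,-6413967338,-1606006782,3204430030,0,0,0,-154766,-154766]),
    (0, [-923456393863358,2878998146427511,326254203379902,-380007228011545,-320083416037,-108833608344297,-271173619667248,488365958498300,-921677569631467,-922094727523273,31483614612,-271283812319645,-2772945590712110,-1631208049679963,217462573191905,54450911420774,-108644706655503,-4,-3,-2,5247269103,5247269102,-2]),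
    (0, [-923456300025698,2878997853875122,326254170227188,-380007189396739,-320083383580,-108833597285213,-271173592111526,488365908872252,-921677475973936,-922094633823219,31483611404,-271283784752872,-2772945308936730,-1631207883923305,217462551094307,54450905887697,-108644695615462,0,0,0,5247268570,5247268569,-2]),
    (1, [13147419,-40989988,-4645129,5410328,4487,1549422,3860906,-6953254,13122573,13128662,-455,3862398,39479852,23224391,-3096060,-775237,1546805,2,-3,0,-75,-75]),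
    (1, [-323293,1007939,114297,-133102,-59,-38029,-95073,171224,-323041,-323210,1,-95031,-970407,-570759,76118,19056,-38054,2,-3,-3,1,1]),
    (0, [-245748,766219,86819,-101152,-85,-28887,-72265,130118,-245503,-245622,16,-72198,-737825,-433969,57852,14496,-28944,-4,-7,-2,1,1]),
    (1, [-90193,281528,31984,-37190,32,-10570,-26620,47954,-90408,-90508,-5,-26565,-270806,-159256,21234,5314,-10622,2,0,-2]),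
    (0, [-93294,293985,33554,-38740,220,-10695,-28045,50535,-94985,-95455,13,-27695,-282000,-165850,21955,5520,-11045,-5,0,-5]),
    (1, []),
    (0, [413329028327717,-1288608227012564,-146027829540008,170087098162080,143265852378,48712738235744,121374359926336,-218587286238519,412532845966975,412719561297719,-14091723146,121423680957944,1241140257656922,730110964258762,-97333880270207,-24371635151010,48628187896334,3,2,1,-2348620524,-2348620524,1])]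
  ordCombo := [52876,-163934,-18562,21694,56,6292,15402,-27740,52414,52326,10,15487,158006,92916,-12452,-3106,6204,-4]

end Cfsg.Agent.JankoTwo.Mult
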