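import Cfsg.Agent.StemCert.Perm
import Cfsg.Agent.JankoTwo.Mult.Data
import Cfsg.Agent.JankoTwo.Mult.Codes
import Cfsg.Agent.JankoTwo.FusionCheck
import Cfsg.Agent.JankoTwo.Chunks

/-! Checks of the multiplier certificate of `J₂`. -/

set_option autoImplicit false
set_option maxHeartbeats 0

namespace Cfsg.Agent.JankoTwo.Mult

open Cfsg.Agent.Compute Cfsg.Agent.StemCert

/-- The base. -/
def basePts : List ℕ := [0, 1, 2, 3]

/-- The codes agree with the words in the reflections. -/
noncomputable def codeAt (s : ℕ) : Bool :=
  allB (fun t => Nat.blt t 4) (newWords.getD s []) &&
    allBelow 315 fun x => Nat.beq (appW 9 genCodes (newWords.getD s []) x) (getField 9 (newCodes.getD s 0) x)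

/-- The reflections are products of the new generators, on the base. -/
noncomputable def backCheck : Bool :=
  allBelow 4 fun t => allB (fun s => Nat.blt s 4) (oldWords.getD t []) &&
    allB (fun x => Nat.beq (appW 9 newCodes (oldWords.getD t []) x) (getField 9 (genCodes.getD t 0) x)) basePts

/-- The product of the listed reflections on a vector. -/
def negApp (v : V3) : V3 := negWord.foldr (fun i r => V3.refl (axI i) r) v

/-- The lattice condition along the product. -/
def negLat : List ℕ → V3 → Bool
  | [], v => v.lat
  | i :: l, v => Nat.blt i 315 && negLat l v && (l.foldr (fun i r => V3.refl (axI i) r) v).lat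

/-- The product is trivial on the axes and non-trivial on the lattice. -/
noncomputable def negCheck : Bool :=
  allB (fun x => Nat.beq (appT negWord x) x) basePts && negLat negWord (twoE 0) &&
    !(negApp (twoE 0)).beq (twoE 0)

theorem codeAt_ok : allBelow 4 codeAt = true := by decide +kernel

theorem backCheck_ok : backCheck = true := by decide +kernel

theorem negCheck_ok : negCheck = true := by decide +kernel

theorem wf_ok : wfB cert.D = true := by decide +kernel

theorem gensBelow_ok : gensBelow 4 cert.D = true := by decide +kernel

theorem faith_ok : faithB 9 newCodes cert.D basePts = true := by decide +kernel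

theorem table_ok : allBelow 4 (cert.tableAt 9 newCodes basePts) = true := by decide +kernel

theorem commAt_ok : allBelow 4 (cert.commAt 9 newCodes basePts) = true := by decide +kernel

theorem top_ok : cert.topOK 4 = true := by decide +kernel

theorem rel_ok : allBelow cert.nRel cert.relOK = true := by decide +kernel

theorem pow_ok : allBelow 4 cert.powOK = true := by decide +kernel

theorem comm_ok : allBelow 4 cert.commOK = true := by decide +kernel

theorem lv0_ok : cert.lvOK 0 = true := by decide +kernel

theorem lv1_ok : cert.lvOK 1 = true := by decide +kernel

theorem lv2_ok : cert.lvOK 2 = true := by decide +kernel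

theorem lv3_ok : cert.lvOK 3 = true := by decide +kernel

theorem row_ok : allB cert.rowOK cert.rows = true := by decide +kernel

theorem basis_ok : allBelow cert.dim cert.basisOK = true := by decide +kernel

theorem order_ok : cert.ordOK = true := by decide +kernel

theorem len_ok : cert.D.length = 4 ∧ cert.ord = 2 := by decide +kernel

end Cfsg.Agent.JankoTwo.Mult
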