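import Cfsg.Agent.JankoTwo.Mult.Check
import Cfsg.Agent.JankoTwo.Outer

/-! The Schur multiplier of `J₂` has order 2. -/

set_option autoImplicit false

namespace Cfsg.Agent.JankoTwo.Mult

open Cfsg.Spor Cfsg.Agent.Compute Cfsg.Agent.StemCert Quaternion
open scoped commutatorElement

/-- The four reflections, in `K`. -/
noncomputable def oldG (t : ℕ) : K315 :=
  if h : t < 4 then piJ.rangeRestrict (genR ⟨t, h⟩) else 1

/-- The new generators. -/
noncomputable def newG (s : ℕ) : K315 := evalW oldG (newWords.getD s [])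

theorem oldG_coded : Coded (w := 9) (k := 4) K315.subtype oldG genCodes := by
  intro t ht x
  rw [oldG, dif_pos ht, Subgroup.coe_subtype, MonoidHom.coe_rangeRestrict, piJ_genR]
  exact den_apply (genC_ok ⟨t, ht⟩) x

theorem newG_coded : Coded (w := 9) (k := 4) K315.subtype newG newCodes := by
  intro s hs x
  have h := allBelow_eq_true.mp codeAt_ok s hs
  simp only [codeAt, Bool.and_eq_true] at h
  rw [newG, appW_spec oldG_coded _ (fun t ht => by simpa [Nat.blt_eq] using allB_spec h.1 t ht)]
  exact Nat.eq_of_beq_eq_true (allBelow_eq_true.mp h.2 x x.2)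

theorem isBase : IsBase (G := K315) K315.subtype basePts := by
  refine ⟨fun b hb => ?_, fun σ h => Subtype.ext ?_⟩
  · simp only [basePts, List.mem_cons, List.not_mem_nil, or_false] at hb
    omega
  · exact eq_one_of_fix σ.2 (h 0 (by simp [basePts])) (h 1 (by simp [basePts]))
      (h 2 (by simp [basePts])) (h 3 (by simp [basePts]))

theorem oldG_eq (t : ℕ) (ht : t < 4) : evalW newG (oldWords.getD t []) = oldG t := by
  have h := allBelow_eq_true.mp backCheck_ok t ht
  simp only [Bool.and_eq_true] at h
  refine (inv_mul_eq_one.mp (isBase.2 _ fun x hx => ?_))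
  have he : K315.subtype (evalW newG (oldWords.getD t [])) x = K315.subtype (oldG t) x := Fin.ext (by
    rw [appW_spec newG_coded _ (fun s hs => by simpa [Nat.blt_eq] using allB_spec h.1 s hs),
      oldG_coded t ht]
    exact Nat.eq_of_beq_eq_true (allB_spec h.2 _ hx))
  rw [map_mul, map_inv, Equiv.Perm.mul_apply, Equiv.Perm.inv_eq_iff_eq, he]

theorem newG_generates (x : K315) : x ∈ Submonoid.closure (newG '' {s | s < 4}) := by
  have h0 : x ∈ Subgroup.closure (Set.range fun k => piJ.rangeRestrict (genR k)) :=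
    closure_gens ▸ Subgroup.mem_top x
  rw [← Subgroup.mem_toSubmonoid, Subgroup.closure_toSubmonoid_of_finite] at h0
  refine Submonoid.closure_le.mpr ?_ h0
  rintro _ ⟨k, rfl⟩
  have hk : oldG k = piJ.rangeRestrict (genR k) := by rw [oldG, dif_pos k.2]
  show piJ.rangeRestrict (genR k) ∈ _
  rw [← hk, ← oldG_eq k k.2]
  refine list_prod_mem fun y hy => ?_
  obtain ⟨s, hs, rfl⟩ := List.mem_map.mp hy
  have h := allBelow_eq_true.mp backCheck_ok k k.2
  simp only [Bool.and_eq_true] at h
  exact Submonoid.subset_closure ⟨s, by simpa [Nat.blt_eq] using allB_spec h.1 s hs, rfl⟩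

theorem checked : cert.Checked 4 where
  wf := wf_ok
  top := top_ok
  rel := rel_ok
  pow := pow_ok
  comm := comm_ok
  lv := fun i hi => by
    rw [len_ok.1] at hi
    interval_cases i
    exacts [lv0_ok, lv1_ok, lv2_ok, lv3_ok]
  row := row_ok
  basis := basis_ok
  order := order_ok
  piv_lt := by rw [len_ok.2]; norm_num

/-- The bound. -/
theorem kernel_image_K315 {Γ : Type} [Group Γ] [Finite Γ] (σ : Γ →* K315)
    (hσ : Cfsg.IsStemExtension σ) :
    ∃ π : Multiplicative (ZMod 2) →* σ.ker, Function.Surjective π := by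
  have h := kernel_image newG checked
    (tableOK_of_check newG_coded isBase wf_ok gensBelow_ok fun i hi =>
      allBelow_eq_true.mp table_ok i (len_ok.1 ▸ hi))
    (faithful_of_check newG_coded wf_ok gensBelow_ok isBase.1 faith_ok) newG_generates
    (commProd_of_check newG_coded isBase pow_ok gensBelow_ok comm_ok commAt_ok) (dvd_zero _) σ hσ
  rwa [len_ok.2] at h

/-- The product of the listed reflections. -/
theorem neg_mem_commutator : negOne ∈ commutator twoJ2 := by
  have hc := negCheck_ok
  simp only [negCheck, Bool.and_eq_true, Bool.not_eq_true'] at hc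
  obtain ⟨⟨hfix, hlat⟩, hne⟩ := hc
  have main : ∀ l : List ℕ, negLat l (twoE 0) = true → ∃ z : twoJ2,
      (∀ x : Fin 315, ((piJ z) x : ℕ) = appT l x) ∧
      (((z : Equiv.Perm icoLeech) (twoP 0) : icoLeech) : Fin 3 → ℍ[ℝ]) = (l.foldr (fun i r => V3.refl (axI i) r) (twoE 0)).q ∧
      ∀ i0 : Fin 315, (if Even l.length then z else z * ⟨refl315 i0, refl315_mem i0⟩) ∈
        commutator twoJ2 := by
    intro l
    induction l with
    | nil =>
      intro _
      exact ⟨1, fun x => by simp [appT], rfl, fun i0 => by simp⟩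
    | cons i l ih =>
      intro h
      have h' : (Nat.blt i 315 && negLat l (twoE 0) &&
          (l.foldr (fun i r => V3.refl (axI i) r) (twoE 0)).lat) = true := h
      simp only [Bool.and_eq_true, Nat.blt_eq] at h'
      obtain ⟨⟨hi, hl⟩, hv⟩ := h'
      obtain ⟨z, hz1, hz2, hz3⟩ := ih hl
      let r : twoJ2 := ⟨refl315 ⟨i, hi⟩, refl315_mem _⟩
      refine ⟨r * z, fun x => ?_, ?_, fun i0 => ?_⟩
      · rw [map_mul, Equiv.Perm.mul_apply, show piJ r = (tR ⟨i, hi⟩ : Equiv.Perm (Fin 315)) from rfl,
          tbl_apply, hz1]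
        rfl
      · rw [List.foldr_cons, q_refl (axis_spec (axI_mem hi)).1 hv, ← hz2]
        rfl
      · let r0 : twoJ2 := ⟨refl315 i0, refl315_mem i0⟩
        have hrr : ∀ (a b : Fin 315),
            (⟨refl315 a, refl315_mem a⟩ : twoJ2) * ⟨refl315 b, refl315_mem b⟩ ∈ commutator twoJ2 := by
          intro a b
          obtain ⟨g, hg⟩ := piJ_trans b a
          have e : (⟨refl315 a, refl315_mem a⟩ : twoJ2) = g * ⟨refl315 b, refl315_mem b⟩ * g⁻¹ :=
            Subtype.ext ((congrArg refl315 hg).symm.trans (piJ_spec g b))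
          have hsq : (⟨refl315 b, refl315_mem b⟩ : twoJ2)⁻¹ = ⟨refl315 b, refl315_mem b⟩ := by
            refine inv_eq_of_mul_eq_one_right (Subtype.ext ?_)
            ext x : 1
            exact Subtype.ext (qrefl_qrefl (axP_norm b) x)
          rw [e]
          conv =>
            arg 2
            arg 2
            rw [← hsq]
          rw [← commutatorElement_def, commutator_def]
          exact Subgroup.commutator_mem_commutator (Subgroup.mem_top _) (Subgroup.mem_top _)
        by_cases hev : Even l.length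
        · have := hz3 i0
          rw [if_pos hev] at this
          rw [if_neg (by simpa [Nat.even_add_one] using hev)]
          have hn : (commutator twoJ2).Normal := inferInstance
          have h2 := (commutator twoJ2).mul_mem (hrr ⟨i, hi⟩ i0) (hn.conj_mem _ this r0⁻¹)
          rw [inv_inv] at h2
          convert h2 using 1
          show r * z * r0 = r * r0 * (r0⁻¹ * z * r0)
          group
        · have := hz3 ⟨i, hi⟩
          rw [if_neg hev] at this
          rw [if_pos (by simpa [Nat.even_add_one] using hev)]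
          have hn : (commutator twoJ2).Normal := inferInstance
          have h2 := hn.conj_mem _ this r
          convert h2 using 1
          simp [r, mul_assoc]
  obtain ⟨z, hz1, hz2, hz3⟩ := main negWord hlat
  have hker : z ∈ piJ.ker := by
    have hfix' : ∀ y : Fin 315, (y : ℕ) ∈ basePts → piJ z y = y := fun y hy =>
      Fin.ext ((hz1 y).trans (Nat.eq_of_beq_eq_true (allB_spec hfix _ hy)))
    exact MonoidHom.mem_ker.mpr (eq_one_of_fix ⟨z, rfl⟩ (hfix' 0 (by simp [basePts]))
      (hfix' 1 (by simp [basePts])) (hfix' 2 (by simp [basePts])) (hfix' 3 (by simp [basePts])))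
  rcases center_cases (ker_piJ ▸ hker) with h | h
  · exfalso
    subst h
    have he : (negApp (twoE 0)) = twoE 0 := v3_q_inj (hz2.symm.trans rfl)
    rw [he, v3_beq_iff.mpr rfl] at hne
    exact absurd hne (by simp)
  · have := hz3 0
    rwa [if_pos (by decide), h] at this

theorem finite_twoJ2 : Finite twoJ2 :=
  Nat.finite_of_card_ne_zero (by rw [card_twoJ2]; norm_num)

theorem multiplier_J2 : Cfsg.HasCyclicSchurMultiplier J2 2 := by
  have := finite_twoJ2
  refine ⟨⟨twoJ2, inferInstance, inferInstance, QuotientGroup.mk' (Subgroup.center twoJ2),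
    ⟨QuotientGroup.mk'_surjective _, ?_, ?_⟩, ?_⟩, fun Γ _ _ σ hσ => ?_⟩
  · rw [QuotientGroup.ker_mk']
  · rw [QuotientGroup.ker_mk']
    intro z hz
    rcases center_cases hz with rfl | rfl
    exacts [one_mem _, neg_mem_commutator]
  · rw [QuotientGroup.ker_mk']
    have h2 : Nat.card (Subgroup.center twoJ2) = 2 := card_center
    have : Fact (Nat.Prime 2) := ⟨Nat.prime_two⟩
    have := isCyclic_of_prime_card h2
    exact ⟨mulEquivOfCyclicCardEq (by rw [h2]; simp)⟩
  · obtain ⟨hs, hc, hm⟩ := hσ
    have hk : (j2Equiv.toMonoidHom.comp σ).ker = σ.ker := by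
      ext x
      simp [MonoidHom.mem_ker]
    obtain ⟨π, hπ⟩ := kernel_image_K315 (j2Equiv.toMonoidHom.comp σ)
      ⟨j2Equiv.surjective.comp hs, hk ▸ hc, hk ▸ hm⟩
    exact ⟨(MulEquiv.subgroupCongr hk).toMonoidHom.comp π,
      (MulEquiv.subgroupCongr hk).surjective.comp hπ⟩

end Cfsg.Agent.JankoTwo.Mult
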